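import Groth.Agent.Lib.helper4.NTRelabel

/-!
# Genus one classification on 6 indices: the goal and its invariance under relabeling (helper4)
Generated file.
-/

set_option autoImplicit false

namespace Groth.Agent.Lib.helper4.G6

open Groth.Agent.Lib.helper4

/-- The classification statement for given indices. -/
def Goali (T : Models.NumericalType 6) (i0 i1 i2 i3 i4 i5 : Fin 6) (m w : ℤ) : Prop :=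
  ((T.m i0 = m ∧ T.m i1 = m ∧ T.m i2 = m ∧ T.m i3 = m ∧ T.m i4 = m ∧ T.m i5 = m ∧ T.w i0 = w ∧ T.w i1 = w ∧ T.w i2 = w ∧ T.w i3 = w ∧ T.w i4 = w ∧ T.w i5 = w ∧ T.a i0 i0 = -2 * w ∧ T.a i0 i1 = w ∧ T.a i0 i2 = 0 ∧ T.a i0 i3 = 0 ∧ T.a i0 i4 = 0 ∧ T.a i0 i5 = w ∧ T.a i1 i1 = -2 * w ∧ T.a i1 i2 = w ∧ T.a i1 i3 = 0 ∧ T.a i1 i4 = 0 ∧ T.a i1 i5 = 0 ∧ T.a i2 i2 = -2 * w ∧ T.a i2 i3 = w ∧ T.a i2 i4 = 0 ∧ T.a i2 i5 = 0 ∧ T.a i3 i3 = -2 * w ∧ T.a i3 i4 = w ∧ T.a i3 i5 = 0 ∧ T.a i4 i4 = -2 * w ∧ T.a i4 i5 = w ∧ T.a i5 i5 = -2 * w) ∨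
  (T.m i0 = 2 * m ∧ T.m i1 = 2 * m ∧ T.m i2 = 2 * m ∧ T.m i3 = 2 * m ∧ T.m i4 = 2 * m ∧ T.m i5 = m ∧ T.w i0 = w ∧ T.w i1 = 2 * w ∧ T.w i2 = 2 * w ∧ T.w i3 = 2 * w ∧ T.w i4 = 2 * w ∧ T.w i5 = 4 * w ∧ T.a i0 i0 = -2 * w ∧ T.a i0 i1 = 2 * w ∧ T.a i0 i2 = 0 ∧ T.a i0 i3 = 0 ∧ T.a i0 i4 = 0 ∧ T.a i0 i5 = 0 ∧ T.a i1 i1 = -4 * w ∧ T.a i1 i2 = 2 * w ∧ T.a i1 i3 = 0 ∧ T.a i1 i4 = 0 ∧ T.a i1 i5 = 0 ∧ T.a i2 i2 = -4 * w ∧ T.a i2 i3 = 2 * w ∧ T.a i2 i4 = 0 ∧ T.a i2 i5 = 0 ∧ T.a i3 i3 = -4 * w ∧ T.a i3 i4 = 2 * w ∧ T.a i3 i5 = 0 ∧ T.a i4 i4 = -4 * w ∧ T.a i4 i5 = 4 * w ∧ T.a i5 i5 = -8 * w) ∨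
  (T.m i0 = m ∧ T.m i1 = m ∧ T.m i2 = m ∧ T.m i3 = m ∧ T.m i4 = m ∧ T.m i5 = m ∧ T.w i0 = w ∧ T.w i1 = 2 * w ∧ T.w i2 = 2 * w ∧ T.w i3 = 2 * w ∧ T.w i4 = 2 * w ∧ T.w i5 = w ∧ T.a i0 i0 = -2 * w ∧ T.a i0 i1 = 2 * w ∧ T.a i0 i2 = 0 ∧ T.a i0 i3 = 0 ∧ T.a i0 i4 = 0 ∧ T.a i0 i5 = 0 ∧ T.a i1 i1 = -4 * w ∧ T.a i1 i2 = 2 * w ∧ T.a i1 i3 = 0 ∧ T.a i1 i4 = 0 ∧ T.a i1 i5 = 0 ∧ T.a i2 i2 = -4 * w ∧ T.a i2 i3 = 2 * w ∧ T.a i2 i4 = 0 ∧ T.a i2 i5 = 0 ∧ T.a i3 i3 = -4 * w ∧ T.a i3 i4 = 2 * w ∧ T.a i3 i5 = 0 ∧ T.a i4 i4 = -4 * w ∧ T.a i4 i5 = 2 * w ∧ T.a i5 i5 = -2 * w) ∨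
  (T.m i0 = m ∧ T.m i1 = 2 * m ∧ T.m i2 = 2 * m ∧ T.m i3 = 2 * m ∧ T.m i4 = 2 * m ∧ T.m i5 = m ∧ T.w i0 = 2 * w ∧ T.w i1 = w ∧ T.w i2 = w ∧ T.w i3 = w ∧ T.w i4 = w ∧ T.w i5 = 2 * w ∧ T.a i0 i0 = -4 * w ∧ T.a i0 i1 = 2 * w ∧ T.a i0 i2 = 0 ∧ T.a i0 i3 = 0 ∧ T.a i0 i4 = 0 ∧ T.a i0 i5 = 0 ∧ T.a i1 i1 = -2 * w ∧ T.a i1 i2 = w ∧ T.a i1 i3 = 0 ∧ T.a i1 i4 = 0 ∧ T.a i1 i5 = 0 ∧ T.a i2 i2 = -2 * w ∧ T.a i2 i3 = w ∧ T.a i2 i4 = 0 ∧ T.a i2 i5 = 0 ∧ T.a i3 i3 = -2 * w ∧ T.a i3 i4 = w ∧ T.a i3 i5 = 0 ∧ T.a i4 i4 = -2 * w ∧ T.a i4 i5 = 2 * w ∧ T.a i5 i5 = -4 * w) ∨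
  (T.m i0 = m ∧ T.m i1 = 2 * m ∧ T.m i2 = 2 * m ∧ T.m i3 = 2 * m ∧ T.m i4 = m ∧ T.m i5 = m ∧ T.w i0 = 2 * w ∧ T.w i1 = w ∧ T.w i2 = w ∧ T.w i3 = w ∧ T.w i4 = w ∧ T.w i5 = w ∧ T.a i0 i0 = -4 * w ∧ T.a i0 i1 = 2 * w ∧ T.a i0 i2 = 0 ∧ T.a i0 i3 = 0 ∧ T.a i0 i4 = 0 ∧ T.a i0 i5 = 0 ∧ T.a i1 i1 = -2 * w ∧ T.a i1 i2 = w ∧ T.a i1 i3 = 0 ∧ T.a i1 i4 = 0 ∧ T.a i1 i5 = 0 ∧ T.a i2 i2 = -2 * w ∧ T.a i2 i3 = w ∧ T.a i2 i4 = 0 ∧ T.a i2 i5 = 0 ∧ T.a i3 i3 = -2 * w ∧ T.a i3 i4 = w ∧ T.a i3 i5 = w ∧ T.a i4 i4 = -2 * w ∧ T.a i4 i5 = 0 ∧ T.a i5 i5 = -2 * w) ∨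
  (T.m i0 = 2 * m ∧ T.m i1 = 2 * m ∧ T.m i2 = 2 * m ∧ T.m i3 = 2 * m ∧ T.m i4 = m ∧ T.m i5 = m ∧ T.w i0 = w ∧ T.w i1 = 2 * w ∧ T.w i2 = 2 * w ∧ T.w i3 = 2 * w ∧ T.w i4 = 2 * w ∧ T.w i5 = 2 * w ∧ T.a i0 i0 = -2 * w ∧ T.a i0 i1 = 2 * w ∧ T.a i0 i2 = 0 ∧ T.a i0 i3 = 0 ∧ T.a i0 i4 = 0 ∧ T.a i0 i5 = 0 ∧ T.a i1 i1 = -4 * w ∧ T.a i1 i2 = 2 * w ∧ T.a i1 i3 = 0 ∧ T.a i1 i4 = 0 ∧ T.a i1 i5 = 0 ∧ T.a i2 i2 = -4 * w ∧ T.a i2 i3 = 2 * w ∧ T.a i2 i4 = 0 ∧ T.a i2 i5 = 0 ∧ T.a i3 i3 = -4 * w ∧ T.a i3 i4 = 2 * w ∧ T.a i3 i5 = 2 * w ∧ T.a i4 i4 = -4 * w ∧ T.a i4 i5 = 0 ∧ T.a i5 i5 = -4 * w) ∨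
  (T.m i0 = m ∧ T.m i1 = m ∧ T.m i2 = 2 * m ∧ T.m i3 = 2 * m ∧ T.m i4 = m ∧ T.m i5 = m ∧ T.w i0 = w ∧ T.w i1 = w ∧ T.w i2 = w ∧ T.w i3 = w ∧ T.w i4 = w ∧ T.w i5 = w ∧ T.a i0 i0 = -2 * w ∧ T.a i0 i1 = 0 ∧ T.a i0 i2 = w ∧ T.a i0 i3 = 0 ∧ T.a i0 i4 = 0 ∧ T.a i0 i5 = 0 ∧ T.a i1 i1 = -2 * w ∧ T.a i1 i2 = w ∧ T.a i1 i3 = 0 ∧ T.a i1 i4 = 0 ∧ T.a i1 i5 = 0 ∧ T.a i2 i2 = -2 * w ∧ T.a i2 i3 = w ∧ T.a i2 i4 = 0 ∧ T.a i2 i5 = 0 ∧ T.a i3 i3 = -2 * w ∧ T.a i3 i4 = w ∧ T.a i3 i5 = w ∧ T.a i4 i4 = -2 * w ∧ T.a i4 i5 = 0 ∧ T.a i5 i5 = -2 * w))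

/-- The classification statement. -/
def Goal (T : Models.NumericalType 6) : Prop :=
  (∀ i, T.g i = 0) ∧ ∃ (σ : Equiv.Perm (Fin 6)) (m w : ℤ), Goali T (σ 0) (σ 1) (σ 2) (σ 3) (σ 4) (σ 5) m w

theorem goal_relabel (T : Models.NumericalType 6) (τ : Equiv.Perm (Fin 6)) (h : Goal (ntRelabel T τ)) : Goal T := by
  obtain ⟨hg, σ, m, w, h⟩ := h
  refine ⟨fun i => ?_, σ.trans τ, m, w, h⟩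
  have h1 := hg (τ.symm i)
  have h2 : (ntRelabel T τ).g (τ.symm i) = T.g i := by
    show T.g (τ (τ.symm i)) = T.g i
    rw [Equiv.apply_symm_apply]
  rw [← h2]
  exact h1

theorem goal_of_indices (T : Models.NumericalType 6) (hg : ∀ i, T.g i = 0) (i0 i1 i2 i3 i4 i5 : Fin 6)
    (hb : Function.Bijective ![i0, i1, i2, i3, i4, i5]) (m w : ℤ) (h : Goali T i0 i1 i2 i3 i4 i5 m w) : Goal T :=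
  ⟨hg, Equiv.ofBijective _ hb, m, w, h⟩

end Groth.Agent.Lib.helper4.G6
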