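import Groth.Agent.Lib.helper4.G6.Defs

/-!
# Genus one classification on 6 indices: generated case analysis, part 0 (helper4)
-/

set_option autoImplicit false
set_option maxHeartbeats 1000000
set_option linter.unusedVariables false

namespace Groth.Agent.Lib.helper4.G6

open Groth.Agent.Lib.helper4

theorem nd_120 (T : Models.NumericalType 6)
    (hG : NTGood T)
    (hmax : ∀ j, T.m j ≤ T.m 0)
    (e_0_1 : T.picMatrix 0 1 = 1)
    (e_0_2 : T.picMatrix 0 2 = 1)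
    (e_0_3 : T.picMatrix 0 3 = 1)
    (e_1_0 : T.picMatrix 1 0 = 1)
    (e_1_2 : T.picMatrix 1 2 = 0)
    (e_1_3 : T.picMatrix 1 3 = 0)
    (e_2_0 : T.picMatrix 2 0 = 1)
    (e_2_1 : T.picMatrix 2 1 = 0)
    (e_2_3 : T.picMatrix 2 3 = 0)
    (e_3_0 : T.picMatrix 3 0 = 1)
    (e_3_1 : T.picMatrix 3 1 = 0)
    (e_3_2 : T.picMatrix 3 2 = 0)
    (cl : ∀ a b : Fin 6, a.val < 4 → 4 ≤ b.val → T.picMatrix a b = 0) :
    Goal T := by
  obtain ⟨hg0, hdA, hdP, hnn, hrow, hsym, hpair⟩ := ntgood_data T (by norm_num) hG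
  have hm_0 := T.m_pos 0
  have hw_0 := T.w_pos 0
  have hm_1 := T.m_pos 1
  have hw_1 := T.w_pos 1
  have hm_2 := T.m_pos 2
  have hw_2 := T.w_pos 2
  have hm_3 := T.m_pos 3
  have hw_3 := T.w_pos 3
  have hx_1 := hmax 1
  have hx_2 := hmax 2
  have hx_3 := hmax 3
  have Z_0_4 := cl 0 4 (by decide) (by decide)
  have Z_0_5 := cl 0 5 (by decide) (by decide)
  have Z_1_4 := cl 1 4 (by decide) (by decide)
  have Z_1_5 := cl 1 5 (by decide) (by decide)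
  have Z_2_4 := cl 2 4 (by decide) (by decide)
  have Z_2_5 := cl 2 5 (by decide) (by decide)
  have Z_3_4 := cl 3 4 (by decide) (by decide)
  have Z_3_5 := cl 3 5 (by decide) (by decide)
  have R_0 := hrow 0
  rw [Fin.sum_univ_six, hdP 0, e_0_1, e_0_2, e_0_3, Z_0_4, Z_0_5] at R_0
  have R_1 := hrow 1
  rw [Fin.sum_univ_six, hdP 1, e_1_0, e_1_2, e_1_3, Z_1_4, Z_1_5] at R_1
  have R_2 := hrow 2
  rw [Fin.sum_univ_six, hdP 2, e_2_0, e_2_1, e_2_3, Z_2_4, Z_2_5] at R_2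
  have R_3 := hrow 3
  rw [Fin.sum_univ_six, hdP 3, e_3_0, e_3_1, e_3_2, Z_3_4, Z_3_5] at R_3
  have S_0_1 := hsym 0 1
  rw [e_0_1, e_1_0] at S_0_1
  have S_0_2 := hsym 0 2
  rw [e_0_2, e_2_0] at S_0_2
  have S_0_3 := hsym 0 3
  rw [e_0_3, e_3_0] at S_0_3
  have S_1_2 := hsym 1 2
  rw [e_1_2, e_2_1] at S_1_2
  have S_1_3 := hsym 1 3
  rw [e_1_3, e_3_1] at S_1_3
  have S_2_3 := hsym 2 3
  rw [e_2_3, e_3_2] at S_2_3
  exfalso
  omega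

theorem nd_124 (T : Models.NumericalType 6)
    (hG : NTGood T)
    (hmax : ∀ j, T.m j ≤ T.m 0)
    (e_0_1 : T.picMatrix 0 1 = 1)
    (e_0_2 : T.picMatrix 0 2 = 1)
    (e_0_3 : T.picMatrix 0 3 = 1)
    (e_0_4 : T.picMatrix 0 4 = 0)
    (e_1_0 : T.picMatrix 1 0 = 1)
    (e_1_2 : T.picMatrix 1 2 = 0)
    (e_1_3 : T.picMatrix 1 3 = 0)
    (e_1_4 : T.picMatrix 1 4 = 0)
    (e_2_0 : T.picMatrix 2 0 = 1)
    (e_2_1 : T.picMatrix 2 1 = 0)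
    (e_2_3 : T.picMatrix 2 3 = 0)
    (e_2_4 : T.picMatrix 2 4 = 0)
    (e_3_0 : T.picMatrix 3 0 = 1)
    (e_3_1 : T.picMatrix 3 1 = 0)
    (e_3_2 : T.picMatrix 3 2 = 0)
    (e_3_4 : T.picMatrix 3 4 = 1)
    (e_4_0 : T.picMatrix 4 0 = 0)
    (e_4_1 : T.picMatrix 4 1 = 0)
    (e_4_2 : T.picMatrix 4 2 = 0)
    (e_4_3 : T.picMatrix 4 3 = 1)
    (cl : ∀ a b : Fin 6, a.val < 5 → 5 ≤ b.val → T.picMatrix a b = 0) :
    Goal T := by
  obtain ⟨hg0, hdA, hdP, hnn, hrow, hsym, hpair⟩ := ntgood_data T (by norm_num) hG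
  have hm_0 := T.m_pos 0
  have hw_0 := T.w_pos 0
  have hm_1 := T.m_pos 1
  have hw_1 := T.w_pos 1
  have hm_2 := T.m_pos 2
  have hw_2 := T.w_pos 2
  have hm_3 := T.m_pos 3
  have hw_3 := T.w_pos 3
  have hm_4 := T.m_pos 4
  have hw_4 := T.w_pos 4
  have hx_1 := hmax 1
  have hx_2 := hmax 2
  have hx_3 := hmax 3
  have hx_4 := hmax 4
  have Z_0_5 := cl 0 5 (by decide) (by decide)
  have Z_1_5 := cl 1 5 (by decide) (by decide)
  have Z_2_5 := cl 2 5 (by decide) (by decide)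
  have Z_3_5 := cl 3 5 (by decide) (by decide)
  have Z_4_5 := cl 4 5 (by decide) (by decide)
  have R_0 := hrow 0
  rw [Fin.sum_univ_six, hdP 0, e_0_1, e_0_2, e_0_3, e_0_4, Z_0_5] at R_0
  have R_1 := hrow 1
  rw [Fin.sum_univ_six, hdP 1, e_1_0, e_1_2, e_1_3, e_1_4, Z_1_5] at R_1
  have R_2 := hrow 2
  rw [Fin.sum_univ_six, hdP 2, e_2_0, e_2_1, e_2_3, e_2_4, Z_2_5] at R_2
  have R_3 := hrow 3
  rw [Fin.sum_univ_six, hdP 3, e_3_0, e_3_1, e_3_2, e_3_4, Z_3_5] at R_3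
  have R_4 := hrow 4
  rw [Fin.sum_univ_six, hdP 4, e_4_0, e_4_1, e_4_2, e_4_3, Z_4_5] at R_4
  have S_0_1 := hsym 0 1
  rw [e_0_1, e_1_0] at S_0_1
  have S_0_2 := hsym 0 2
  rw [e_0_2, e_2_0] at S_0_2
  have S_0_3 := hsym 0 3
  rw [e_0_3, e_3_0] at S_0_3
  have S_0_4 := hsym 0 4
  rw [e_0_4, e_4_0] at S_0_4
  have S_1_2 := hsym 1 2
  rw [e_1_2, e_2_1] at S_1_2
  have S_1_3 := hsym 1 3
  rw [e_1_3, e_3_1] at S_1_3
  have S_1_4 := hsym 1 4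
  rw [e_1_4, e_4_1] at S_1_4
  have S_2_3 := hsym 2 3
  rw [e_2_3, e_3_2] at S_2_3
  have S_2_4 := hsym 2 4
  rw [e_2_4, e_4_2] at S_2_4
  have S_3_4 := hsym 3 4
  rw [e_3_4, e_4_3] at S_3_4
  exfalso
  omega

theorem nd_126 (T : Models.NumericalType 6)
    (hG : NTGood T)
    (hmax : ∀ j, T.m j ≤ T.m 0)
    (e_0_1 : T.picMatrix 0 1 = 1)
    (e_0_2 : T.picMatrix 0 2 = 1)
    (e_0_3 : T.picMatrix 0 3 = 1)
    (e_0_4 : T.picMatrix 0 4 = 0)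
    (e_0_5 : T.picMatrix 0 5 = 0)
    (e_1_0 : T.picMatrix 1 0 = 1)
    (e_1_2 : T.picMatrix 1 2 = 0)
    (e_1_3 : T.picMatrix 1 3 = 0)
    (e_1_4 : T.picMatrix 1 4 = 0)
    (e_1_5 : T.picMatrix 1 5 = 0)
    (e_2_0 : T.picMatrix 2 0 = 1)
    (e_2_1 : T.picMatrix 2 1 = 0)
    (e_2_3 : T.picMatrix 2 3 = 0)
    (e_2_4 : T.picMatrix 2 4 = 0)
    (e_2_5 : T.picMatrix 2 5 = 0)
    (e_3_0 : T.picMatrix 3 0 = 1)
    (e_3_1 : T.picMatrix 3 1 = 0)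
    (e_3_2 : T.picMatrix 3 2 = 0)
    (e_3_4 : T.picMatrix 3 4 = 1)
    (e_3_5 : T.picMatrix 3 5 = 0)
    (e_4_0 : T.picMatrix 4 0 = 0)
    (e_4_1 : T.picMatrix 4 1 = 0)
    (e_4_2 : T.picMatrix 4 2 = 0)
    (e_4_3 : T.picMatrix 4 3 = 1)
    (e_4_5 : T.picMatrix 4 5 = 1)
    (e_5_0 : T.picMatrix 5 0 = 0)
    (e_5_1 : T.picMatrix 5 1 = 0)
    (e_5_2 : T.picMatrix 5 2 = 0)
    (e_5_3 : T.picMatrix 5 3 = 0)
    (e_5_4 : T.picMatrix 5 4 = 2)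
    (cl : ∀ a b : Fin 6, a.val < 4 → 6 ≤ b.val → T.picMatrix a b = 0) :
    Goal T := by
  obtain ⟨hg0, hdA, hdP, hnn, hrow, hsym, hpair⟩ := ntgood_data T (by norm_num) hG
  have hm_0 := T.m_pos 0
  have hw_0 := T.w_pos 0
  have hm_1 := T.m_pos 1
  have hw_1 := T.w_pos 1
  have hm_2 := T.m_pos 2
  have hw_2 := T.w_pos 2
  have hm_3 := T.m_pos 3
  have hw_3 := T.w_pos 3
  have hm_4 := T.m_pos 4
  have hw_4 := T.w_pos 4
  have hm_5 := T.m_pos 5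
  have hw_5 := T.w_pos 5
  have hx_1 := hmax 1
  have hx_2 := hmax 2
  have hx_3 := hmax 3
  have hx_4 := hmax 4
  have hx_5 := hmax 5
  have R_0 := hrow 0
  rw [Fin.sum_univ_six, hdP 0, e_0_1, e_0_2, e_0_3, e_0_4, e_0_5] at R_0
  have R_1 := hrow 1
  rw [Fin.sum_univ_six, hdP 1, e_1_0, e_1_2, e_1_3, e_1_4, e_1_5] at R_1
  have R_2 := hrow 2
  rw [Fin.sum_univ_six, hdP 2, e_2_0, e_2_1, e_2_3, e_2_4, e_2_5] at R_2
  have R_3 := hrow 3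
  rw [Fin.sum_univ_six, hdP 3, e_3_0, e_3_1, e_3_2, e_3_4, e_3_5] at R_3
  have R_4 := hrow 4
  rw [Fin.sum_univ_six, hdP 4, e_4_0, e_4_1, e_4_2, e_4_3, e_4_5] at R_4
  have R_5 := hrow 5
  rw [Fin.sum_univ_six, hdP 5, e_5_0, e_5_1, e_5_2, e_5_3, e_5_4] at R_5
  have S_0_1 := hsym 0 1
  rw [e_0_1, e_1_0] at S_0_1
  have S_0_2 := hsym 0 2
  rw [e_0_2, e_2_0] at S_0_2
  have S_0_3 := hsym 0 3
  rw [e_0_3, e_3_0] at S_0_3
  have S_0_4 := hsym 0 4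
  rw [e_0_4, e_4_0] at S_0_4
  have S_0_5 := hsym 0 5
  rw [e_0_5, e_5_0] at S_0_5
  have S_1_2 := hsym 1 2
  rw [e_1_2, e_2_1] at S_1_2
  have S_1_3 := hsym 1 3
  rw [e_1_3, e_3_1] at S_1_3
  have S_1_4 := hsym 1 4
  rw [e_1_4, e_4_1] at S_1_4
  have S_1_5 := hsym 1 5
  rw [e_1_5, e_5_1] at S_1_5
  have S_2_3 := hsym 2 3
  rw [e_2_3, e_3_2] at S_2_3
  have S_2_4 := hsym 2 4
  rw [e_2_4, e_4_2] at S_2_4
  have S_2_5 := hsym 2 5
  rw [e_2_5, e_5_2] at S_2_5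
  have S_3_4 := hsym 3 4
  rw [e_3_4, e_4_3] at S_3_4
  have S_3_5 := hsym 3 5
  rw [e_3_5, e_5_3] at S_3_5
  have S_4_5 := hsym 4 5
  rw [e_4_5, e_5_4] at S_4_5
  have D_0 := hdA 0
  have A_0_1 := nt_a_eq T 0 1
  rw [e_0_1] at A_0_1
  have A_0_2 := nt_a_eq T 0 2
  rw [e_0_2] at A_0_2
  have A_0_3 := nt_a_eq T 0 3
  rw [e_0_3] at A_0_3
  have A_0_4 := nt_a_eq T 0 4
  rw [e_0_4] at A_0_4
  have A_0_5 := nt_a_eq T 0 5
  rw [e_0_5] at A_0_5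
  have D_1 := hdA 1
  have A_1_0 := nt_a_eq T 1 0
  rw [e_1_0] at A_1_0
  have A_1_2 := nt_a_eq T 1 2
  rw [e_1_2] at A_1_2
  have A_1_3 := nt_a_eq T 1 3
  rw [e_1_3] at A_1_3
  have A_1_4 := nt_a_eq T 1 4
  rw [e_1_4] at A_1_4
  have A_1_5 := nt_a_eq T 1 5
  rw [e_1_5] at A_1_5
  have D_2 := hdA 2
  have A_2_0 := nt_a_eq T 2 0
  rw [e_2_0] at A_2_0
  have A_2_1 := nt_a_eq T 2 1
  rw [e_2_1] at A_2_1
  have A_2_3 := nt_a_eq T 2 3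
  rw [e_2_3] at A_2_3
  have A_2_4 := nt_a_eq T 2 4
  rw [e_2_4] at A_2_4
  have A_2_5 := nt_a_eq T 2 5
  rw [e_2_5] at A_2_5
  have D_3 := hdA 3
  have A_3_0 := nt_a_eq T 3 0
  rw [e_3_0] at A_3_0
  have A_3_1 := nt_a_eq T 3 1
  rw [e_3_1] at A_3_1
  have A_3_2 := nt_a_eq T 3 2
  rw [e_3_2] at A_3_2
  have A_3_4 := nt_a_eq T 3 4
  rw [e_3_4] at A_3_4
  have A_3_5 := nt_a_eq T 3 5
  rw [e_3_5] at A_3_5
  have D_4 := hdA 4
  have A_4_0 := nt_a_eq T 4 0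
  rw [e_4_0] at A_4_0
  have A_4_1 := nt_a_eq T 4 1
  rw [e_4_1] at A_4_1
  have A_4_2 := nt_a_eq T 4 2
  rw [e_4_2] at A_4_2
  have A_4_3 := nt_a_eq T 4 3
  rw [e_4_3] at A_4_3
  have A_4_5 := nt_a_eq T 4 5
  rw [e_4_5] at A_4_5
  have D_5 := hdA 5
  have A_5_0 := nt_a_eq T 5 0
  rw [e_5_0] at A_5_0
  have A_5_1 := nt_a_eq T 5 1
  rw [e_5_1] at A_5_1
  have A_5_2 := nt_a_eq T 5 2
  rw [e_5_2] at A_5_2
  have A_5_3 := nt_a_eq T 5 3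
  rw [e_5_3] at A_5_3
  have A_5_4 := nt_a_eq T 5 4
  rw [e_5_4] at A_5_4
  refine goal_of_indices T hg0 5 4 3 0 1 2 (by decide) (T.m 1) (T.w 5) ?_
  unfold Goali
  exact Or.inr (Or.inr (Or.inr (Or.inr (Or.inr (Or.inl ⟨(by have h : (2 : ℤ) * (T.m 5 - (2 * T.m 1)) = 0 := (by linear_combination (6) * R_0 + (5) * R_1 + (3) * R_2 + (4) * R_3 + (2) * R_4); exact eq_of_sub_eq_zero ((mul_eq_zero.mp h).resolve_left (by norm_num))),
      (by linear_combination (2) * R_0 + (2) * R_1 + (1) * R_2 + (1) * R_3),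
      (by have h : (2 : ℤ) * (T.m 3 - (2 * T.m 1)) = 0 := (by linear_combination (2) * R_0 + (3) * R_1 + (1) * R_2); exact eq_of_sub_eq_zero ((mul_eq_zero.mp h).resolve_left (by norm_num))),
      (by linear_combination (1) * R_1),
      rfl,
      (by have h : (2 : ℤ) * (T.m 2 - (T.m 1)) = 0 := (by linear_combination (1) * R_1 + (-1) * R_2); exact eq_of_sub_eq_zero ((mul_eq_zero.mp h).resolve_left (by norm_num))),
      rfl,
      (by linear_combination (1) * S_4_5),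
      (by linear_combination (1) * S_3_4 + (1) * S_4_5),
      (by linear_combination (1) * S_0_3 + (1) * S_3_4 + (1) * S_4_5),
      (by linear_combination (-1) * S_0_1 + (1) * S_0_3 + (1) * S_3_4 + (1) * S_4_5),
      (by linear_combination (-1) * S_0_2 + (1) * S_0_3 + (1) * S_3_4 + (1) * S_4_5),
      (by linear_combination (1) * D_5),
      (by linear_combination (1) * A_5_4),
      (by linear_combination (1) * A_5_3),
      (by linear_combination (1) * A_5_0),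
      (by linear_combination (1) * A_5_1),
      (by linear_combination (1) * A_5_2),
      (by linear_combination (-2) * S_4_5 + (1) * D_4),
      (by linear_combination (1) * S_4_5 + (1) * A_4_3),
      (by linear_combination (1) * A_4_0),
      (by linear_combination (1) * A_4_1),
      (by linear_combination (1) * A_4_2),
      (by linear_combination (-2) * S_3_4 + (-2) * S_4_5 + (1) * D_3),
      (by linear_combination (1) * S_3_4 + (1) * S_4_5 + (1) * A_3_0),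
      (by linear_combination (1) * A_3_1),
      (by linear_combination (1) * A_3_2),
      (by linear_combination (-2) * S_0_3 + (-2) * S_3_4 + (-2) * S_4_5 + (1) * D_0),
      (by linear_combination (1) * S_0_3 + (1) * S_3_4 + (1) * S_4_5 + (1) * A_0_1),
      (by linear_combination (1) * S_0_3 + (1) * S_3_4 + (1) * S_4_5 + (1) * A_0_2),
      (by linear_combination (2) * S_0_1 + (-2) * S_0_3 + (-2) * S_3_4 + (-2) * S_4_5 + (1) * D_1),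
      (by linear_combination (1) * A_1_2),
      (by linear_combination (2) * S_0_2 + (-2) * S_0_3 + (-2) * S_3_4 + (-2) * S_4_5 + (1) * D_2)⟩)))))

theorem nd_127 (T : Models.NumericalType 6)
    (hG : NTGood T)
    (hmax : ∀ j, T.m j ≤ T.m 0)
    (e_0_1 : T.picMatrix 0 1 = 1)
    (e_0_2 : T.picMatrix 0 2 = 1)
    (e_0_3 : T.picMatrix 0 3 = 1)
    (e_0_4 : T.picMatrix 0 4 = 0)
    (e_0_5 : T.picMatrix 0 5 = 0)
    (e_1_0 : T.picMatrix 1 0 = 1)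
    (e_1_2 : T.picMatrix 1 2 = 0)
    (e_1_3 : T.picMatrix 1 3 = 0)
    (e_1_4 : T.picMatrix 1 4 = 0)
    (e_1_5 : T.picMatrix 1 5 = 0)
    (e_2_0 : T.picMatrix 2 0 = 1)
    (e_2_1 : T.picMatrix 2 1 = 0)
    (e_2_3 : T.picMatrix 2 3 = 0)
    (e_2_4 : T.picMatrix 2 4 = 0)
    (e_2_5 : T.picMatrix 2 5 = 0)
    (e_3_0 : T.picMatrix 3 0 = 1)
    (e_3_1 : T.picMatrix 3 1 = 0)
    (e_3_2 : T.picMatrix 3 2 = 0)
    (e_3_4 : T.picMatrix 3 4 = 1)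
    (e_3_5 : T.picMatrix 3 5 = 0)
    (e_4_0 : T.picMatrix 4 0 = 0)
    (e_4_1 : T.picMatrix 4 1 = 0)
    (e_4_2 : T.picMatrix 4 2 = 0)
    (e_4_3 : T.picMatrix 4 3 = 1)
    (e_4_5 : T.picMatrix 4 5 = 2)
    (e_5_0 : T.picMatrix 5 0 = 0)
    (e_5_1 : T.picMatrix 5 1 = 0)
    (e_5_2 : T.picMatrix 5 2 = 0)
    (e_5_3 : T.picMatrix 5 3 = 0)
    (e_5_4 : T.picMatrix 5 4 = 1)
    (cl : ∀ a b : Fin 6, a.val < 4 → 6 ≤ b.val → T.picMatrix a b = 0) :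
    Goal T := by
  obtain ⟨hg0, hdA, hdP, hnn, hrow, hsym, hpair⟩ := ntgood_data T (by norm_num) hG
  have hm_0 := T.m_pos 0
  have hw_0 := T.w_pos 0
  have hm_1 := T.m_pos 1
  have hw_1 := T.w_pos 1
  have hm_2 := T.m_pos 2
  have hw_2 := T.w_pos 2
  have hm_3 := T.m_pos 3
  have hw_3 := T.w_pos 3
  have hm_4 := T.m_pos 4
  have hw_4 := T.w_pos 4
  have hm_5 := T.m_pos 5
  have hw_5 := T.w_pos 5
  have hx_1 := hmax 1
  have hx_2 := hmax 2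
  have hx_3 := hmax 3
  have hx_4 := hmax 4
  have hx_5 := hmax 5
  have R_0 := hrow 0
  rw [Fin.sum_univ_six, hdP 0, e_0_1, e_0_2, e_0_3, e_0_4, e_0_5] at R_0
  have R_1 := hrow 1
  rw [Fin.sum_univ_six, hdP 1, e_1_0, e_1_2, e_1_3, e_1_4, e_1_5] at R_1
  have R_2 := hrow 2
  rw [Fin.sum_univ_six, hdP 2, e_2_0, e_2_1, e_2_3, e_2_4, e_2_5] at R_2
  have R_3 := hrow 3
  rw [Fin.sum_univ_six, hdP 3, e_3_0, e_3_1, e_3_2, e_3_4, e_3_5] at R_3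
  have R_4 := hrow 4
  rw [Fin.sum_univ_six, hdP 4, e_4_0, e_4_1, e_4_2, e_4_3, e_4_5] at R_4
  have R_5 := hrow 5
  rw [Fin.sum_univ_six, hdP 5, e_5_0, e_5_1, e_5_2, e_5_3, e_5_4] at R_5
  have S_0_1 := hsym 0 1
  rw [e_0_1, e_1_0] at S_0_1
  have S_0_2 := hsym 0 2
  rw [e_0_2, e_2_0] at S_0_2
  have S_0_3 := hsym 0 3
  rw [e_0_3, e_3_0] at S_0_3
  have S_0_4 := hsym 0 4
  rw [e_0_4, e_4_0] at S_0_4
  have S_0_5 := hsym 0 5
  rw [e_0_5, e_5_0] at S_0_5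
  have S_1_2 := hsym 1 2
  rw [e_1_2, e_2_1] at S_1_2
  have S_1_3 := hsym 1 3
  rw [e_1_3, e_3_1] at S_1_3
  have S_1_4 := hsym 1 4
  rw [e_1_4, e_4_1] at S_1_4
  have S_1_5 := hsym 1 5
  rw [e_1_5, e_5_1] at S_1_5
  have S_2_3 := hsym 2 3
  rw [e_2_3, e_3_2] at S_2_3
  have S_2_4 := hsym 2 4
  rw [e_2_4, e_4_2] at S_2_4
  have S_2_5 := hsym 2 5
  rw [e_2_5, e_5_2] at S_2_5
  have S_3_4 := hsym 3 4
  rw [e_3_4, e_4_3] at S_3_4
  have S_3_5 := hsym 3 5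
  rw [e_3_5, e_5_3] at S_3_5
  have S_4_5 := hsym 4 5
  rw [e_4_5, e_5_4] at S_4_5
  have D_0 := hdA 0
  have A_0_1 := nt_a_eq T 0 1
  rw [e_0_1] at A_0_1
  have A_0_2 := nt_a_eq T 0 2
  rw [e_0_2] at A_0_2
  have A_0_3 := nt_a_eq T 0 3
  rw [e_0_3] at A_0_3
  have A_0_4 := nt_a_eq T 0 4
  rw [e_0_4] at A_0_4
  have A_0_5 := nt_a_eq T 0 5
  rw [e_0_5] at A_0_5
  have D_1 := hdA 1
  have A_1_0 := nt_a_eq T 1 0
  rw [e_1_0] at A_1_0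
  have A_1_2 := nt_a_eq T 1 2
  rw [e_1_2] at A_1_2
  have A_1_3 := nt_a_eq T 1 3
  rw [e_1_3] at A_1_3
  have A_1_4 := nt_a_eq T 1 4
  rw [e_1_4] at A_1_4
  have A_1_5 := nt_a_eq T 1 5
  rw [e_1_5] at A_1_5
  have D_2 := hdA 2
  have A_2_0 := nt_a_eq T 2 0
  rw [e_2_0] at A_2_0
  have A_2_1 := nt_a_eq T 2 1
  rw [e_2_1] at A_2_1
  have A_2_3 := nt_a_eq T 2 3
  rw [e_2_3] at A_2_3
  have A_2_4 := nt_a_eq T 2 4
  rw [e_2_4] at A_2_4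
  have A_2_5 := nt_a_eq T 2 5
  rw [e_2_5] at A_2_5
  have D_3 := hdA 3
  have A_3_0 := nt_a_eq T 3 0
  rw [e_3_0] at A_3_0
  have A_3_1 := nt_a_eq T 3 1
  rw [e_3_1] at A_3_1
  have A_3_2 := nt_a_eq T 3 2
  rw [e_3_2] at A_3_2
  have A_3_4 := nt_a_eq T 3 4
  rw [e_3_4] at A_3_4
  have A_3_5 := nt_a_eq T 3 5
  rw [e_3_5] at A_3_5
  have D_4 := hdA 4
  have A_4_0 := nt_a_eq T 4 0
  rw [e_4_0] at A_4_0
  have A_4_1 := nt_a_eq T 4 1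
  rw [e_4_1] at A_4_1
  have A_4_2 := nt_a_eq T 4 2
  rw [e_4_2] at A_4_2
  have A_4_3 := nt_a_eq T 4 3
  rw [e_4_3] at A_4_3
  have A_4_5 := nt_a_eq T 4 5
  rw [e_4_5] at A_4_5
  have D_5 := hdA 5
  have A_5_0 := nt_a_eq T 5 0
  rw [e_5_0] at A_5_0
  have A_5_1 := nt_a_eq T 5 1
  rw [e_5_1] at A_5_1
  have A_5_2 := nt_a_eq T 5 2
  rw [e_5_2] at A_5_2
  have A_5_3 := nt_a_eq T 5 3
  rw [e_5_3] at A_5_3
  have A_5_4 := nt_a_eq T 5 4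
  rw [e_5_4] at A_5_4
  refine goal_of_indices T hg0 5 4 3 0 1 2 (by decide) (T.m 5) (T.w 4) ?_
  unfold Goali
  exact Or.inr (Or.inr (Or.inr (Or.inr (Or.inl ⟨rfl,
      (by have h : (2 : ℤ) * (T.m 4 - (2 * T.m 5)) = 0 := (by linear_combination (-2) * R_0 + (-1) * R_1 + (-1) * R_2 + (-2) * R_3 + (-2) * R_4); exact eq_of_sub_eq_zero ((mul_eq_zero.mp h).resolve_left (by norm_num))),
      (by linear_combination (-2) * R_0 + (-1) * R_1 + (-1) * R_2 + (-2) * R_3 + (-1) * R_4),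
      (by have h : (2 : ℤ) * (T.m 0 - (2 * T.m 5)) = 0 := (by linear_combination (-6) * R_0 + (-3) * R_1 + (-3) * R_2 + (-4) * R_3 + (-2) * R_4); exact eq_of_sub_eq_zero ((mul_eq_zero.mp h).resolve_left (by norm_num))),
      (by have h : (4 : ℤ) * (T.m 1 - (T.m 5)) = 0 := (by linear_combination (-6) * R_0 + (-5) * R_1 + (-3) * R_2 + (-4) * R_3 + (-2) * R_4); exact eq_of_sub_eq_zero ((mul_eq_zero.mp h).resolve_left (by norm_num))),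
      (by have h : (4 : ℤ) * (T.m 2 - (T.m 5)) = 0 := (by linear_combination (-6) * R_0 + (-3) * R_1 + (-5) * R_2 + (-4) * R_3 + (-2) * R_4); exact eq_of_sub_eq_zero ((mul_eq_zero.mp h).resolve_left (by norm_num))),
      (by linear_combination (-1) * S_4_5),
      rfl,
      (by linear_combination (1) * S_3_4),
      (by linear_combination (1) * S_0_3 + (1) * S_3_4),
      (by linear_combination (-1) * S_0_1 + (1) * S_0_3 + (1) * S_3_4),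
      (by linear_combination (-1) * S_0_2 + (1) * S_0_3 + (1) * S_3_4),
      (by linear_combination (2) * S_4_5 + (1) * D_5),
      (by linear_combination (-1) * S_4_5 + (1) * A_5_4),
      (by linear_combination (1) * A_5_3),
      (by linear_combination (1) * A_5_0),
      (by linear_combination (1) * A_5_1),
      (by linear_combination (1) * A_5_2),
      (by linear_combination (1) * D_4),
      (by linear_combination (1) * A_4_3),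
      (by linear_combination (1) * A_4_0),
      (by linear_combination (1) * A_4_1),
      (by linear_combination (1) * A_4_2),
      (by linear_combination (-2) * S_3_4 + (1) * D_3),
      (by linear_combination (1) * S_3_4 + (1) * A_3_0),
      (by linear_combination (1) * A_3_1),
      (by linear_combination (1) * A_3_2),
      (by linear_combination (-2) * S_0_3 + (-2) * S_3_4 + (1) * D_0),
      (by linear_combination (1) * S_0_3 + (1) * S_3_4 + (1) * A_0_1),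
      (by linear_combination (1) * S_0_3 + (1) * S_3_4 + (1) * A_0_2),
      (by linear_combination (2) * S_0_1 + (-2) * S_0_3 + (-2) * S_3_4 + (1) * D_1),
      (by linear_combination (1) * A_1_2),
      (by linear_combination (2) * S_0_2 + (-2) * S_0_3 + (-2) * S_3_4 + (1) * D_2)⟩))))

theorem ex_125 (T : Models.NumericalType 6)
    (hG : NTGood T)
    (hmax : ∀ j, T.m j ≤ T.m 0)
    (e_0_1 : T.picMatrix 0 1 = 1)
    (e_0_2 : T.picMatrix 0 2 = 1)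
    (e_0_3 : T.picMatrix 0 3 = 1)
    (e_0_4 : T.picMatrix 0 4 = 0)
    (e_1_0 : T.picMatrix 1 0 = 1)
    (e_1_2 : T.picMatrix 1 2 = 0)
    (e_1_3 : T.picMatrix 1 3 = 0)
    (e_1_4 : T.picMatrix 1 4 = 0)
    (e_2_0 : T.picMatrix 2 0 = 1)
    (e_2_1 : T.picMatrix 2 1 = 0)
    (e_2_3 : T.picMatrix 2 3 = 0)
    (e_2_4 : T.picMatrix 2 4 = 0)
    (e_3_0 : T.picMatrix 3 0 = 1)
    (e_3_1 : T.picMatrix 3 1 = 0)
    (e_3_2 : T.picMatrix 3 2 = 0)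
    (e_3_4 : T.picMatrix 3 4 = 1)
    (e_4_0 : T.picMatrix 4 0 = 0)
    (e_4_1 : T.picMatrix 4 1 = 0)
    (e_4_2 : T.picMatrix 4 2 = 0)
    (e_4_3 : T.picMatrix 4 3 = 1)
    (cl : ∀ a b : Fin 6, a.val < 4 → 6 ≤ b.val → T.picMatrix a b = 0)
    (z : ∀ a : Fin 6, a.val < 4 → T.picMatrix a 5 = 0)
    (hne : T.picMatrix 4 5 ≠ 0) :
    Goal T := by
  have e_0_5 : T.picMatrix 0 5 = 0 := z 0 (by decide)
  have e_5_0 : T.picMatrix 5 0 = 0 := nt_pic_zero_symm T 0 5 e_0_5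
  have e_1_5 : T.picMatrix 1 5 = 0 := z 1 (by decide)
  have e_5_1 : T.picMatrix 5 1 = 0 := nt_pic_zero_symm T 1 5 e_1_5
  have e_2_5 : T.picMatrix 2 5 = 0 := z 2 (by decide)
  have e_5_2 : T.picMatrix 5 2 = 0 := nt_pic_zero_symm T 2 5 e_2_5
  have e_3_5 : T.picMatrix 3 5 = 0 := z 3 (by decide)
  have e_5_3 : T.picMatrix 5 3 = 0 := nt_pic_zero_symm T 3 5 e_3_5
  obtain ⟨hg0, hdA, hdP, hnn, hrow, hsym, hpair⟩ := ntgood_data T (by norm_num) hG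
  have hm_0 := T.m_pos 0
  have hw_0 := T.w_pos 0
  have hm_1 := T.m_pos 1
  have hw_1 := T.w_pos 1
  have hm_2 := T.m_pos 2
  have hw_2 := T.w_pos 2
  have hm_3 := T.m_pos 3
  have hw_3 := T.w_pos 3
  have hm_4 := T.m_pos 4
  have hw_4 := T.w_pos 4
  have hm_5 := T.m_pos 5
  have hw_5 := T.w_pos 5
  have hx_1 := hmax 1
  have hx_2 := hmax 2
  have hx_3 := hmax 3
  have hx_4 := hmax 4
  have hx_5 := hmax 5
  have N_4_5 := mul_nonneg (hnn 4 5 (by decide)) (T.m_pos 5).le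
  have N_5_4 := mul_nonneg (hnn 5 4 (by decide)) (T.m_pos 4).le
  have R_0 := hrow 0
  rw [Fin.sum_univ_six, hdP 0, e_0_1, e_0_2, e_0_3, e_0_4, e_0_5] at R_0
  have R_1 := hrow 1
  rw [Fin.sum_univ_six, hdP 1, e_1_0, e_1_2, e_1_3, e_1_4, e_1_5] at R_1
  have R_2 := hrow 2
  rw [Fin.sum_univ_six, hdP 2, e_2_0, e_2_1, e_2_3, e_2_4, e_2_5] at R_2
  have R_3 := hrow 3
  rw [Fin.sum_univ_six, hdP 3, e_3_0, e_3_1, e_3_2, e_3_4, e_3_5] at R_3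
  have R_4 := hrow 4
  rw [Fin.sum_univ_six, hdP 4, e_4_0, e_4_1, e_4_2, e_4_3] at R_4
  have R_5 := hrow 5
  rw [Fin.sum_univ_six, hdP 5, e_5_0, e_5_1, e_5_2, e_5_3] at R_5
  have S_0_1 := hsym 0 1
  rw [e_0_1, e_1_0] at S_0_1
  have S_0_2 := hsym 0 2
  rw [e_0_2, e_2_0] at S_0_2
  have S_0_3 := hsym 0 3
  rw [e_0_3, e_3_0] at S_0_3
  have S_0_4 := hsym 0 4
  rw [e_0_4, e_4_0] at S_0_4
  have S_0_5 := hsym 0 5
  rw [e_0_5, e_5_0] at S_0_5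
  have S_1_2 := hsym 1 2
  rw [e_1_2, e_2_1] at S_1_2
  have S_1_3 := hsym 1 3
  rw [e_1_3, e_3_1] at S_1_3
  have S_1_4 := hsym 1 4
  rw [e_1_4, e_4_1] at S_1_4
  have S_1_5 := hsym 1 5
  rw [e_1_5, e_5_1] at S_1_5
  have S_2_3 := hsym 2 3
  rw [e_2_3, e_3_2] at S_2_3
  have S_2_4 := hsym 2 4
  rw [e_2_4, e_4_2] at S_2_4
  have S_2_5 := hsym 2 5
  rw [e_2_5, e_5_2] at S_2_5
  have S_3_4 := hsym 3 4
  rw [e_3_4, e_4_3] at S_3_4
  have S_3_5 := hsym 3 5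
  rw [e_3_5, e_5_3] at S_3_5
  have S_4_5 := hsym 4 5
  have Q_4 := hpair 4 5 (by decide)
  generalize e_4_5 : T.picMatrix 4 5 = x_4 at *
  generalize e_5_4 : T.picMatrix 5 4 = y_4 at *
  rcases Q_4 with ⟨rfl, rfl⟩ | ⟨rfl, rfl⟩ | ⟨rfl, rfl⟩ | ⟨rfl, rfl⟩ | ⟨rfl, rfl⟩ | ⟨rfl, rfl⟩ | ⟨rfl, rfl⟩ | ⟨rfl, rfl⟩ | ⟨rfl, rfl⟩
  · exact absurd rfl hne
  · -- (4,5) = (1,1)
    omega
  · -- (4,5) = (1,2)
    exact nd_126 T hG hmax e_0_1 e_0_2 e_0_3 e_0_4 e_0_5 e_1_0 e_1_2 e_1_3 e_1_4 e_1_5 e_2_0 e_2_1 e_2_3 e_2_4 e_2_5 e_3_0 e_3_1 e_3_2 e_3_4 e_3_5 e_4_0 e_4_1 e_4_2 e_4_3 e_4_5 e_5_0 e_5_1 e_5_2 e_5_3 e_5_4 cl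
  · -- (4,5) = (2,1)
    exact nd_127 T hG hmax e_0_1 e_0_2 e_0_3 e_0_4 e_0_5 e_1_0 e_1_2 e_1_3 e_1_4 e_1_5 e_2_0 e_2_1 e_2_3 e_2_4 e_2_5 e_3_0 e_3_1 e_3_2 e_3_4 e_3_5 e_4_0 e_4_1 e_4_2 e_4_3 e_4_5 e_5_0 e_5_1 e_5_2 e_5_3 e_5_4 cl
  · -- (4,5) = (1,3)
    omega
  · -- (4,5) = (3,1)
    omega
  · -- (4,5) = (1,4)
    omega
  · -- (4,5) = (4,1)
    omega
  · -- (4,5) = (2,2)
    omega

theorem nd_123 (T : Models.NumericalType 6)
    (hG : NTGood T)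
    (hmax : ∀ j, T.m j ≤ T.m 0)
    (e_0_1 : T.picMatrix 0 1 = 1)
    (e_0_2 : T.picMatrix 0 2 = 1)
    (e_0_3 : T.picMatrix 0 3 = 1)
    (e_0_4 : T.picMatrix 0 4 = 0)
    (e_1_0 : T.picMatrix 1 0 = 1)
    (e_1_2 : T.picMatrix 1 2 = 0)
    (e_1_3 : T.picMatrix 1 3 = 0)
    (e_1_4 : T.picMatrix 1 4 = 0)
    (e_2_0 : T.picMatrix 2 0 = 1)
    (e_2_1 : T.picMatrix 2 1 = 0)
    (e_2_3 : T.picMatrix 2 3 = 0)
    (e_2_4 : T.picMatrix 2 4 = 0)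
    (e_3_0 : T.picMatrix 3 0 = 1)
    (e_3_1 : T.picMatrix 3 1 = 0)
    (e_3_2 : T.picMatrix 3 2 = 0)
    (e_3_4 : T.picMatrix 3 4 = 1)
    (e_4_0 : T.picMatrix 4 0 = 0)
    (e_4_1 : T.picMatrix 4 1 = 0)
    (e_4_2 : T.picMatrix 4 2 = 0)
    (e_4_3 : T.picMatrix 4 3 = 1)
    (cl : ∀ a b : Fin 6, a.val < 4 → 5 ≤ b.val → T.picMatrix a b = 0) :
    Goal T := by
  by_cases hc : ∀ b : Fin 6, 5 ≤ b.val → T.picMatrix 4 b = 0
  · exact nd_124 T hG hmax e_0_1 e_0_2 e_0_3 e_0_4 e_1_0 e_1_2 e_1_3 e_1_4 e_2_0 e_2_1 e_2_3 e_2_4 e_3_0 e_3_1 e_3_2 e_3_4 e_4_0 e_4_1 e_4_2 e_4_3 (nt_cl_succ T 5 4 4 rfl cl hc)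
  · obtain ⟨τ, hfix, cl', z, hne⟩ := nt_wlog_step T 5 (by norm_num) 4 (by norm_num) 4 (by decide) cl hc
    apply goal_relabel T τ
    refine ex_125 (ntRelabel T τ) (hG.relabel τ) ?_ ?_ ?_ ?_ ?_ ?_ ?_ ?_ ?_ ?_ ?_ ?_ ?_ ?_ ?_ ?_ ?_ ?_ ?_ ?_ ?_ cl' z hne
    · intro j
      show T.m (τ j) ≤ T.m (τ 0)
      rw [hfix 0 (by decide)]
      exact hmax _
    · show T.picMatrix (τ 0) (τ 1) = 1
      rw [hfix 0 (by decide), hfix 1 (by decide)]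
      exact e_0_1
    · show T.picMatrix (τ 0) (τ 2) = 1
      rw [hfix 0 (by decide), hfix 2 (by decide)]
      exact e_0_2
    · show T.picMatrix (τ 0) (τ 3) = 1
      rw [hfix 0 (by decide), hfix 3 (by decide)]
      exact e_0_3
    · show T.picMatrix (τ 0) (τ 4) = 0
      rw [hfix 0 (by decide), hfix 4 (by decide)]
      exact e_0_4
    · show T.picMatrix (τ 1) (τ 0) = 1
      rw [hfix 1 (by decide), hfix 0 (by decide)]
      exact e_1_0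
    · show T.picMatrix (τ 1) (τ 2) = 0
      rw [hfix 1 (by decide), hfix 2 (by decide)]
      exact e_1_2
    · show T.picMatrix (τ 1) (τ 3) = 0
      rw [hfix 1 (by decide), hfix 3 (by decide)]
      exact e_1_3
    · show T.picMatrix (τ 1) (τ 4) = 0
      rw [hfix 1 (by decide), hfix 4 (by decide)]
      exact e_1_4
    · show T.picMatrix (τ 2) (τ 0) = 1
      rw [hfix 2 (by decide), hfix 0 (by decide)]
      exact e_2_0
    · show T.picMatrix (τ 2) (τ 1) = 0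
      rw [hfix 2 (by decide), hfix 1 (by decide)]
      exact e_2_1
    · show T.picMatrix (τ 2) (τ 3) = 0
      rw [hfix 2 (by decide), hfix 3 (by decide)]
      exact e_2_3
    · show T.picMatrix (τ 2) (τ 4) = 0
      rw [hfix 2 (by decide), hfix 4 (by decide)]
      exact e_2_4
    · show T.picMatrix (τ 3) (τ 0) = 1
      rw [hfix 3 (by decide), hfix 0 (by decide)]
      exact e_3_0
    · show T.picMatrix (τ 3) (τ 1) = 0
      rw [hfix 3 (by decide), hfix 1 (by decide)]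
      exact e_3_1
    · show T.picMatrix (τ 3) (τ 2) = 0
      rw [hfix 3 (by decide), hfix 2 (by decide)]
      exact e_3_2
    · show T.picMatrix (τ 3) (τ 4) = 1
      rw [hfix 3 (by decide), hfix 4 (by decide)]
      exact e_3_4
    · show T.picMatrix (τ 4) (τ 0) = 0
      rw [hfix 4 (by decide), hfix 0 (by decide)]
      exact e_4_0
    · show T.picMatrix (τ 4) (τ 1) = 0
      rw [hfix 4 (by decide), hfix 1 (by decide)]
      exact e_4_1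
    · show T.picMatrix (τ 4) (τ 2) = 0
      rw [hfix 4 (by decide), hfix 2 (by decide)]
      exact e_4_2
    · show T.picMatrix (τ 4) (τ 3) = 1
      rw [hfix 4 (by decide), hfix 3 (by decide)]
      exact e_4_3

theorem nd_129 (T : Models.NumericalType 6)
    (hG : NTGood T)
    (hmax : ∀ j, T.m j ≤ T.m 0)
    (e_0_1 : T.picMatrix 0 1 = 1)
    (e_0_2 : T.picMatrix 0 2 = 1)
    (e_0_3 : T.picMatrix 0 3 = 1)
    (e_0_4 : T.picMatrix 0 4 = 0)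
    (e_0_5 : T.picMatrix 0 5 = 0)
    (e_1_0 : T.picMatrix 1 0 = 1)
    (e_1_2 : T.picMatrix 1 2 = 0)
    (e_1_3 : T.picMatrix 1 3 = 0)
    (e_1_4 : T.picMatrix 1 4 = 0)
    (e_1_5 : T.picMatrix 1 5 = 0)
    (e_2_0 : T.picMatrix 2 0 = 1)
    (e_2_1 : T.picMatrix 2 1 = 0)
    (e_2_3 : T.picMatrix 2 3 = 0)
    (e_2_4 : T.picMatrix 2 4 = 0)
    (e_2_5 : T.picMatrix 2 5 = 0)
    (e_3_0 : T.picMatrix 3 0 = 1)
    (e_3_1 : T.picMatrix 3 1 = 0)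
    (e_3_2 : T.picMatrix 3 2 = 0)
    (e_3_4 : T.picMatrix 3 4 = 1)
    (e_3_5 : T.picMatrix 3 5 = 1)
    (e_4_0 : T.picMatrix 4 0 = 0)
    (e_4_1 : T.picMatrix 4 1 = 0)
    (e_4_2 : T.picMatrix 4 2 = 0)
    (e_4_3 : T.picMatrix 4 3 = 1)
    (e_4_5 : T.picMatrix 4 5 = 0)
    (e_5_0 : T.picMatrix 5 0 = 0)
    (e_5_1 : T.picMatrix 5 1 = 0)
    (e_5_2 : T.picMatrix 5 2 = 0)
    (e_5_3 : T.picMatrix 5 3 = 1)
    (e_5_4 : T.picMatrix 5 4 = 0)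
    (cl : ∀ a b : Fin 6, a.val < 3 → 6 ≤ b.val → T.picMatrix a b = 0) :
    Goal T := by
  obtain ⟨hg0, hdA, hdP, hnn, hrow, hsym, hpair⟩ := ntgood_data T (by norm_num) hG
  have hm_0 := T.m_pos 0
  have hw_0 := T.w_pos 0
  have hm_1 := T.m_pos 1
  have hw_1 := T.w_pos 1
  have hm_2 := T.m_pos 2
  have hw_2 := T.w_pos 2
  have hm_3 := T.m_pos 3
  have hw_3 := T.w_pos 3
  have hm_4 := T.m_pos 4
  have hw_4 := T.w_pos 4
  have hm_5 := T.m_pos 5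
  have hw_5 := T.w_pos 5
  have hx_1 := hmax 1
  have hx_2 := hmax 2
  have hx_3 := hmax 3
  have hx_4 := hmax 4
  have hx_5 := hmax 5
  have R_0 := hrow 0
  rw [Fin.sum_univ_six, hdP 0, e_0_1, e_0_2, e_0_3, e_0_4, e_0_5] at R_0
  have R_1 := hrow 1
  rw [Fin.sum_univ_six, hdP 1, e_1_0, e_1_2, e_1_3, e_1_4, e_1_5] at R_1
  have R_2 := hrow 2
  rw [Fin.sum_univ_six, hdP 2, e_2_0, e_2_1, e_2_3, e_2_4, e_2_5] at R_2
  have R_3 := hrow 3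
  rw [Fin.sum_univ_six, hdP 3, e_3_0, e_3_1, e_3_2, e_3_4, e_3_5] at R_3
  have R_4 := hrow 4
  rw [Fin.sum_univ_six, hdP 4, e_4_0, e_4_1, e_4_2, e_4_3, e_4_5] at R_4
  have R_5 := hrow 5
  rw [Fin.sum_univ_six, hdP 5, e_5_0, e_5_1, e_5_2, e_5_3, e_5_4] at R_5
  have S_0_1 := hsym 0 1
  rw [e_0_1, e_1_0] at S_0_1
  have S_0_2 := hsym 0 2
  rw [e_0_2, e_2_0] at S_0_2
  have S_0_3 := hsym 0 3
  rw [e_0_3, e_3_0] at S_0_3
  have S_0_4 := hsym 0 4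
  rw [e_0_4, e_4_0] at S_0_4
  have S_0_5 := hsym 0 5
  rw [e_0_5, e_5_0] at S_0_5
  have S_1_2 := hsym 1 2
  rw [e_1_2, e_2_1] at S_1_2
  have S_1_3 := hsym 1 3
  rw [e_1_3, e_3_1] at S_1_3
  have S_1_4 := hsym 1 4
  rw [e_1_4, e_4_1] at S_1_4
  have S_1_5 := hsym 1 5
  rw [e_1_5, e_5_1] at S_1_5
  have S_2_3 := hsym 2 3
  rw [e_2_3, e_3_2] at S_2_3
  have S_2_4 := hsym 2 4
  rw [e_2_4, e_4_2] at S_2_4
  have S_2_5 := hsym 2 5
  rw [e_2_5, e_5_2] at S_2_5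
  have S_3_4 := hsym 3 4
  rw [e_3_4, e_4_3] at S_3_4
  have S_3_5 := hsym 3 5
  rw [e_3_5, e_5_3] at S_3_5
  have S_4_5 := hsym 4 5
  rw [e_4_5, e_5_4] at S_4_5
  have D_0 := hdA 0
  have A_0_1 := nt_a_eq T 0 1
  rw [e_0_1] at A_0_1
  have A_0_2 := nt_a_eq T 0 2
  rw [e_0_2] at A_0_2
  have A_0_3 := nt_a_eq T 0 3
  rw [e_0_3] at A_0_3
  have A_0_4 := nt_a_eq T 0 4
  rw [e_0_4] at A_0_4
  have A_0_5 := nt_a_eq T 0 5
  rw [e_0_5] at A_0_5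
  have D_1 := hdA 1
  have A_1_0 := nt_a_eq T 1 0
  rw [e_1_0] at A_1_0
  have A_1_2 := nt_a_eq T 1 2
  rw [e_1_2] at A_1_2
  have A_1_3 := nt_a_eq T 1 3
  rw [e_1_3] at A_1_3
  have A_1_4 := nt_a_eq T 1 4
  rw [e_1_4] at A_1_4
  have A_1_5 := nt_a_eq T 1 5
  rw [e_1_5] at A_1_5
  have D_2 := hdA 2
  have A_2_0 := nt_a_eq T 2 0
  rw [e_2_0] at A_2_0
  have A_2_1 := nt_a_eq T 2 1
  rw [e_2_1] at A_2_1
  have A_2_3 := nt_a_eq T 2 3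
  rw [e_2_3] at A_2_3
  have A_2_4 := nt_a_eq T 2 4
  rw [e_2_4] at A_2_4
  have A_2_5 := nt_a_eq T 2 5
  rw [e_2_5] at A_2_5
  have D_3 := hdA 3
  have A_3_0 := nt_a_eq T 3 0
  rw [e_3_0] at A_3_0
  have A_3_1 := nt_a_eq T 3 1
  rw [e_3_1] at A_3_1
  have A_3_2 := nt_a_eq T 3 2
  rw [e_3_2] at A_3_2
  have A_3_4 := nt_a_eq T 3 4
  rw [e_3_4] at A_3_4
  have A_3_5 := nt_a_eq T 3 5
  rw [e_3_5] at A_3_5
  have D_4 := hdA 4
  have A_4_0 := nt_a_eq T 4 0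
  rw [e_4_0] at A_4_0
  have A_4_1 := nt_a_eq T 4 1
  rw [e_4_1] at A_4_1
  have A_4_2 := nt_a_eq T 4 2
  rw [e_4_2] at A_4_2
  have A_4_3 := nt_a_eq T 4 3
  rw [e_4_3] at A_4_3
  have A_4_5 := nt_a_eq T 4 5
  rw [e_4_5] at A_4_5
  have D_5 := hdA 5
  have A_5_0 := nt_a_eq T 5 0
  rw [e_5_0] at A_5_0
  have A_5_1 := nt_a_eq T 5 1
  rw [e_5_1] at A_5_1
  have A_5_2 := nt_a_eq T 5 2
  rw [e_5_2] at A_5_2
  have A_5_3 := nt_a_eq T 5 3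
  rw [e_5_3] at A_5_3
  have A_5_4 := nt_a_eq T 5 4
  rw [e_5_4] at A_5_4
  refine goal_of_indices T hg0 1 2 0 3 4 5 (by decide) (T.m 1) (T.w 1) ?_
  unfold Goali
  exact Or.inr (Or.inr (Or.inr (Or.inr (Or.inr (Or.inr (⟨rfl,
      (by have h : (2 : ℤ) * (T.m 2 - (T.m 1)) = 0 := (by linear_combination (1) * R_1 + (-1) * R_2); exact eq_of_sub_eq_zero ((mul_eq_zero.mp h).resolve_left (by norm_num))),
      (by linear_combination (1) * R_1),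
      (by have h : (2 : ℤ) * (T.m 3 - (2 * T.m 1)) = 0 := (by linear_combination (2) * R_0 + (3) * R_1 + (1) * R_2); exact eq_of_sub_eq_zero ((mul_eq_zero.mp h).resolve_left (by norm_num))),
      (by have h : (4 : ℤ) * (T.m 4 - (T.m 1)) = 0 := (by linear_combination (2) * R_0 + (3) * R_1 + (1) * R_2 + (-2) * R_4); exact eq_of_sub_eq_zero ((mul_eq_zero.mp h).resolve_left (by norm_num))),
      (by have h : (4 : ℤ) * (T.m 5 - (T.m 1)) = 0 := (by linear_combination (6) * R_0 + (5) * R_1 + (3) * R_2 + (4) * R_3 + (2) * R_4); exact eq_of_sub_eq_zero ((mul_eq_zero.mp h).resolve_left (by norm_num))),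
      rfl,
      (by linear_combination (1) * S_0_1 + (-1) * S_0_2),
      (by linear_combination (1) * S_0_1),
      (by linear_combination (1) * S_0_1 + (-1) * S_0_3),
      (by linear_combination (1) * S_0_1 + (-1) * S_0_3 + (-1) * S_3_4),
      (by linear_combination (1) * S_0_1 + (-1) * S_0_3 + (-1) * S_3_5),
      (by linear_combination (1) * D_1),
      (by linear_combination (1) * A_1_2),
      (by linear_combination (1) * A_1_0),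
      (by linear_combination (1) * A_1_3),
      (by linear_combination (1) * A_1_4),
      (by linear_combination (1) * A_1_5),
      (by linear_combination (-2) * S_0_1 + (2) * S_0_2 + (1) * D_2),
      (by linear_combination (1) * S_0_1 + (-1) * S_0_2 + (1) * A_2_0),
      (by linear_combination (1) * A_2_3),
      (by linear_combination (1) * A_2_4),
      (by linear_combination (1) * A_2_5),
      (by linear_combination (-2) * S_0_1 + (1) * D_0),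
      (by linear_combination (1) * S_0_1 + (1) * A_0_3),
      (by linear_combination (1) * A_0_4),
      (by linear_combination (1) * A_0_5),
      (by linear_combination (-2) * S_0_1 + (2) * S_0_3 + (1) * D_3),
      (by linear_combination (1) * S_0_1 + (-1) * S_0_3 + (1) * A_3_4),
      (by linear_combination (1) * S_0_1 + (-1) * S_0_3 + (1) * A_3_5),
      (by linear_combination (-2) * S_0_1 + (2) * S_0_3 + (2) * S_3_4 + (1) * D_4),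
      (by linear_combination (1) * A_4_5),
      (by linear_combination (-2) * S_0_1 + (2) * S_0_3 + (2) * S_3_5 + (1) * D_5)⟩))))))

theorem ex_128 (T : Models.NumericalType 6)
    (hG : NTGood T)
    (hmax : ∀ j, T.m j ≤ T.m 0)
    (e_0_1 : T.picMatrix 0 1 = 1)
    (e_0_2 : T.picMatrix 0 2 = 1)
    (e_0_3 : T.picMatrix 0 3 = 1)
    (e_0_4 : T.picMatrix 0 4 = 0)
    (e_1_0 : T.picMatrix 1 0 = 1)
    (e_1_2 : T.picMatrix 1 2 = 0)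
    (e_1_3 : T.picMatrix 1 3 = 0)
    (e_1_4 : T.picMatrix 1 4 = 0)
    (e_2_0 : T.picMatrix 2 0 = 1)
    (e_2_1 : T.picMatrix 2 1 = 0)
    (e_2_3 : T.picMatrix 2 3 = 0)
    (e_2_4 : T.picMatrix 2 4 = 0)
    (e_3_0 : T.picMatrix 3 0 = 1)
    (e_3_1 : T.picMatrix 3 1 = 0)
    (e_3_2 : T.picMatrix 3 2 = 0)
    (e_3_4 : T.picMatrix 3 4 = 1)
    (e_4_0 : T.picMatrix 4 0 = 0)
    (e_4_1 : T.picMatrix 4 1 = 0)
    (e_4_2 : T.picMatrix 4 2 = 0)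
    (e_4_3 : T.picMatrix 4 3 = 1)
    (cl : ∀ a b : Fin 6, a.val < 3 → 6 ≤ b.val → T.picMatrix a b = 0)
    (z : ∀ a : Fin 6, a.val < 3 → T.picMatrix a 5 = 0)
    (hne : T.picMatrix 3 5 ≠ 0) :
    Goal T := by
  have e_0_5 : T.picMatrix 0 5 = 0 := z 0 (by decide)
  have e_5_0 : T.picMatrix 5 0 = 0 := nt_pic_zero_symm T 0 5 e_0_5
  have e_1_5 : T.picMatrix 1 5 = 0 := z 1 (by decide)
  have e_5_1 : T.picMatrix 5 1 = 0 := nt_pic_zero_symm T 1 5 e_1_5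
  have e_2_5 : T.picMatrix 2 5 = 0 := z 2 (by decide)
  have e_5_2 : T.picMatrix 5 2 = 0 := nt_pic_zero_symm T 2 5 e_2_5
  obtain ⟨hg0, hdA, hdP, hnn, hrow, hsym, hpair⟩ := ntgood_data T (by norm_num) hG
  have hm_0 := T.m_pos 0
  have hw_0 := T.w_pos 0
  have hm_1 := T.m_pos 1
  have hw_1 := T.w_pos 1
  have hm_2 := T.m_pos 2
  have hw_2 := T.w_pos 2
  have hm_3 := T.m_pos 3
  have hw_3 := T.w_pos 3
  have hm_4 := T.m_pos 4
  have hw_4 := T.w_pos 4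
  have hm_5 := T.m_pos 5
  have hw_5 := T.w_pos 5
  have hx_1 := hmax 1
  have hx_2 := hmax 2
  have hx_3 := hmax 3
  have hx_4 := hmax 4
  have hx_5 := hmax 5
  have N_3_5 := mul_nonneg (hnn 3 5 (by decide)) (T.m_pos 5).le
  have N_5_3 := mul_nonneg (hnn 5 3 (by decide)) (T.m_pos 3).le
  have N_4_5 := mul_nonneg (hnn 4 5 (by decide)) (T.m_pos 5).le
  have N_5_4 := mul_nonneg (hnn 5 4 (by decide)) (T.m_pos 4).le
  have R_0 := hrow 0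
  rw [Fin.sum_univ_six, hdP 0, e_0_1, e_0_2, e_0_3, e_0_4, e_0_5] at R_0
  have R_1 := hrow 1
  rw [Fin.sum_univ_six, hdP 1, e_1_0, e_1_2, e_1_3, e_1_4, e_1_5] at R_1
  have R_2 := hrow 2
  rw [Fin.sum_univ_six, hdP 2, e_2_0, e_2_1, e_2_3, e_2_4, e_2_5] at R_2
  have R_3 := hrow 3
  rw [Fin.sum_univ_six, hdP 3, e_3_0, e_3_1, e_3_2, e_3_4] at R_3
  have R_4 := hrow 4
  rw [Fin.sum_univ_six, hdP 4, e_4_0, e_4_1, e_4_2, e_4_3] at R_4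
  have R_5 := hrow 5
  rw [Fin.sum_univ_six, hdP 5, e_5_0, e_5_1, e_5_2] at R_5
  have S_0_1 := hsym 0 1
  rw [e_0_1, e_1_0] at S_0_1
  have S_0_2 := hsym 0 2
  rw [e_0_2, e_2_0] at S_0_2
  have S_0_3 := hsym 0 3
  rw [e_0_3, e_3_0] at S_0_3
  have S_0_4 := hsym 0 4
  rw [e_0_4, e_4_0] at S_0_4
  have S_0_5 := hsym 0 5
  rw [e_0_5, e_5_0] at S_0_5
  have S_1_2 := hsym 1 2
  rw [e_1_2, e_2_1] at S_1_2
  have S_1_3 := hsym 1 3
  rw [e_1_3, e_3_1] at S_1_3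
  have S_1_4 := hsym 1 4
  rw [e_1_4, e_4_1] at S_1_4
  have S_1_5 := hsym 1 5
  rw [e_1_5, e_5_1] at S_1_5
  have S_2_3 := hsym 2 3
  rw [e_2_3, e_3_2] at S_2_3
  have S_2_4 := hsym 2 4
  rw [e_2_4, e_4_2] at S_2_4
  have S_2_5 := hsym 2 5
  rw [e_2_5, e_5_2] at S_2_5
  have S_3_4 := hsym 3 4
  rw [e_3_4, e_4_3] at S_3_4
  have S_3_5 := hsym 3 5
  have S_4_5 := hsym 4 5
  have Q_3 := hpair 3 5 (by decide)
  have Q_4 := hpair 4 5 (by decide)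
  generalize e_3_5 : T.picMatrix 3 5 = x_3 at *
  generalize e_5_3 : T.picMatrix 5 3 = y_3 at *
  generalize e_4_5 : T.picMatrix 4 5 = x_4 at *
  generalize e_5_4 : T.picMatrix 5 4 = y_4 at *
  rcases Q_3 with ⟨rfl, rfl⟩ | ⟨rfl, rfl⟩ | ⟨rfl, rfl⟩ | ⟨rfl, rfl⟩ | ⟨rfl, rfl⟩ | ⟨rfl, rfl⟩ | ⟨rfl, rfl⟩ | ⟨rfl, rfl⟩ | ⟨rfl, rfl⟩
  · exact absurd rfl hne
  · -- (3,5) = (1,1)
    rcases Q_4 with ⟨rfl, rfl⟩ | ⟨rfl, rfl⟩ | ⟨rfl, rfl⟩ | ⟨rfl, rfl⟩ | ⟨rfl, rfl⟩ | ⟨rfl, rfl⟩ | ⟨rfl, rfl⟩ | ⟨rfl, rfl⟩ | ⟨rfl, rfl⟩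
    · -- (4,5) = (0,0)
      exact nd_129 T hG hmax e_0_1 e_0_2 e_0_3 e_0_4 e_0_5 e_1_0 e_1_2 e_1_3 e_1_4 e_1_5 e_2_0 e_2_1 e_2_3 e_2_4 e_2_5 e_3_0 e_3_1 e_3_2 e_3_4 e_3_5 e_4_0 e_4_1 e_4_2 e_4_3 e_4_5 e_5_0 e_5_1 e_5_2 e_5_3 e_5_4 cl
    · -- (4,5) = (1,1)
      omega
    · -- (4,5) = (1,2)
      omega
    · -- (4,5) = (2,1)
      omega
    · -- (4,5) = (1,3)
      omega
    · -- (4,5) = (3,1)
      omega
    · -- (4,5) = (1,4)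
      omega
    · -- (4,5) = (4,1)
      omega
    · -- (4,5) = (2,2)
      omega
  · omega
  · omega
  · omega
  · omega
  · omega
  · omega
  · omega

theorem nd_122 (T : Models.NumericalType 6)
    (hG : NTGood T)
    (hmax : ∀ j, T.m j ≤ T.m 0)
    (e_0_1 : T.picMatrix 0 1 = 1)
    (e_0_2 : T.picMatrix 0 2 = 1)
    (e_0_3 : T.picMatrix 0 3 = 1)
    (e_0_4 : T.picMatrix 0 4 = 0)
    (e_1_0 : T.picMatrix 1 0 = 1)
    (e_1_2 : T.picMatrix 1 2 = 0)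
    (e_1_3 : T.picMatrix 1 3 = 0)
    (e_1_4 : T.picMatrix 1 4 = 0)
    (e_2_0 : T.picMatrix 2 0 = 1)
    (e_2_1 : T.picMatrix 2 1 = 0)
    (e_2_3 : T.picMatrix 2 3 = 0)
    (e_2_4 : T.picMatrix 2 4 = 0)
    (e_3_0 : T.picMatrix 3 0 = 1)
    (e_3_1 : T.picMatrix 3 1 = 0)
    (e_3_2 : T.picMatrix 3 2 = 0)
    (e_3_4 : T.picMatrix 3 4 = 1)
    (e_4_0 : T.picMatrix 4 0 = 0)
    (e_4_1 : T.picMatrix 4 1 = 0)
    (e_4_2 : T.picMatrix 4 2 = 0)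
    (e_4_3 : T.picMatrix 4 3 = 1)
    (cl : ∀ a b : Fin 6, a.val < 3 → 5 ≤ b.val → T.picMatrix a b = 0) :
    Goal T := by
  by_cases hc : ∀ b : Fin 6, 5 ≤ b.val → T.picMatrix 3 b = 0
  · exact nd_123 T hG hmax e_0_1 e_0_2 e_0_3 e_0_4 e_1_0 e_1_2 e_1_3 e_1_4 e_2_0 e_2_1 e_2_3 e_2_4 e_3_0 e_3_1 e_3_2 e_3_4 e_4_0 e_4_1 e_4_2 e_4_3 (nt_cl_succ T 5 3 3 rfl cl hc)
  · obtain ⟨τ, hfix, cl', z, hne⟩ := nt_wlog_step T 5 (by norm_num) 3 (by norm_num) 3 (by decide) cl hc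
    apply goal_relabel T τ
    refine ex_128 (ntRelabel T τ) (hG.relabel τ) ?_ ?_ ?_ ?_ ?_ ?_ ?_ ?_ ?_ ?_ ?_ ?_ ?_ ?_ ?_ ?_ ?_ ?_ ?_ ?_ ?_ cl' z hne
    · intro j
      show T.m (τ j) ≤ T.m (τ 0)
      rw [hfix 0 (by decide)]
      exact hmax _
    · show T.picMatrix (τ 0) (τ 1) = 1
      rw [hfix 0 (by decide), hfix 1 (by decide)]
      exact e_0_1
    · show T.picMatrix (τ 0) (τ 2) = 1
      rw [hfix 0 (by decide), hfix 2 (by decide)]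
      exact e_0_2
    · show T.picMatrix (τ 0) (τ 3) = 1
      rw [hfix 0 (by decide), hfix 3 (by decide)]
      exact e_0_3
    · show T.picMatrix (τ 0) (τ 4) = 0
      rw [hfix 0 (by decide), hfix 4 (by decide)]
      exact e_0_4
    · show T.picMatrix (τ 1) (τ 0) = 1
      rw [hfix 1 (by decide), hfix 0 (by decide)]
      exact e_1_0
    · show T.picMatrix (τ 1) (τ 2) = 0
      rw [hfix 1 (by decide), hfix 2 (by decide)]
      exact e_1_2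
    · show T.picMatrix (τ 1) (τ 3) = 0
      rw [hfix 1 (by decide), hfix 3 (by decide)]
      exact e_1_3
    · show T.picMatrix (τ 1) (τ 4) = 0
      rw [hfix 1 (by decide), hfix 4 (by decide)]
      exact e_1_4
    · show T.picMatrix (τ 2) (τ 0) = 1
      rw [hfix 2 (by decide), hfix 0 (by decide)]
      exact e_2_0
    · show T.picMatrix (τ 2) (τ 1) = 0
      rw [hfix 2 (by decide), hfix 1 (by decide)]
      exact e_2_1
    · show T.picMatrix (τ 2) (τ 3) = 0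
      rw [hfix 2 (by decide), hfix 3 (by decide)]
      exact e_2_3
    · show T.picMatrix (τ 2) (τ 4) = 0
      rw [hfix 2 (by decide), hfix 4 (by decide)]
      exact e_2_4
    · show T.picMatrix (τ 3) (τ 0) = 1
      rw [hfix 3 (by decide), hfix 0 (by decide)]
      exact e_3_0
    · show T.picMatrix (τ 3) (τ 1) = 0
      rw [hfix 3 (by decide), hfix 1 (by decide)]
      exact e_3_1
    · show T.picMatrix (τ 3) (τ 2) = 0
      rw [hfix 3 (by decide), hfix 2 (by decide)]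
      exact e_3_2
    · show T.picMatrix (τ 3) (τ 4) = 1
      rw [hfix 3 (by decide), hfix 4 (by decide)]
      exact e_3_4
    · show T.picMatrix (τ 4) (τ 0) = 0
      rw [hfix 4 (by decide), hfix 0 (by decide)]
      exact e_4_0
    · show T.picMatrix (τ 4) (τ 1) = 0
      rw [hfix 4 (by decide), hfix 1 (by decide)]
      exact e_4_1
    · show T.picMatrix (τ 4) (τ 2) = 0
      rw [hfix 4 (by decide), hfix 2 (by decide)]
      exact e_4_2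
    · show T.picMatrix (τ 4) (τ 3) = 1
      rw [hfix 4 (by decide), hfix 3 (by decide)]
      exact e_4_3

theorem nd_132 (T : Models.NumericalType 6)
    (hG : NTGood T)
    (hmax : ∀ j, T.m j ≤ T.m 0)
    (e_0_1 : T.picMatrix 0 1 = 1)
    (e_0_2 : T.picMatrix 0 2 = 1)
    (e_0_3 : T.picMatrix 0 3 = 1)
    (e_0_4 : T.picMatrix 0 4 = 0)
    (e_1_0 : T.picMatrix 1 0 = 1)
    (e_1_2 : T.picMatrix 1 2 = 0)
    (e_1_3 : T.picMatrix 1 3 = 0)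
    (e_1_4 : T.picMatrix 1 4 = 0)
    (e_2_0 : T.picMatrix 2 0 = 1)
    (e_2_1 : T.picMatrix 2 1 = 0)
    (e_2_3 : T.picMatrix 2 3 = 0)
    (e_2_4 : T.picMatrix 2 4 = 0)
    (e_3_0 : T.picMatrix 3 0 = 1)
    (e_3_1 : T.picMatrix 3 1 = 0)
    (e_3_2 : T.picMatrix 3 2 = 0)
    (e_3_4 : T.picMatrix 3 4 = 1)
    (e_4_0 : T.picMatrix 4 0 = 0)
    (e_4_1 : T.picMatrix 4 1 = 0)
    (e_4_2 : T.picMatrix 4 2 = 0)
    (e_4_3 : T.picMatrix 4 3 = 2)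
    (cl : ∀ a b : Fin 6, a.val < 5 → 5 ≤ b.val → T.picMatrix a b = 0) :
    Goal T := by
  exact (nt_closed_false T 5 (by norm_num) (by norm_num) cl).elim

theorem ex_133 (T : Models.NumericalType 6)
    (hG : NTGood T)
    (hmax : ∀ j, T.m j ≤ T.m 0)
    (e_0_1 : T.picMatrix 0 1 = 1)
    (e_0_2 : T.picMatrix 0 2 = 1)
    (e_0_3 : T.picMatrix 0 3 = 1)
    (e_0_4 : T.picMatrix 0 4 = 0)
    (e_1_0 : T.picMatrix 1 0 = 1)
    (e_1_2 : T.picMatrix 1 2 = 0)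
    (e_1_3 : T.picMatrix 1 3 = 0)
    (e_1_4 : T.picMatrix 1 4 = 0)
    (e_2_0 : T.picMatrix 2 0 = 1)
    (e_2_1 : T.picMatrix 2 1 = 0)
    (e_2_3 : T.picMatrix 2 3 = 0)
    (e_2_4 : T.picMatrix 2 4 = 0)
    (e_3_0 : T.picMatrix 3 0 = 1)
    (e_3_1 : T.picMatrix 3 1 = 0)
    (e_3_2 : T.picMatrix 3 2 = 0)
    (e_3_4 : T.picMatrix 3 4 = 1)
    (e_4_0 : T.picMatrix 4 0 = 0)
    (e_4_1 : T.picMatrix 4 1 = 0)
    (e_4_2 : T.picMatrix 4 2 = 0)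
    (e_4_3 : T.picMatrix 4 3 = 2)
    (cl : ∀ a b : Fin 6, a.val < 4 → 6 ≤ b.val → T.picMatrix a b = 0)
    (z : ∀ a : Fin 6, a.val < 4 → T.picMatrix a 5 = 0)
    (hne : T.picMatrix 4 5 ≠ 0) :
    Goal T := by
  have e_0_5 : T.picMatrix 0 5 = 0 := z 0 (by decide)
  have e_5_0 : T.picMatrix 5 0 = 0 := nt_pic_zero_symm T 0 5 e_0_5
  have e_1_5 : T.picMatrix 1 5 = 0 := z 1 (by decide)
  have e_5_1 : T.picMatrix 5 1 = 0 := nt_pic_zero_symm T 1 5 e_1_5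
  have e_2_5 : T.picMatrix 2 5 = 0 := z 2 (by decide)
  have e_5_2 : T.picMatrix 5 2 = 0 := nt_pic_zero_symm T 2 5 e_2_5
  have e_3_5 : T.picMatrix 3 5 = 0 := z 3 (by decide)
  have e_5_3 : T.picMatrix 5 3 = 0 := nt_pic_zero_symm T 3 5 e_3_5
  obtain ⟨hg0, hdA, hdP, hnn, hrow, hsym, hpair⟩ := ntgood_data T (by norm_num) hG
  have hm_0 := T.m_pos 0
  have hw_0 := T.w_pos 0
  have hm_1 := T.m_pos 1
  have hw_1 := T.w_pos 1
  have hm_2 := T.m_pos 2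
  have hw_2 := T.w_pos 2
  have hm_3 := T.m_pos 3
  have hw_3 := T.w_pos 3
  have hm_4 := T.m_pos 4
  have hw_4 := T.w_pos 4
  have hm_5 := T.m_pos 5
  have hw_5 := T.w_pos 5
  have hx_1 := hmax 1
  have hx_2 := hmax 2
  have hx_3 := hmax 3
  have hx_4 := hmax 4
  have hx_5 := hmax 5
  have N_4_5 := mul_nonneg (hnn 4 5 (by decide)) (T.m_pos 5).le
  have N_5_4 := mul_nonneg (hnn 5 4 (by decide)) (T.m_pos 4).le
  have R_0 := hrow 0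
  rw [Fin.sum_univ_six, hdP 0, e_0_1, e_0_2, e_0_3, e_0_4, e_0_5] at R_0
  have R_1 := hrow 1
  rw [Fin.sum_univ_six, hdP 1, e_1_0, e_1_2, e_1_3, e_1_4, e_1_5] at R_1
  have R_2 := hrow 2
  rw [Fin.sum_univ_six, hdP 2, e_2_0, e_2_1, e_2_3, e_2_4, e_2_5] at R_2
  have R_3 := hrow 3
  rw [Fin.sum_univ_six, hdP 3, e_3_0, e_3_1, e_3_2, e_3_4, e_3_5] at R_3
  have R_4 := hrow 4
  rw [Fin.sum_univ_six, hdP 4, e_4_0, e_4_1, e_4_2, e_4_3] at R_4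
  have R_5 := hrow 5
  rw [Fin.sum_univ_six, hdP 5, e_5_0, e_5_1, e_5_2, e_5_3] at R_5
  have S_0_1 := hsym 0 1
  rw [e_0_1, e_1_0] at S_0_1
  have S_0_2 := hsym 0 2
  rw [e_0_2, e_2_0] at S_0_2
  have S_0_3 := hsym 0 3
  rw [e_0_3, e_3_0] at S_0_3
  have S_0_4 := hsym 0 4
  rw [e_0_4, e_4_0] at S_0_4
  have S_0_5 := hsym 0 5
  rw [e_0_5, e_5_0] at S_0_5
  have S_1_2 := hsym 1 2
  rw [e_1_2, e_2_1] at S_1_2
  have S_1_3 := hsym 1 3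
  rw [e_1_3, e_3_1] at S_1_3
  have S_1_4 := hsym 1 4
  rw [e_1_4, e_4_1] at S_1_4
  have S_1_5 := hsym 1 5
  rw [e_1_5, e_5_1] at S_1_5
  have S_2_3 := hsym 2 3
  rw [e_2_3, e_3_2] at S_2_3
  have S_2_4 := hsym 2 4
  rw [e_2_4, e_4_2] at S_2_4
  have S_2_5 := hsym 2 5
  rw [e_2_5, e_5_2] at S_2_5
  have S_3_4 := hsym 3 4
  rw [e_3_4, e_4_3] at S_3_4
  have S_3_5 := hsym 3 5
  rw [e_3_5, e_5_3] at S_3_5
  have S_4_5 := hsym 4 5
  have Q_4 := hpair 4 5 (by decide)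
  generalize e_4_5 : T.picMatrix 4 5 = x_4 at *
  generalize e_5_4 : T.picMatrix 5 4 = y_4 at *
  rcases Q_4 with ⟨rfl, rfl⟩ | ⟨rfl, rfl⟩ | ⟨rfl, rfl⟩ | ⟨rfl, rfl⟩ | ⟨rfl, rfl⟩ | ⟨rfl, rfl⟩ | ⟨rfl, rfl⟩ | ⟨rfl, rfl⟩ | ⟨rfl, rfl⟩
  · exact absurd rfl hne
  · -- (4,5) = (1,1)
    omega
  · -- (4,5) = (1,2)
    omega
  · -- (4,5) = (2,1)
    omega
  · -- (4,5) = (1,3)
    omega
  · -- (4,5) = (3,1)
    omega
  · -- (4,5) = (1,4)
    omega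
  · -- (4,5) = (4,1)
    omega
  · -- (4,5) = (2,2)
    omega

theorem nd_131 (T : Models.NumericalType 6)
    (hG : NTGood T)
    (hmax : ∀ j, T.m j ≤ T.m 0)
    (e_0_1 : T.picMatrix 0 1 = 1)
    (e_0_2 : T.picMatrix 0 2 = 1)
    (e_0_3 : T.picMatrix 0 3 = 1)
    (e_0_4 : T.picMatrix 0 4 = 0)
    (e_1_0 : T.picMatrix 1 0 = 1)
    (e_1_2 : T.picMatrix 1 2 = 0)
    (e_1_3 : T.picMatrix 1 3 = 0)
    (e_1_4 : T.picMatrix 1 4 = 0)
    (e_2_0 : T.picMatrix 2 0 = 1)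
    (e_2_1 : T.picMatrix 2 1 = 0)
    (e_2_3 : T.picMatrix 2 3 = 0)
    (e_2_4 : T.picMatrix 2 4 = 0)
    (e_3_0 : T.picMatrix 3 0 = 1)
    (e_3_1 : T.picMatrix 3 1 = 0)
    (e_3_2 : T.picMatrix 3 2 = 0)
    (e_3_4 : T.picMatrix 3 4 = 1)
    (e_4_0 : T.picMatrix 4 0 = 0)
    (e_4_1 : T.picMatrix 4 1 = 0)
    (e_4_2 : T.picMatrix 4 2 = 0)
    (e_4_3 : T.picMatrix 4 3 = 2)
    (cl : ∀ a b : Fin 6, a.val < 4 → 5 ≤ b.val → T.picMatrix a b = 0) :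
    Goal T := by
  by_cases hc : ∀ b : Fin 6, 5 ≤ b.val → T.picMatrix 4 b = 0
  · exact nd_132 T hG hmax e_0_1 e_0_2 e_0_3 e_0_4 e_1_0 e_1_2 e_1_3 e_1_4 e_2_0 e_2_1 e_2_3 e_2_4 e_3_0 e_3_1 e_3_2 e_3_4 e_4_0 e_4_1 e_4_2 e_4_3 (nt_cl_succ T 5 4 4 rfl cl hc)
  · obtain ⟨τ, hfix, cl', z, hne⟩ := nt_wlog_step T 5 (by norm_num) 4 (by norm_num) 4 (by decide) cl hc
    apply goal_relabel T τ
    refine ex_133 (ntRelabel T τ) (hG.relabel τ) ?_ ?_ ?_ ?_ ?_ ?_ ?_ ?_ ?_ ?_ ?_ ?_ ?_ ?_ ?_ ?_ ?_ ?_ ?_ ?_ ?_ cl' z hne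
    · intro j
      show T.m (τ j) ≤ T.m (τ 0)
      rw [hfix 0 (by decide)]
      exact hmax _
    · show T.picMatrix (τ 0) (τ 1) = 1
      rw [hfix 0 (by decide), hfix 1 (by decide)]
      exact e_0_1
    · show T.picMatrix (τ 0) (τ 2) = 1
      rw [hfix 0 (by decide), hfix 2 (by decide)]
      exact e_0_2
    · show T.picMatrix (τ 0) (τ 3) = 1
      rw [hfix 0 (by decide), hfix 3 (by decide)]
      exact e_0_3
    · show T.picMatrix (τ 0) (τ 4) = 0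
      rw [hfix 0 (by decide), hfix 4 (by decide)]
      exact e_0_4
    · show T.picMatrix (τ 1) (τ 0) = 1
      rw [hfix 1 (by decide), hfix 0 (by decide)]
      exact e_1_0
    · show T.picMatrix (τ 1) (τ 2) = 0
      rw [hfix 1 (by decide), hfix 2 (by decide)]
      exact e_1_2
    · show T.picMatrix (τ 1) (τ 3) = 0
      rw [hfix 1 (by decide), hfix 3 (by decide)]
      exact e_1_3
    · show T.picMatrix (τ 1) (τ 4) = 0
      rw [hfix 1 (by decide), hfix 4 (by decide)]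
      exact e_1_4
    · show T.picMatrix (τ 2) (τ 0) = 1
      rw [hfix 2 (by decide), hfix 0 (by decide)]
      exact e_2_0
    · show T.picMatrix (τ 2) (τ 1) = 0
      rw [hfix 2 (by decide), hfix 1 (by decide)]
      exact e_2_1
    · show T.picMatrix (τ 2) (τ 3) = 0
      rw [hfix 2 (by decide), hfix 3 (by decide)]
      exact e_2_3
    · show T.picMatrix (τ 2) (τ 4) = 0
      rw [hfix 2 (by decide), hfix 4 (by decide)]
      exact e_2_4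
    · show T.picMatrix (τ 3) (τ 0) = 1
      rw [hfix 3 (by decide), hfix 0 (by decide)]
      exact e_3_0
    · show T.picMatrix (τ 3) (τ 1) = 0
      rw [hfix 3 (by decide), hfix 1 (by decide)]
      exact e_3_1
    · show T.picMatrix (τ 3) (τ 2) = 0
      rw [hfix 3 (by decide), hfix 2 (by decide)]
      exact e_3_2
    · show T.picMatrix (τ 3) (τ 4) = 1
      rw [hfix 3 (by decide), hfix 4 (by decide)]
      exact e_3_4
    · show T.picMatrix (τ 4) (τ 0) = 0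
      rw [hfix 4 (by decide), hfix 0 (by decide)]
      exact e_4_0
    · show T.picMatrix (τ 4) (τ 1) = 0
      rw [hfix 4 (by decide), hfix 1 (by decide)]
      exact e_4_1
    · show T.picMatrix (τ 4) (τ 2) = 0
      rw [hfix 4 (by decide), hfix 2 (by decide)]
      exact e_4_2
    · show T.picMatrix (τ 4) (τ 3) = 2
      rw [hfix 4 (by decide), hfix 3 (by decide)]
      exact e_4_3

theorem ex_134 (T : Models.NumericalType 6)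
    (hG : NTGood T)
    (hmax : ∀ j, T.m j ≤ T.m 0)
    (e_0_1 : T.picMatrix 0 1 = 1)
    (e_0_2 : T.picMatrix 0 2 = 1)
    (e_0_3 : T.picMatrix 0 3 = 1)
    (e_0_4 : T.picMatrix 0 4 = 0)
    (e_1_0 : T.picMatrix 1 0 = 1)
    (e_1_2 : T.picMatrix 1 2 = 0)
    (e_1_3 : T.picMatrix 1 3 = 0)
    (e_1_4 : T.picMatrix 1 4 = 0)
    (e_2_0 : T.picMatrix 2 0 = 1)
    (e_2_1 : T.picMatrix 2 1 = 0)
    (e_2_3 : T.picMatrix 2 3 = 0)
    (e_2_4 : T.picMatrix 2 4 = 0)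
    (e_3_0 : T.picMatrix 3 0 = 1)
    (e_3_1 : T.picMatrix 3 1 = 0)
    (e_3_2 : T.picMatrix 3 2 = 0)
    (e_3_4 : T.picMatrix 3 4 = 1)
    (e_4_0 : T.picMatrix 4 0 = 0)
    (e_4_1 : T.picMatrix 4 1 = 0)
    (e_4_2 : T.picMatrix 4 2 = 0)
    (e_4_3 : T.picMatrix 4 3 = 2)
    (cl : ∀ a b : Fin 6, a.val < 3 → 6 ≤ b.val → T.picMatrix a b = 0)
    (z : ∀ a : Fin 6, a.val < 3 → T.picMatrix a 5 = 0)
    (hne : T.picMatrix 3 5 ≠ 0) :
    Goal T := by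
  have e_0_5 : T.picMatrix 0 5 = 0 := z 0 (by decide)
  have e_5_0 : T.picMatrix 5 0 = 0 := nt_pic_zero_symm T 0 5 e_0_5
  have e_1_5 : T.picMatrix 1 5 = 0 := z 1 (by decide)
  have e_5_1 : T.picMatrix 5 1 = 0 := nt_pic_zero_symm T 1 5 e_1_5
  have e_2_5 : T.picMatrix 2 5 = 0 := z 2 (by decide)
  have e_5_2 : T.picMatrix 5 2 = 0 := nt_pic_zero_symm T 2 5 e_2_5
  obtain ⟨hg0, hdA, hdP, hnn, hrow, hsym, hpair⟩ := ntgood_data T (by norm_num) hG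
  have hm_0 := T.m_pos 0
  have hw_0 := T.w_pos 0
  have hm_1 := T.m_pos 1
  have hw_1 := T.w_pos 1
  have hm_2 := T.m_pos 2
  have hw_2 := T.w_pos 2
  have hm_3 := T.m_pos 3
  have hw_3 := T.w_pos 3
  have hm_4 := T.m_pos 4
  have hw_4 := T.w_pos 4
  have hm_5 := T.m_pos 5
  have hw_5 := T.w_pos 5
  have hx_1 := hmax 1
  have hx_2 := hmax 2
  have hx_3 := hmax 3
  have hx_4 := hmax 4
  have hx_5 := hmax 5
  have N_3_5 := mul_nonneg (hnn 3 5 (by decide)) (T.m_pos 5).le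
  have N_5_3 := mul_nonneg (hnn 5 3 (by decide)) (T.m_pos 3).le
  have N_4_5 := mul_nonneg (hnn 4 5 (by decide)) (T.m_pos 5).le
  have N_5_4 := mul_nonneg (hnn 5 4 (by decide)) (T.m_pos 4).le
  have R_0 := hrow 0
  rw [Fin.sum_univ_six, hdP 0, e_0_1, e_0_2, e_0_3, e_0_4, e_0_5] at R_0
  have R_1 := hrow 1
  rw [Fin.sum_univ_six, hdP 1, e_1_0, e_1_2, e_1_3, e_1_4, e_1_5] at R_1
  have R_2 := hrow 2
  rw [Fin.sum_univ_six, hdP 2, e_2_0, e_2_1, e_2_3, e_2_4, e_2_5] at R_2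
  have R_3 := hrow 3
  rw [Fin.sum_univ_six, hdP 3, e_3_0, e_3_1, e_3_2, e_3_4] at R_3
  have R_4 := hrow 4
  rw [Fin.sum_univ_six, hdP 4, e_4_0, e_4_1, e_4_2, e_4_3] at R_4
  have R_5 := hrow 5
  rw [Fin.sum_univ_six, hdP 5, e_5_0, e_5_1, e_5_2] at R_5
  have S_0_1 := hsym 0 1
  rw [e_0_1, e_1_0] at S_0_1
  have S_0_2 := hsym 0 2
  rw [e_0_2, e_2_0] at S_0_2
  have S_0_3 := hsym 0 3
  rw [e_0_3, e_3_0] at S_0_3
  have S_0_4 := hsym 0 4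
  rw [e_0_4, e_4_0] at S_0_4
  have S_0_5 := hsym 0 5
  rw [e_0_5, e_5_0] at S_0_5
  have S_1_2 := hsym 1 2
  rw [e_1_2, e_2_1] at S_1_2
  have S_1_3 := hsym 1 3
  rw [e_1_3, e_3_1] at S_1_3
  have S_1_4 := hsym 1 4
  rw [e_1_4, e_4_1] at S_1_4
  have S_1_5 := hsym 1 5
  rw [e_1_5, e_5_1] at S_1_5
  have S_2_3 := hsym 2 3
  rw [e_2_3, e_3_2] at S_2_3
  have S_2_4 := hsym 2 4
  rw [e_2_4, e_4_2] at S_2_4
  have S_2_5 := hsym 2 5
  rw [e_2_5, e_5_2] at S_2_5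
  have S_3_4 := hsym 3 4
  rw [e_3_4, e_4_3] at S_3_4
  have S_3_5 := hsym 3 5
  have S_4_5 := hsym 4 5
  have Q_3 := hpair 3 5 (by decide)
  have Q_4 := hpair 4 5 (by decide)
  generalize e_3_5 : T.picMatrix 3 5 = x_3 at *
  generalize e_5_3 : T.picMatrix 5 3 = y_3 at *
  generalize e_4_5 : T.picMatrix 4 5 = x_4 at *
  generalize e_5_4 : T.picMatrix 5 4 = y_4 at *
  rcases Q_3 with ⟨rfl, rfl⟩ | ⟨rfl, rfl⟩ | ⟨rfl, rfl⟩ | ⟨rfl, rfl⟩ | ⟨rfl, rfl⟩ | ⟨rfl, rfl⟩ | ⟨rfl, rfl⟩ | ⟨rfl, rfl⟩ | ⟨rfl, rfl⟩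
  · exact absurd rfl hne
  · omega
  · omega
  · omega
  · omega
  · omega
  · omega
  · omega
  · omega

theorem nd_130 (T : Models.NumericalType 6)
    (hG : NTGood T)
    (hmax : ∀ j, T.m j ≤ T.m 0)
    (e_0_1 : T.picMatrix 0 1 = 1)
    (e_0_2 : T.picMatrix 0 2 = 1)
    (e_0_3 : T.picMatrix 0 3 = 1)
    (e_0_4 : T.picMatrix 0 4 = 0)
    (e_1_0 : T.picMatrix 1 0 = 1)
    (e_1_2 : T.picMatrix 1 2 = 0)
    (e_1_3 : T.picMatrix 1 3 = 0)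
    (e_1_4 : T.picMatrix 1 4 = 0)
    (e_2_0 : T.picMatrix 2 0 = 1)
    (e_2_1 : T.picMatrix 2 1 = 0)
    (e_2_3 : T.picMatrix 2 3 = 0)
    (e_2_4 : T.picMatrix 2 4 = 0)
    (e_3_0 : T.picMatrix 3 0 = 1)
    (e_3_1 : T.picMatrix 3 1 = 0)
    (e_3_2 : T.picMatrix 3 2 = 0)
    (e_3_4 : T.picMatrix 3 4 = 1)
    (e_4_0 : T.picMatrix 4 0 = 0)
    (e_4_1 : T.picMatrix 4 1 = 0)
    (e_4_2 : T.picMatrix 4 2 = 0)
    (e_4_3 : T.picMatrix 4 3 = 2)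
    (cl : ∀ a b : Fin 6, a.val < 3 → 5 ≤ b.val → T.picMatrix a b = 0) :
    Goal T := by
  by_cases hc : ∀ b : Fin 6, 5 ≤ b.val → T.picMatrix 3 b = 0
  · exact nd_131 T hG hmax e_0_1 e_0_2 e_0_3 e_0_4 e_1_0 e_1_2 e_1_3 e_1_4 e_2_0 e_2_1 e_2_3 e_2_4 e_3_0 e_3_1 e_3_2 e_3_4 e_4_0 e_4_1 e_4_2 e_4_3 (nt_cl_succ T 5 3 3 rfl cl hc)
  · obtain ⟨τ, hfix, cl', z, hne⟩ := nt_wlog_step T 5 (by norm_num) 3 (by norm_num) 3 (by decide) cl hc
    apply goal_relabel T τ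
    refine ex_134 (ntRelabel T τ) (hG.relabel τ) ?_ ?_ ?_ ?_ ?_ ?_ ?_ ?_ ?_ ?_ ?_ ?_ ?_ ?_ ?_ ?_ ?_ ?_ ?_ ?_ ?_ cl' z hne
    · intro j
      show T.m (τ j) ≤ T.m (τ 0)
      rw [hfix 0 (by decide)]
      exact hmax _
    · show T.picMatrix (τ 0) (τ 1) = 1
      rw [hfix 0 (by decide), hfix 1 (by decide)]
      exact e_0_1
    · show T.picMatrix (τ 0) (τ 2) = 1
      rw [hfix 0 (by decide), hfix 2 (by decide)]
      exact e_0_2
    · show T.picMatrix (τ 0) (τ 3) = 1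
      rw [hfix 0 (by decide), hfix 3 (by decide)]
      exact e_0_3
    · show T.picMatrix (τ 0) (τ 4) = 0
      rw [hfix 0 (by decide), hfix 4 (by decide)]
      exact e_0_4
    · show T.picMatrix (τ 1) (τ 0) = 1
      rw [hfix 1 (by decide), hfix 0 (by decide)]
      exact e_1_0
    · show T.picMatrix (τ 1) (τ 2) = 0
      rw [hfix 1 (by decide), hfix 2 (by decide)]
      exact e_1_2
    · show T.picMatrix (τ 1) (τ 3) = 0
      rw [hfix 1 (by decide), hfix 3 (by decide)]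
      exact e_1_3
    · show T.picMatrix (τ 1) (τ 4) = 0
      rw [hfix 1 (by decide), hfix 4 (by decide)]
      exact e_1_4
    · show T.picMatrix (τ 2) (τ 0) = 1
      rw [hfix 2 (by decide), hfix 0 (by decide)]
      exact e_2_0
    · show T.picMatrix (τ 2) (τ 1) = 0
      rw [hfix 2 (by decide), hfix 1 (by decide)]
      exact e_2_1
    · show T.picMatrix (τ 2) (τ 3) = 0
      rw [hfix 2 (by decide), hfix 3 (by decide)]
      exact e_2_3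
    · show T.picMatrix (τ 2) (τ 4) = 0
      rw [hfix 2 (by decide), hfix 4 (by decide)]
      exact e_2_4
    · show T.picMatrix (τ 3) (τ 0) = 1
      rw [hfix 3 (by decide), hfix 0 (by decide)]
      exact e_3_0
    · show T.picMatrix (τ 3) (τ 1) = 0
      rw [hfix 3 (by decide), hfix 1 (by decide)]
      exact e_3_1
    · show T.picMatrix (τ 3) (τ 2) = 0
      rw [hfix 3 (by decide), hfix 2 (by decide)]
      exact e_3_2
    · show T.picMatrix (τ 3) (τ 4) = 1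
      rw [hfix 3 (by decide), hfix 4 (by decide)]
      exact e_3_4
    · show T.picMatrix (τ 4) (τ 0) = 0
      rw [hfix 4 (by decide), hfix 0 (by decide)]
      exact e_4_0
    · show T.picMatrix (τ 4) (τ 1) = 0
      rw [hfix 4 (by decide), hfix 1 (by decide)]
      exact e_4_1
    · show T.picMatrix (τ 4) (τ 2) = 0
      rw [hfix 4 (by decide), hfix 2 (by decide)]
      exact e_4_2
    · show T.picMatrix (τ 4) (τ 3) = 2
      rw [hfix 4 (by decide), hfix 3 (by decide)]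
      exact e_4_3

theorem nd_137 (T : Models.NumericalType 6)
    (hG : NTGood T)
    (hmax : ∀ j, T.m j ≤ T.m 0)
    (e_0_1 : T.picMatrix 0 1 = 1)
    (e_0_2 : T.picMatrix 0 2 = 1)
    (e_0_3 : T.picMatrix 0 3 = 1)
    (e_0_4 : T.picMatrix 0 4 = 0)
    (e_1_0 : T.picMatrix 1 0 = 1)
    (e_1_2 : T.picMatrix 1 2 = 0)
    (e_1_3 : T.picMatrix 1 3 = 0)
    (e_1_4 : T.picMatrix 1 4 = 0)
    (e_2_0 : T.picMatrix 2 0 = 1)
    (e_2_1 : T.picMatrix 2 1 = 0)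
    (e_2_3 : T.picMatrix 2 3 = 0)
    (e_2_4 : T.picMatrix 2 4 = 0)
    (e_3_0 : T.picMatrix 3 0 = 1)
    (e_3_1 : T.picMatrix 3 1 = 0)
    (e_3_2 : T.picMatrix 3 2 = 0)
    (e_3_4 : T.picMatrix 3 4 = 2)
    (e_4_0 : T.picMatrix 4 0 = 0)
    (e_4_1 : T.picMatrix 4 1 = 0)
    (e_4_2 : T.picMatrix 4 2 = 0)
    (e_4_3 : T.picMatrix 4 3 = 1)
    (cl : ∀ a b : Fin 6, a.val < 5 → 5 ≤ b.val → T.picMatrix a b = 0) :
    Goal T := by
  exact (nt_closed_false T 5 (by norm_num) (by norm_num) cl).elim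

theorem ex_138 (T : Models.NumericalType 6)
    (hG : NTGood T)
    (hmax : ∀ j, T.m j ≤ T.m 0)
    (e_0_1 : T.picMatrix 0 1 = 1)
    (e_0_2 : T.picMatrix 0 2 = 1)
    (e_0_3 : T.picMatrix 0 3 = 1)
    (e_0_4 : T.picMatrix 0 4 = 0)
    (e_1_0 : T.picMatrix 1 0 = 1)
    (e_1_2 : T.picMatrix 1 2 = 0)
    (e_1_3 : T.picMatrix 1 3 = 0)
    (e_1_4 : T.picMatrix 1 4 = 0)
    (e_2_0 : T.picMatrix 2 0 = 1)
    (e_2_1 : T.picMatrix 2 1 = 0)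
    (e_2_3 : T.picMatrix 2 3 = 0)
    (e_2_4 : T.picMatrix 2 4 = 0)
    (e_3_0 : T.picMatrix 3 0 = 1)
    (e_3_1 : T.picMatrix 3 1 = 0)
    (e_3_2 : T.picMatrix 3 2 = 0)
    (e_3_4 : T.picMatrix 3 4 = 2)
    (e_4_0 : T.picMatrix 4 0 = 0)
    (e_4_1 : T.picMatrix 4 1 = 0)
    (e_4_2 : T.picMatrix 4 2 = 0)
    (e_4_3 : T.picMatrix 4 3 = 1)
    (cl : ∀ a b : Fin 6, a.val < 4 → 6 ≤ b.val → T.picMatrix a b = 0)
    (z : ∀ a : Fin 6, a.val < 4 → T.picMatrix a 5 = 0)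
    (hne : T.picMatrix 4 5 ≠ 0) :
    Goal T := by
  have e_0_5 : T.picMatrix 0 5 = 0 := z 0 (by decide)
  have e_5_0 : T.picMatrix 5 0 = 0 := nt_pic_zero_symm T 0 5 e_0_5
  have e_1_5 : T.picMatrix 1 5 = 0 := z 1 (by decide)
  have e_5_1 : T.picMatrix 5 1 = 0 := nt_pic_zero_symm T 1 5 e_1_5
  have e_2_5 : T.picMatrix 2 5 = 0 := z 2 (by decide)
  have e_5_2 : T.picMatrix 5 2 = 0 := nt_pic_zero_symm T 2 5 e_2_5
  have e_3_5 : T.picMatrix 3 5 = 0 := z 3 (by decide)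
  have e_5_3 : T.picMatrix 5 3 = 0 := nt_pic_zero_symm T 3 5 e_3_5
  obtain ⟨hg0, hdA, hdP, hnn, hrow, hsym, hpair⟩ := ntgood_data T (by norm_num) hG
  have hm_0 := T.m_pos 0
  have hw_0 := T.w_pos 0
  have hm_1 := T.m_pos 1
  have hw_1 := T.w_pos 1
  have hm_2 := T.m_pos 2
  have hw_2 := T.w_pos 2
  have hm_3 := T.m_pos 3
  have hw_3 := T.w_pos 3
  have hm_4 := T.m_pos 4
  have hw_4 := T.w_pos 4
  have hm_5 := T.m_pos 5
  have hw_5 := T.w_pos 5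
  have hx_1 := hmax 1
  have hx_2 := hmax 2
  have hx_3 := hmax 3
  have hx_4 := hmax 4
  have hx_5 := hmax 5
  have N_4_5 := mul_nonneg (hnn 4 5 (by decide)) (T.m_pos 5).le
  have N_5_4 := mul_nonneg (hnn 5 4 (by decide)) (T.m_pos 4).le
  have R_0 := hrow 0
  rw [Fin.sum_univ_six, hdP 0, e_0_1, e_0_2, e_0_3, e_0_4, e_0_5] at R_0
  have R_1 := hrow 1
  rw [Fin.sum_univ_six, hdP 1, e_1_0, e_1_2, e_1_3, e_1_4, e_1_5] at R_1
  have R_2 := hrow 2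
  rw [Fin.sum_univ_six, hdP 2, e_2_0, e_2_1, e_2_3, e_2_4, e_2_5] at R_2
  have R_3 := hrow 3
  rw [Fin.sum_univ_six, hdP 3, e_3_0, e_3_1, e_3_2, e_3_4, e_3_5] at R_3
  have R_4 := hrow 4
  rw [Fin.sum_univ_six, hdP 4, e_4_0, e_4_1, e_4_2, e_4_3] at R_4
  have R_5 := hrow 5
  rw [Fin.sum_univ_six, hdP 5, e_5_0, e_5_1, e_5_2, e_5_3] at R_5
  have S_0_1 := hsym 0 1
  rw [e_0_1, e_1_0] at S_0_1
  have S_0_2 := hsym 0 2
  rw [e_0_2, e_2_0] at S_0_2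
  have S_0_3 := hsym 0 3
  rw [e_0_3, e_3_0] at S_0_3
  have S_0_4 := hsym 0 4
  rw [e_0_4, e_4_0] at S_0_4
  have S_0_5 := hsym 0 5
  rw [e_0_5, e_5_0] at S_0_5
  have S_1_2 := hsym 1 2
  rw [e_1_2, e_2_1] at S_1_2
  have S_1_3 := hsym 1 3
  rw [e_1_3, e_3_1] at S_1_3
  have S_1_4 := hsym 1 4
  rw [e_1_4, e_4_1] at S_1_4
  have S_1_5 := hsym 1 5
  rw [e_1_5, e_5_1] at S_1_5
  have S_2_3 := hsym 2 3
  rw [e_2_3, e_3_2] at S_2_3
  have S_2_4 := hsym 2 4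
  rw [e_2_4, e_4_2] at S_2_4
  have S_2_5 := hsym 2 5
  rw [e_2_5, e_5_2] at S_2_5
  have S_3_4 := hsym 3 4
  rw [e_3_4, e_4_3] at S_3_4
  have S_3_5 := hsym 3 5
  rw [e_3_5, e_5_3] at S_3_5
  have S_4_5 := hsym 4 5
  have Q_4 := hpair 4 5 (by decide)
  generalize e_4_5 : T.picMatrix 4 5 = x_4 at *
  generalize e_5_4 : T.picMatrix 5 4 = y_4 at *
  rcases Q_4 with ⟨rfl, rfl⟩ | ⟨rfl, rfl⟩ | ⟨rfl, rfl⟩ | ⟨rfl, rfl⟩ | ⟨rfl, rfl⟩ | ⟨rfl, rfl⟩ | ⟨rfl, rfl⟩ | ⟨rfl, rfl⟩ | ⟨rfl, rfl⟩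
  · exact absurd rfl hne
  · -- (4,5) = (1,1)
    omega
  · -- (4,5) = (1,2)
    omega
  · -- (4,5) = (2,1)
    omega
  · -- (4,5) = (1,3)
    omega
  · -- (4,5) = (3,1)
    omega
  · -- (4,5) = (1,4)
    omega
  · -- (4,5) = (4,1)
    omega
  · -- (4,5) = (2,2)
    omega

theorem nd_136 (T : Models.NumericalType 6)
    (hG : NTGood T)
    (hmax : ∀ j, T.m j ≤ T.m 0)
    (e_0_1 : T.picMatrix 0 1 = 1)
    (e_0_2 : T.picMatrix 0 2 = 1)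
    (e_0_3 : T.picMatrix 0 3 = 1)
    (e_0_4 : T.picMatrix 0 4 = 0)
    (e_1_0 : T.picMatrix 1 0 = 1)
    (e_1_2 : T.picMatrix 1 2 = 0)
    (e_1_3 : T.picMatrix 1 3 = 0)
    (e_1_4 : T.picMatrix 1 4 = 0)
    (e_2_0 : T.picMatrix 2 0 = 1)
    (e_2_1 : T.picMatrix 2 1 = 0)
    (e_2_3 : T.picMatrix 2 3 = 0)
    (e_2_4 : T.picMatrix 2 4 = 0)
    (e_3_0 : T.picMatrix 3 0 = 1)
    (e_3_1 : T.picMatrix 3 1 = 0)
    (e_3_2 : T.picMatrix 3 2 = 0)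
    (e_3_4 : T.picMatrix 3 4 = 2)
    (e_4_0 : T.picMatrix 4 0 = 0)
    (e_4_1 : T.picMatrix 4 1 = 0)
    (e_4_2 : T.picMatrix 4 2 = 0)
    (e_4_3 : T.picMatrix 4 3 = 1)
    (cl : ∀ a b : Fin 6, a.val < 4 → 5 ≤ b.val → T.picMatrix a b = 0) :
    Goal T := by
  by_cases hc : ∀ b : Fin 6, 5 ≤ b.val → T.picMatrix 4 b = 0
  · exact nd_137 T hG hmax e_0_1 e_0_2 e_0_3 e_0_4 e_1_0 e_1_2 e_1_3 e_1_4 e_2_0 e_2_1 e_2_3 e_2_4 e_3_0 e_3_1 e_3_2 e_3_4 e_4_0 e_4_1 e_4_2 e_4_3 (nt_cl_succ T 5 4 4 rfl cl hc)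
  · obtain ⟨τ, hfix, cl', z, hne⟩ := nt_wlog_step T 5 (by norm_num) 4 (by norm_num) 4 (by decide) cl hc
    apply goal_relabel T τ
    refine ex_138 (ntRelabel T τ) (hG.relabel τ) ?_ ?_ ?_ ?_ ?_ ?_ ?_ ?_ ?_ ?_ ?_ ?_ ?_ ?_ ?_ ?_ ?_ ?_ ?_ ?_ ?_ cl' z hne
    · intro j
      show T.m (τ j) ≤ T.m (τ 0)
      rw [hfix 0 (by decide)]
      exact hmax _
    · show T.picMatrix (τ 0) (τ 1) = 1
      rw [hfix 0 (by decide), hfix 1 (by decide)]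
      exact e_0_1
    · show T.picMatrix (τ 0) (τ 2) = 1
      rw [hfix 0 (by decide), hfix 2 (by decide)]
      exact e_0_2
    · show T.picMatrix (τ 0) (τ 3) = 1
      rw [hfix 0 (by decide), hfix 3 (by decide)]
      exact e_0_3
    · show T.picMatrix (τ 0) (τ 4) = 0
      rw [hfix 0 (by decide), hfix 4 (by decide)]
      exact e_0_4
    · show T.picMatrix (τ 1) (τ 0) = 1
      rw [hfix 1 (by decide), hfix 0 (by decide)]
      exact e_1_0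
    · show T.picMatrix (τ 1) (τ 2) = 0
      rw [hfix 1 (by decide), hfix 2 (by decide)]
      exact e_1_2
    · show T.picMatrix (τ 1) (τ 3) = 0
      rw [hfix 1 (by decide), hfix 3 (by decide)]
      exact e_1_3
    · show T.picMatrix (τ 1) (τ 4) = 0
      rw [hfix 1 (by decide), hfix 4 (by decide)]
      exact e_1_4
    · show T.picMatrix (τ 2) (τ 0) = 1
      rw [hfix 2 (by decide), hfix 0 (by decide)]
      exact e_2_0
    · show T.picMatrix (τ 2) (τ 1) = 0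
      rw [hfix 2 (by decide), hfix 1 (by decide)]
      exact e_2_1
    · show T.picMatrix (τ 2) (τ 3) = 0
      rw [hfix 2 (by decide), hfix 3 (by decide)]
      exact e_2_3
    · show T.picMatrix (τ 2) (τ 4) = 0
      rw [hfix 2 (by decide), hfix 4 (by decide)]
      exact e_2_4
    · show T.picMatrix (τ 3) (τ 0) = 1
      rw [hfix 3 (by decide), hfix 0 (by decide)]
      exact e_3_0
    · show T.picMatrix (τ 3) (τ 1) = 0
      rw [hfix 3 (by decide), hfix 1 (by decide)]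
      exact e_3_1
    · show T.picMatrix (τ 3) (τ 2) = 0
      rw [hfix 3 (by decide), hfix 2 (by decide)]
      exact e_3_2
    · show T.picMatrix (τ 3) (τ 4) = 2
      rw [hfix 3 (by decide), hfix 4 (by decide)]
      exact e_3_4
    · show T.picMatrix (τ 4) (τ 0) = 0
      rw [hfix 4 (by decide), hfix 0 (by decide)]
      exact e_4_0
    · show T.picMatrix (τ 4) (τ 1) = 0
      rw [hfix 4 (by decide), hfix 1 (by decide)]
      exact e_4_1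
    · show T.picMatrix (τ 4) (τ 2) = 0
      rw [hfix 4 (by decide), hfix 2 (by decide)]
      exact e_4_2
    · show T.picMatrix (τ 4) (τ 3) = 1
      rw [hfix 4 (by decide), hfix 3 (by decide)]
      exact e_4_3

theorem ex_139 (T : Models.NumericalType 6)
    (hG : NTGood T)
    (hmax : ∀ j, T.m j ≤ T.m 0)
    (e_0_1 : T.picMatrix 0 1 = 1)
    (e_0_2 : T.picMatrix 0 2 = 1)
    (e_0_3 : T.picMatrix 0 3 = 1)
    (e_0_4 : T.picMatrix 0 4 = 0)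
    (e_1_0 : T.picMatrix 1 0 = 1)
    (e_1_2 : T.picMatrix 1 2 = 0)
    (e_1_3 : T.picMatrix 1 3 = 0)
    (e_1_4 : T.picMatrix 1 4 = 0)
    (e_2_0 : T.picMatrix 2 0 = 1)
    (e_2_1 : T.picMatrix 2 1 = 0)
    (e_2_3 : T.picMatrix 2 3 = 0)
    (e_2_4 : T.picMatrix 2 4 = 0)
    (e_3_0 : T.picMatrix 3 0 = 1)
    (e_3_1 : T.picMatrix 3 1 = 0)
    (e_3_2 : T.picMatrix 3 2 = 0)
    (e_3_4 : T.picMatrix 3 4 = 2)
    (e_4_0 : T.picMatrix 4 0 = 0)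
    (e_4_1 : T.picMatrix 4 1 = 0)
    (e_4_2 : T.picMatrix 4 2 = 0)
    (e_4_3 : T.picMatrix 4 3 = 1)
    (cl : ∀ a b : Fin 6, a.val < 3 → 6 ≤ b.val → T.picMatrix a b = 0)
    (z : ∀ a : Fin 6, a.val < 3 → T.picMatrix a 5 = 0)
    (hne : T.picMatrix 3 5 ≠ 0) :
    Goal T := by
  have e_0_5 : T.picMatrix 0 5 = 0 := z 0 (by decide)
  have e_5_0 : T.picMatrix 5 0 = 0 := nt_pic_zero_symm T 0 5 e_0_5
  have e_1_5 : T.picMatrix 1 5 = 0 := z 1 (by decide)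
  have e_5_1 : T.picMatrix 5 1 = 0 := nt_pic_zero_symm T 1 5 e_1_5
  have e_2_5 : T.picMatrix 2 5 = 0 := z 2 (by decide)
  have e_5_2 : T.picMatrix 5 2 = 0 := nt_pic_zero_symm T 2 5 e_2_5
  obtain ⟨hg0, hdA, hdP, hnn, hrow, hsym, hpair⟩ := ntgood_data T (by norm_num) hG
  have hm_0 := T.m_pos 0
  have hw_0 := T.w_pos 0
  have hm_1 := T.m_pos 1
  have hw_1 := T.w_pos 1
  have hm_2 := T.m_pos 2
  have hw_2 := T.w_pos 2
  have hm_3 := T.m_pos 3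
  have hw_3 := T.w_pos 3
  have hm_4 := T.m_pos 4
  have hw_4 := T.w_pos 4
  have hm_5 := T.m_pos 5
  have hw_5 := T.w_pos 5
  have hx_1 := hmax 1
  have hx_2 := hmax 2
  have hx_3 := hmax 3
  have hx_4 := hmax 4
  have hx_5 := hmax 5
  have N_3_5 := mul_nonneg (hnn 3 5 (by decide)) (T.m_pos 5).le
  have N_5_3 := mul_nonneg (hnn 5 3 (by decide)) (T.m_pos 3).le
  have N_4_5 := mul_nonneg (hnn 4 5 (by decide)) (T.m_pos 5).le
  have N_5_4 := mul_nonneg (hnn 5 4 (by decide)) (T.m_pos 4).le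
  have R_0 := hrow 0
  rw [Fin.sum_univ_six, hdP 0, e_0_1, e_0_2, e_0_3, e_0_4, e_0_5] at R_0
  have R_1 := hrow 1
  rw [Fin.sum_univ_six, hdP 1, e_1_0, e_1_2, e_1_3, e_1_4, e_1_5] at R_1
  have R_2 := hrow 2
  rw [Fin.sum_univ_six, hdP 2, e_2_0, e_2_1, e_2_3, e_2_4, e_2_5] at R_2
  have R_3 := hrow 3
  rw [Fin.sum_univ_six, hdP 3, e_3_0, e_3_1, e_3_2, e_3_4] at R_3
  have R_4 := hrow 4
  rw [Fin.sum_univ_six, hdP 4, e_4_0, e_4_1, e_4_2, e_4_3] at R_4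
  have R_5 := hrow 5
  rw [Fin.sum_univ_six, hdP 5, e_5_0, e_5_1, e_5_2] at R_5
  have S_0_1 := hsym 0 1
  rw [e_0_1, e_1_0] at S_0_1
  have S_0_2 := hsym 0 2
  rw [e_0_2, e_2_0] at S_0_2
  have S_0_3 := hsym 0 3
  rw [e_0_3, e_3_0] at S_0_3
  have S_0_4 := hsym 0 4
  rw [e_0_4, e_4_0] at S_0_4
  have S_0_5 := hsym 0 5
  rw [e_0_5, e_5_0] at S_0_5
  have S_1_2 := hsym 1 2
  rw [e_1_2, e_2_1] at S_1_2
  have S_1_3 := hsym 1 3
  rw [e_1_3, e_3_1] at S_1_3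
  have S_1_4 := hsym 1 4
  rw [e_1_4, e_4_1] at S_1_4
  have S_1_5 := hsym 1 5
  rw [e_1_5, e_5_1] at S_1_5
  have S_2_3 := hsym 2 3
  rw [e_2_3, e_3_2] at S_2_3
  have S_2_4 := hsym 2 4
  rw [e_2_4, e_4_2] at S_2_4
  have S_2_5 := hsym 2 5
  rw [e_2_5, e_5_2] at S_2_5
  have S_3_4 := hsym 3 4
  rw [e_3_4, e_4_3] at S_3_4
  have S_3_5 := hsym 3 5
  have S_4_5 := hsym 4 5
  have Q_3 := hpair 3 5 (by decide)
  have Q_4 := hpair 4 5 (by decide)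
  generalize e_3_5 : T.picMatrix 3 5 = x_3 at *
  generalize e_5_3 : T.picMatrix 5 3 = y_3 at *
  generalize e_4_5 : T.picMatrix 4 5 = x_4 at *
  generalize e_5_4 : T.picMatrix 5 4 = y_4 at *
  rcases Q_3 with ⟨rfl, rfl⟩ | ⟨rfl, rfl⟩ | ⟨rfl, rfl⟩ | ⟨rfl, rfl⟩ | ⟨rfl, rfl⟩ | ⟨rfl, rfl⟩ | ⟨rfl, rfl⟩ | ⟨rfl, rfl⟩ | ⟨rfl, rfl⟩
  · exact absurd rfl hne
  · omega
  · omega
  · omega
  · omega
  · omega
  · omega
  · omega
  · omega

theorem nd_135 (T : Models.NumericalType 6)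
    (hG : NTGood T)
    (hmax : ∀ j, T.m j ≤ T.m 0)
    (e_0_1 : T.picMatrix 0 1 = 1)
    (e_0_2 : T.picMatrix 0 2 = 1)
    (e_0_3 : T.picMatrix 0 3 = 1)
    (e_0_4 : T.picMatrix 0 4 = 0)
    (e_1_0 : T.picMatrix 1 0 = 1)
    (e_1_2 : T.picMatrix 1 2 = 0)
    (e_1_3 : T.picMatrix 1 3 = 0)
    (e_1_4 : T.picMatrix 1 4 = 0)
    (e_2_0 : T.picMatrix 2 0 = 1)
    (e_2_1 : T.picMatrix 2 1 = 0)
    (e_2_3 : T.picMatrix 2 3 = 0)
    (e_2_4 : T.picMatrix 2 4 = 0)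
    (e_3_0 : T.picMatrix 3 0 = 1)
    (e_3_1 : T.picMatrix 3 1 = 0)
    (e_3_2 : T.picMatrix 3 2 = 0)
    (e_3_4 : T.picMatrix 3 4 = 2)
    (e_4_0 : T.picMatrix 4 0 = 0)
    (e_4_1 : T.picMatrix 4 1 = 0)
    (e_4_2 : T.picMatrix 4 2 = 0)
    (e_4_3 : T.picMatrix 4 3 = 1)
    (cl : ∀ a b : Fin 6, a.val < 3 → 5 ≤ b.val → T.picMatrix a b = 0) :
    Goal T := by
  by_cases hc : ∀ b : Fin 6, 5 ≤ b.val → T.picMatrix 3 b = 0
  · exact nd_136 T hG hmax e_0_1 e_0_2 e_0_3 e_0_4 e_1_0 e_1_2 e_1_3 e_1_4 e_2_0 e_2_1 e_2_3 e_2_4 e_3_0 e_3_1 e_3_2 e_3_4 e_4_0 e_4_1 e_4_2 e_4_3 (nt_cl_succ T 5 3 3 rfl cl hc)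
  · obtain ⟨τ, hfix, cl', z, hne⟩ := nt_wlog_step T 5 (by norm_num) 3 (by norm_num) 3 (by decide) cl hc
    apply goal_relabel T τ
    refine ex_139 (ntRelabel T τ) (hG.relabel τ) ?_ ?_ ?_ ?_ ?_ ?_ ?_ ?_ ?_ ?_ ?_ ?_ ?_ ?_ ?_ ?_ ?_ ?_ ?_ ?_ ?_ cl' z hne
    · intro j
      show T.m (τ j) ≤ T.m (τ 0)
      rw [hfix 0 (by decide)]
      exact hmax _
    · show T.picMatrix (τ 0) (τ 1) = 1
      rw [hfix 0 (by decide), hfix 1 (by decide)]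
      exact e_0_1
    · show T.picMatrix (τ 0) (τ 2) = 1
      rw [hfix 0 (by decide), hfix 2 (by decide)]
      exact e_0_2
    · show T.picMatrix (τ 0) (τ 3) = 1
      rw [hfix 0 (by decide), hfix 3 (by decide)]
      exact e_0_3
    · show T.picMatrix (τ 0) (τ 4) = 0
      rw [hfix 0 (by decide), hfix 4 (by decide)]
      exact e_0_4
    · show T.picMatrix (τ 1) (τ 0) = 1
      rw [hfix 1 (by decide), hfix 0 (by decide)]
      exact e_1_0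
    · show T.picMatrix (τ 1) (τ 2) = 0
      rw [hfix 1 (by decide), hfix 2 (by decide)]
      exact e_1_2
    · show T.picMatrix (τ 1) (τ 3) = 0
      rw [hfix 1 (by decide), hfix 3 (by decide)]
      exact e_1_3
    · show T.picMatrix (τ 1) (τ 4) = 0
      rw [hfix 1 (by decide), hfix 4 (by decide)]
      exact e_1_4
    · show T.picMatrix (τ 2) (τ 0) = 1
      rw [hfix 2 (by decide), hfix 0 (by decide)]
      exact e_2_0
    · show T.picMatrix (τ 2) (τ 1) = 0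
      rw [hfix 2 (by decide), hfix 1 (by decide)]
      exact e_2_1
    · show T.picMatrix (τ 2) (τ 3) = 0
      rw [hfix 2 (by decide), hfix 3 (by decide)]
      exact e_2_3
    · show T.picMatrix (τ 2) (τ 4) = 0
      rw [hfix 2 (by decide), hfix 4 (by decide)]
      exact e_2_4
    · show T.picMatrix (τ 3) (τ 0) = 1
      rw [hfix 3 (by decide), hfix 0 (by decide)]
      exact e_3_0
    · show T.picMatrix (τ 3) (τ 1) = 0
      rw [hfix 3 (by decide), hfix 1 (by decide)]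
      exact e_3_1
    · show T.picMatrix (τ 3) (τ 2) = 0
      rw [hfix 3 (by decide), hfix 2 (by decide)]
      exact e_3_2
    · show T.picMatrix (τ 3) (τ 4) = 2
      rw [hfix 3 (by decide), hfix 4 (by decide)]
      exact e_3_4
    · show T.picMatrix (τ 4) (τ 0) = 0
      rw [hfix 4 (by decide), hfix 0 (by decide)]
      exact e_4_0
    · show T.picMatrix (τ 4) (τ 1) = 0
      rw [hfix 4 (by decide), hfix 1 (by decide)]
      exact e_4_1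
    · show T.picMatrix (τ 4) (τ 2) = 0
      rw [hfix 4 (by decide), hfix 2 (by decide)]
      exact e_4_2
    · show T.picMatrix (τ 4) (τ 3) = 1
      rw [hfix 4 (by decide), hfix 3 (by decide)]
      exact e_4_3

theorem ex_121 (T : Models.NumericalType 6)
    (hG : NTGood T)
    (hmax : ∀ j, T.m j ≤ T.m 0)
    (e_0_1 : T.picMatrix 0 1 = 1)
    (e_0_2 : T.picMatrix 0 2 = 1)
    (e_0_3 : T.picMatrix 0 3 = 1)
    (e_1_0 : T.picMatrix 1 0 = 1)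
    (e_1_2 : T.picMatrix 1 2 = 0)
    (e_1_3 : T.picMatrix 1 3 = 0)
    (e_2_0 : T.picMatrix 2 0 = 1)
    (e_2_1 : T.picMatrix 2 1 = 0)
    (e_2_3 : T.picMatrix 2 3 = 0)
    (e_3_0 : T.picMatrix 3 0 = 1)
    (e_3_1 : T.picMatrix 3 1 = 0)
    (e_3_2 : T.picMatrix 3 2 = 0)
    (cl : ∀ a b : Fin 6, a.val < 3 → 5 ≤ b.val → T.picMatrix a b = 0)
    (z : ∀ a : Fin 6, a.val < 3 → T.picMatrix a 4 = 0)
    (hne : T.picMatrix 3 4 ≠ 0) :
    Goal T := by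
  have e_0_4 : T.picMatrix 0 4 = 0 := z 0 (by decide)
  have e_4_0 : T.picMatrix 4 0 = 0 := nt_pic_zero_symm T 0 4 e_0_4
  have e_1_4 : T.picMatrix 1 4 = 0 := z 1 (by decide)
  have e_4_1 : T.picMatrix 4 1 = 0 := nt_pic_zero_symm T 1 4 e_1_4
  have e_2_4 : T.picMatrix 2 4 = 0 := z 2 (by decide)
  have e_4_2 : T.picMatrix 4 2 = 0 := nt_pic_zero_symm T 2 4 e_2_4
  obtain ⟨hg0, hdA, hdP, hnn, hrow, hsym, hpair⟩ := ntgood_data T (by norm_num) hG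
  have hm_0 := T.m_pos 0
  have hw_0 := T.w_pos 0
  have hm_1 := T.m_pos 1
  have hw_1 := T.w_pos 1
  have hm_2 := T.m_pos 2
  have hw_2 := T.w_pos 2
  have hm_3 := T.m_pos 3
  have hw_3 := T.w_pos 3
  have hm_4 := T.m_pos 4
  have hw_4 := T.w_pos 4
  have hx_1 := hmax 1
  have hx_2 := hmax 2
  have hx_3 := hmax 3
  have hx_4 := hmax 4
  have Z_0_5 := cl 0 5 (by decide) (by decide)
  have Z_1_5 := cl 1 5 (by decide) (by decide)
  have Z_2_5 := cl 2 5 (by decide) (by decide)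
  have N_3_5 := mul_nonneg (hnn 3 5 (by decide)) (T.m_pos 5).le
  have N_4_5 := mul_nonneg (hnn 4 5 (by decide)) (T.m_pos 5).le
  have N_3_4 := mul_nonneg (hnn 3 4 (by decide)) (T.m_pos 4).le
  have N_4_3 := mul_nonneg (hnn 4 3 (by decide)) (T.m_pos 3).le
  have R_0 := hrow 0
  rw [Fin.sum_univ_six, hdP 0, e_0_1, e_0_2, e_0_3, e_0_4, Z_0_5] at R_0
  have R_1 := hrow 1
  rw [Fin.sum_univ_six, hdP 1, e_1_0, e_1_2, e_1_3, e_1_4, Z_1_5] at R_1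
  have R_2 := hrow 2
  rw [Fin.sum_univ_six, hdP 2, e_2_0, e_2_1, e_2_3, e_2_4, Z_2_5] at R_2
  have R_3 := hrow 3
  rw [Fin.sum_univ_six, hdP 3, e_3_0, e_3_1, e_3_2] at R_3
  have R_4 := hrow 4
  rw [Fin.sum_univ_six, hdP 4, e_4_0, e_4_1, e_4_2] at R_4
  have S_0_1 := hsym 0 1
  rw [e_0_1, e_1_0] at S_0_1
  have S_0_2 := hsym 0 2
  rw [e_0_2, e_2_0] at S_0_2
  have S_0_3 := hsym 0 3
  rw [e_0_3, e_3_0] at S_0_3
  have S_0_4 := hsym 0 4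
  rw [e_0_4, e_4_0] at S_0_4
  have S_1_2 := hsym 1 2
  rw [e_1_2, e_2_1] at S_1_2
  have S_1_3 := hsym 1 3
  rw [e_1_3, e_3_1] at S_1_3
  have S_1_4 := hsym 1 4
  rw [e_1_4, e_4_1] at S_1_4
  have S_2_3 := hsym 2 3
  rw [e_2_3, e_3_2] at S_2_3
  have S_2_4 := hsym 2 4
  rw [e_2_4, e_4_2] at S_2_4
  have S_3_4 := hsym 3 4
  have Q_3 := hpair 3 4 (by decide)
  generalize e_3_4 : T.picMatrix 3 4 = x_3 at *
  generalize e_4_3 : T.picMatrix 4 3 = y_3 at *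
  rcases Q_3 with ⟨rfl, rfl⟩ | ⟨rfl, rfl⟩ | ⟨rfl, rfl⟩ | ⟨rfl, rfl⟩ | ⟨rfl, rfl⟩ | ⟨rfl, rfl⟩ | ⟨rfl, rfl⟩ | ⟨rfl, rfl⟩ | ⟨rfl, rfl⟩
  · exact absurd rfl hne
  · -- (3,4) = (1,1)
    exact nd_122 T hG hmax e_0_1 e_0_2 e_0_3 e_0_4 e_1_0 e_1_2 e_1_3 e_1_4 e_2_0 e_2_1 e_2_3 e_2_4 e_3_0 e_3_1 e_3_2 e_3_4 e_4_0 e_4_1 e_4_2 e_4_3 cl
  · -- (3,4) = (1,2)
    exact nd_130 T hG hmax e_0_1 e_0_2 e_0_3 e_0_4 e_1_0 e_1_2 e_1_3 e_1_4 e_2_0 e_2_1 e_2_3 e_2_4 e_3_0 e_3_1 e_3_2 e_3_4 e_4_0 e_4_1 e_4_2 e_4_3 cl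
  · -- (3,4) = (2,1)
    exact nd_135 T hG hmax e_0_1 e_0_2 e_0_3 e_0_4 e_1_0 e_1_2 e_1_3 e_1_4 e_2_0 e_2_1 e_2_3 e_2_4 e_3_0 e_3_1 e_3_2 e_3_4 e_4_0 e_4_1 e_4_2 e_4_3 cl
  · -- (3,4) = (1,3)
    omega
  · -- (3,4) = (3,1)
    omega
  · -- (3,4) = (1,4)
    omega
  · -- (3,4) = (4,1)
    omega
  · -- (3,4) = (2,2)
    omega

theorem nd_119 (T : Models.NumericalType 6)
    (hG : NTGood T)
    (hmax : ∀ j, T.m j ≤ T.m 0)
    (e_0_1 : T.picMatrix 0 1 = 1)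
    (e_0_2 : T.picMatrix 0 2 = 1)
    (e_0_3 : T.picMatrix 0 3 = 1)
    (e_1_0 : T.picMatrix 1 0 = 1)
    (e_1_2 : T.picMatrix 1 2 = 0)
    (e_1_3 : T.picMatrix 1 3 = 0)
    (e_2_0 : T.picMatrix 2 0 = 1)
    (e_2_1 : T.picMatrix 2 1 = 0)
    (e_2_3 : T.picMatrix 2 3 = 0)
    (e_3_0 : T.picMatrix 3 0 = 1)
    (e_3_1 : T.picMatrix 3 1 = 0)
    (e_3_2 : T.picMatrix 3 2 = 0)
    (cl : ∀ a b : Fin 6, a.val < 3 → 4 ≤ b.val → T.picMatrix a b = 0) :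
    Goal T := by
  by_cases hc : ∀ b : Fin 6, 4 ≤ b.val → T.picMatrix 3 b = 0
  · exact nd_120 T hG hmax e_0_1 e_0_2 e_0_3 e_1_0 e_1_2 e_1_3 e_2_0 e_2_1 e_2_3 e_3_0 e_3_1 e_3_2 (nt_cl_succ T 4 3 3 rfl cl hc)
  · obtain ⟨τ, hfix, cl', z, hne⟩ := nt_wlog_step T 4 (by norm_num) 3 (by norm_num) 3 (by decide) cl hc
    apply goal_relabel T τ
    refine ex_121 (ntRelabel T τ) (hG.relabel τ) ?_ ?_ ?_ ?_ ?_ ?_ ?_ ?_ ?_ ?_ ?_ ?_ ?_ cl' z hne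
    · intro j
      show T.m (τ j) ≤ T.m (τ 0)
      rw [hfix 0 (by decide)]
      exact hmax _
    · show T.picMatrix (τ 0) (τ 1) = 1
      rw [hfix 0 (by decide), hfix 1 (by decide)]
      exact e_0_1
    · show T.picMatrix (τ 0) (τ 2) = 1
      rw [hfix 0 (by decide), hfix 2 (by decide)]
      exact e_0_2
    · show T.picMatrix (τ 0) (τ 3) = 1
      rw [hfix 0 (by decide), hfix 3 (by decide)]
      exact e_0_3
    · show T.picMatrix (τ 1) (τ 0) = 1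
      rw [hfix 1 (by decide), hfix 0 (by decide)]
      exact e_1_0
    · show T.picMatrix (τ 1) (τ 2) = 0
      rw [hfix 1 (by decide), hfix 2 (by decide)]
      exact e_1_2
    · show T.picMatrix (τ 1) (τ 3) = 0
      rw [hfix 1 (by decide), hfix 3 (by decide)]
      exact e_1_3
    · show T.picMatrix (τ 2) (τ 0) = 1
      rw [hfix 2 (by decide), hfix 0 (by decide)]
      exact e_2_0
    · show T.picMatrix (τ 2) (τ 1) = 0
      rw [hfix 2 (by decide), hfix 1 (by decide)]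
      exact e_2_1
    · show T.picMatrix (τ 2) (τ 3) = 0
      rw [hfix 2 (by decide), hfix 3 (by decide)]
      exact e_2_3
    · show T.picMatrix (τ 3) (τ 0) = 1
      rw [hfix 3 (by decide), hfix 0 (by decide)]
      exact e_3_0
    · show T.picMatrix (τ 3) (τ 1) = 0
      rw [hfix 3 (by decide), hfix 1 (by decide)]
      exact e_3_1
    · show T.picMatrix (τ 3) (τ 2) = 0
      rw [hfix 3 (by decide), hfix 2 (by decide)]
      exact e_3_2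

theorem nd_144 (T : Models.NumericalType 6)
    (hG : NTGood T)
    (hmax : ∀ j, T.m j ≤ T.m 0)
    (e_0_1 : T.picMatrix 0 1 = 1)
    (e_0_2 : T.picMatrix 0 2 = 1)
    (e_0_3 : T.picMatrix 0 3 = 1)
    (e_0_4 : T.picMatrix 0 4 = 0)
    (e_1_0 : T.picMatrix 1 0 = 1)
    (e_1_2 : T.picMatrix 1 2 = 0)
    (e_1_3 : T.picMatrix 1 3 = 0)
    (e_1_4 : T.picMatrix 1 4 = 0)
    (e_2_0 : T.picMatrix 2 0 = 1)
    (e_2_1 : T.picMatrix 2 1 = 0)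
    (e_2_3 : T.picMatrix 2 3 = 0)
    (e_2_4 : T.picMatrix 2 4 = 1)
    (e_3_0 : T.picMatrix 3 0 = 1)
    (e_3_1 : T.picMatrix 3 1 = 0)
    (e_3_2 : T.picMatrix 3 2 = 0)
    (e_3_4 : T.picMatrix 3 4 = 0)
    (e_4_0 : T.picMatrix 4 0 = 0)
    (e_4_1 : T.picMatrix 4 1 = 0)
    (e_4_2 : T.picMatrix 4 2 = 1)
    (e_4_3 : T.picMatrix 4 3 = 0)
    (cl : ∀ a b : Fin 6, a.val < 5 → 5 ≤ b.val → T.picMatrix a b = 0) :
    Goal T := by
  obtain ⟨hg0, hdA, hdP, hnn, hrow, hsym, hpair⟩ := ntgood_data T (by norm_num) hG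
  have hm_0 := T.m_pos 0
  have hw_0 := T.w_pos 0
  have hm_1 := T.m_pos 1
  have hw_1 := T.w_pos 1
  have hm_2 := T.m_pos 2
  have hw_2 := T.w_pos 2
  have hm_3 := T.m_pos 3
  have hw_3 := T.w_pos 3
  have hm_4 := T.m_pos 4
  have hw_4 := T.w_pos 4
  have hx_1 := hmax 1
  have hx_2 := hmax 2
  have hx_3 := hmax 3
  have hx_4 := hmax 4
  have Z_0_5 := cl 0 5 (by decide) (by decide)
  have Z_1_5 := cl 1 5 (by decide) (by decide)
  have Z_2_5 := cl 2 5 (by decide) (by decide)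
  have Z_3_5 := cl 3 5 (by decide) (by decide)
  have Z_4_5 := cl 4 5 (by decide) (by decide)
  have R_0 := hrow 0
  rw [Fin.sum_univ_six, hdP 0, e_0_1, e_0_2, e_0_3, e_0_4, Z_0_5] at R_0
  have R_1 := hrow 1
  rw [Fin.sum_univ_six, hdP 1, e_1_0, e_1_2, e_1_3, e_1_4, Z_1_5] at R_1
  have R_2 := hrow 2
  rw [Fin.sum_univ_six, hdP 2, e_2_0, e_2_1, e_2_3, e_2_4, Z_2_5] at R_2
  have R_3 := hrow 3
  rw [Fin.sum_univ_six, hdP 3, e_3_0, e_3_1, e_3_2, e_3_4, Z_3_5] at R_3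
  have R_4 := hrow 4
  rw [Fin.sum_univ_six, hdP 4, e_4_0, e_4_1, e_4_2, e_4_3, Z_4_5] at R_4
  have S_0_1 := hsym 0 1
  rw [e_0_1, e_1_0] at S_0_1
  have S_0_2 := hsym 0 2
  rw [e_0_2, e_2_0] at S_0_2
  have S_0_3 := hsym 0 3
  rw [e_0_3, e_3_0] at S_0_3
  have S_0_4 := hsym 0 4
  rw [e_0_4, e_4_0] at S_0_4
  have S_1_2 := hsym 1 2
  rw [e_1_2, e_2_1] at S_1_2
  have S_1_3 := hsym 1 3
  rw [e_1_3, e_3_1] at S_1_3
  have S_1_4 := hsym 1 4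
  rw [e_1_4, e_4_1] at S_1_4
  have S_2_3 := hsym 2 3
  rw [e_2_3, e_3_2] at S_2_3
  have S_2_4 := hsym 2 4
  rw [e_2_4, e_4_2] at S_2_4
  have S_3_4 := hsym 3 4
  rw [e_3_4, e_4_3] at S_3_4
  exfalso
  omega

theorem nd_146 (T : Models.NumericalType 6)
    (hG : NTGood T)
    (hmax : ∀ j, T.m j ≤ T.m 0)
    (e_0_1 : T.picMatrix 0 1 = 1)
    (e_0_2 : T.picMatrix 0 2 = 1)
    (e_0_3 : T.picMatrix 0 3 = 1)
    (e_0_4 : T.picMatrix 0 4 = 0)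
    (e_0_5 : T.picMatrix 0 5 = 0)
    (e_1_0 : T.picMatrix 1 0 = 1)
    (e_1_2 : T.picMatrix 1 2 = 0)
    (e_1_3 : T.picMatrix 1 3 = 0)
    (e_1_4 : T.picMatrix 1 4 = 0)
    (e_1_5 : T.picMatrix 1 5 = 0)
    (e_2_0 : T.picMatrix 2 0 = 1)
    (e_2_1 : T.picMatrix 2 1 = 0)
    (e_2_3 : T.picMatrix 2 3 = 0)
    (e_2_4 : T.picMatrix 2 4 = 1)
    (e_2_5 : T.picMatrix 2 5 = 0)
    (e_3_0 : T.picMatrix 3 0 = 1)
    (e_3_1 : T.picMatrix 3 1 = 0)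
    (e_3_2 : T.picMatrix 3 2 = 0)
    (e_3_4 : T.picMatrix 3 4 = 0)
    (e_3_5 : T.picMatrix 3 5 = 0)
    (e_4_0 : T.picMatrix 4 0 = 0)
    (e_4_1 : T.picMatrix 4 1 = 0)
    (e_4_2 : T.picMatrix 4 2 = 1)
    (e_4_3 : T.picMatrix 4 3 = 0)
    (e_4_5 : T.picMatrix 4 5 = 1)
    (e_5_0 : T.picMatrix 5 0 = 0)
    (e_5_1 : T.picMatrix 5 1 = 0)
    (e_5_2 : T.picMatrix 5 2 = 0)
    (e_5_3 : T.picMatrix 5 3 = 0)
    (e_5_4 : T.picMatrix 5 4 = 2)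
    (cl : ∀ a b : Fin 6, a.val < 4 → 6 ≤ b.val → T.picMatrix a b = 0) :
    Goal T := by
  obtain ⟨hg0, hdA, hdP, hnn, hrow, hsym, hpair⟩ := ntgood_data T (by norm_num) hG
  have hm_0 := T.m_pos 0
  have hw_0 := T.w_pos 0
  have hm_1 := T.m_pos 1
  have hw_1 := T.w_pos 1
  have hm_2 := T.m_pos 2
  have hw_2 := T.w_pos 2
  have hm_3 := T.m_pos 3
  have hw_3 := T.w_pos 3
  have hm_4 := T.m_pos 4
  have hw_4 := T.w_pos 4
  have hm_5 := T.m_pos 5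
  have hw_5 := T.w_pos 5
  have hx_1 := hmax 1
  have hx_2 := hmax 2
  have hx_3 := hmax 3
  have hx_4 := hmax 4
  have hx_5 := hmax 5
  have R_0 := hrow 0
  rw [Fin.sum_univ_six, hdP 0, e_0_1, e_0_2, e_0_3, e_0_4, e_0_5] at R_0
  have R_1 := hrow 1
  rw [Fin.sum_univ_six, hdP 1, e_1_0, e_1_2, e_1_3, e_1_4, e_1_5] at R_1
  have R_2 := hrow 2
  rw [Fin.sum_univ_six, hdP 2, e_2_0, e_2_1, e_2_3, e_2_4, e_2_5] at R_2
  have R_3 := hrow 3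
  rw [Fin.sum_univ_six, hdP 3, e_3_0, e_3_1, e_3_2, e_3_4, e_3_5] at R_3
  have R_4 := hrow 4
  rw [Fin.sum_univ_six, hdP 4, e_4_0, e_4_1, e_4_2, e_4_3, e_4_5] at R_4
  have R_5 := hrow 5
  rw [Fin.sum_univ_six, hdP 5, e_5_0, e_5_1, e_5_2, e_5_3, e_5_4] at R_5
  have S_0_1 := hsym 0 1
  rw [e_0_1, e_1_0] at S_0_1
  have S_0_2 := hsym 0 2
  rw [e_0_2, e_2_0] at S_0_2
  have S_0_3 := hsym 0 3
  rw [e_0_3, e_3_0] at S_0_3
  have S_0_4 := hsym 0 4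
  rw [e_0_4, e_4_0] at S_0_4
  have S_0_5 := hsym 0 5
  rw [e_0_5, e_5_0] at S_0_5
  have S_1_2 := hsym 1 2
  rw [e_1_2, e_2_1] at S_1_2
  have S_1_3 := hsym 1 3
  rw [e_1_3, e_3_1] at S_1_3
  have S_1_4 := hsym 1 4
  rw [e_1_4, e_4_1] at S_1_4
  have S_1_5 := hsym 1 5
  rw [e_1_5, e_5_1] at S_1_5
  have S_2_3 := hsym 2 3
  rw [e_2_3, e_3_2] at S_2_3
  have S_2_4 := hsym 2 4
  rw [e_2_4, e_4_2] at S_2_4
  have S_2_5 := hsym 2 5
  rw [e_2_5, e_5_2] at S_2_5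
  have S_3_4 := hsym 3 4
  rw [e_3_4, e_4_3] at S_3_4
  have S_3_5 := hsym 3 5
  rw [e_3_5, e_5_3] at S_3_5
  have S_4_5 := hsym 4 5
  rw [e_4_5, e_5_4] at S_4_5
  have D_0 := hdA 0
  have A_0_1 := nt_a_eq T 0 1
  rw [e_0_1] at A_0_1
  have A_0_2 := nt_a_eq T 0 2
  rw [e_0_2] at A_0_2
  have A_0_3 := nt_a_eq T 0 3
  rw [e_0_3] at A_0_3
  have A_0_4 := nt_a_eq T 0 4
  rw [e_0_4] at A_0_4
  have A_0_5 := nt_a_eq T 0 5
  rw [e_0_5] at A_0_5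
  have D_1 := hdA 1
  have A_1_0 := nt_a_eq T 1 0
  rw [e_1_0] at A_1_0
  have A_1_2 := nt_a_eq T 1 2
  rw [e_1_2] at A_1_2
  have A_1_3 := nt_a_eq T 1 3
  rw [e_1_3] at A_1_3
  have A_1_4 := nt_a_eq T 1 4
  rw [e_1_4] at A_1_4
  have A_1_5 := nt_a_eq T 1 5
  rw [e_1_5] at A_1_5
  have D_2 := hdA 2
  have A_2_0 := nt_a_eq T 2 0
  rw [e_2_0] at A_2_0
  have A_2_1 := nt_a_eq T 2 1
  rw [e_2_1] at A_2_1
  have A_2_3 := nt_a_eq T 2 3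
  rw [e_2_3] at A_2_3
  have A_2_4 := nt_a_eq T 2 4
  rw [e_2_4] at A_2_4
  have A_2_5 := nt_a_eq T 2 5
  rw [e_2_5] at A_2_5
  have D_3 := hdA 3
  have A_3_0 := nt_a_eq T 3 0
  rw [e_3_0] at A_3_0
  have A_3_1 := nt_a_eq T 3 1
  rw [e_3_1] at A_3_1
  have A_3_2 := nt_a_eq T 3 2
  rw [e_3_2] at A_3_2
  have A_3_4 := nt_a_eq T 3 4
  rw [e_3_4] at A_3_4
  have A_3_5 := nt_a_eq T 3 5
  rw [e_3_5] at A_3_5
  have D_4 := hdA 4
  have A_4_0 := nt_a_eq T 4 0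
  rw [e_4_0] at A_4_0
  have A_4_1 := nt_a_eq T 4 1
  rw [e_4_1] at A_4_1
  have A_4_2 := nt_a_eq T 4 2
  rw [e_4_2] at A_4_2
  have A_4_3 := nt_a_eq T 4 3
  rw [e_4_3] at A_4_3
  have A_4_5 := nt_a_eq T 4 5
  rw [e_4_5] at A_4_5
  have D_5 := hdA 5
  have A_5_0 := nt_a_eq T 5 0
  rw [e_5_0] at A_5_0
  have A_5_1 := nt_a_eq T 5 1
  rw [e_5_1] at A_5_1
  have A_5_2 := nt_a_eq T 5 2
  rw [e_5_2] at A_5_2
  have A_5_3 := nt_a_eq T 5 3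
  rw [e_5_3] at A_5_3
  have A_5_4 := nt_a_eq T 5 4
  rw [e_5_4] at A_5_4
  refine goal_of_indices T hg0 5 4 2 0 1 3 (by decide) (T.m 1) (T.w 5) ?_
  unfold Goali
  exact Or.inr (Or.inr (Or.inr (Or.inr (Or.inr (Or.inl ⟨(by have h : (2 : ℤ) * (T.m 5 - (2 * T.m 1)) = 0 := (by linear_combination (6) * R_0 + (5) * R_1 + (4) * R_2 + (3) * R_3 + (2) * R_4); exact eq_of_sub_eq_zero ((mul_eq_zero.mp h).resolve_left (by norm_num))),
      (by linear_combination (2) * R_0 + (2) * R_1 + (1) * R_2 + (1) * R_3),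
      (by have h : (2 : ℤ) * (T.m 2 - (2 * T.m 1)) = 0 := (by linear_combination (2) * R_0 + (3) * R_1 + (1) * R_3); exact eq_of_sub_eq_zero ((mul_eq_zero.mp h).resolve_left (by norm_num))),
      (by linear_combination (1) * R_1),
      rfl,
      (by have h : (2 : ℤ) * (T.m 3 - (T.m 1)) = 0 := (by linear_combination (1) * R_1 + (-1) * R_3); exact eq_of_sub_eq_zero ((mul_eq_zero.mp h).resolve_left (by norm_num))),
      rfl,
      (by linear_combination (1) * S_4_5),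
      (by linear_combination (1) * S_2_4 + (1) * S_4_5),
      (by linear_combination (1) * S_0_2 + (1) * S_2_4 + (1) * S_4_5),
      (by linear_combination (-1) * S_0_1 + (1) * S_0_2 + (1) * S_2_4 + (1) * S_4_5),
      (by linear_combination (1) * S_0_2 + (-1) * S_0_3 + (1) * S_2_4 + (1) * S_4_5),
      (by linear_combination (1) * D_5),
      (by linear_combination (1) * A_5_4),
      (by linear_combination (1) * A_5_2),
      (by linear_combination (1) * A_5_0),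
      (by linear_combination (1) * A_5_1),
      (by linear_combination (1) * A_5_3),
      (by linear_combination (-2) * S_4_5 + (1) * D_4),
      (by linear_combination (1) * S_4_5 + (1) * A_4_2),
      (by linear_combination (1) * A_4_0),
      (by linear_combination (1) * A_4_1),
      (by linear_combination (1) * A_4_3),
      (by linear_combination (-2) * S_2_4 + (-2) * S_4_5 + (1) * D_2),
      (by linear_combination (1) * S_2_4 + (1) * S_4_5 + (1) * A_2_0),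
      (by linear_combination (1) * A_2_1),
      (by linear_combination (1) * A_2_3),
      (by linear_combination (-2) * S_0_2 + (-2) * S_2_4 + (-2) * S_4_5 + (1) * D_0),
      (by linear_combination (1) * S_0_2 + (1) * S_2_4 + (1) * S_4_5 + (1) * A_0_1),
      (by linear_combination (1) * S_0_2 + (1) * S_2_4 + (1) * S_4_5 + (1) * A_0_3),
      (by linear_combination (2) * S_0_1 + (-2) * S_0_2 + (-2) * S_2_4 + (-2) * S_4_5 + (1) * D_1),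
      (by linear_combination (1) * A_1_3),
      (by linear_combination (-2) * S_0_2 + (2) * S_0_3 + (-2) * S_2_4 + (-2) * S_4_5 + (1) * D_3)⟩)))))

theorem nd_147 (T : Models.NumericalType 6)
    (hG : NTGood T)
    (hmax : ∀ j, T.m j ≤ T.m 0)
    (e_0_1 : T.picMatrix 0 1 = 1)
    (e_0_2 : T.picMatrix 0 2 = 1)
    (e_0_3 : T.picMatrix 0 3 = 1)
    (e_0_4 : T.picMatrix 0 4 = 0)
    (e_0_5 : T.picMatrix 0 5 = 0)
    (e_1_0 : T.picMatrix 1 0 = 1)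
    (e_1_2 : T.picMatrix 1 2 = 0)
    (e_1_3 : T.picMatrix 1 3 = 0)
    (e_1_4 : T.picMatrix 1 4 = 0)
    (e_1_5 : T.picMatrix 1 5 = 0)
    (e_2_0 : T.picMatrix 2 0 = 1)
    (e_2_1 : T.picMatrix 2 1 = 0)
    (e_2_3 : T.picMatrix 2 3 = 0)
    (e_2_4 : T.picMatrix 2 4 = 1)
    (e_2_5 : T.picMatrix 2 5 = 0)
    (e_3_0 : T.picMatrix 3 0 = 1)
    (e_3_1 : T.picMatrix 3 1 = 0)
    (e_3_2 : T.picMatrix 3 2 = 0)
    (e_3_4 : T.picMatrix 3 4 = 0)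
    (e_3_5 : T.picMatrix 3 5 = 0)
    (e_4_0 : T.picMatrix 4 0 = 0)
    (e_4_1 : T.picMatrix 4 1 = 0)
    (e_4_2 : T.picMatrix 4 2 = 1)
    (e_4_3 : T.picMatrix 4 3 = 0)
    (e_4_5 : T.picMatrix 4 5 = 2)
    (e_5_0 : T.picMatrix 5 0 = 0)
    (e_5_1 : T.picMatrix 5 1 = 0)
    (e_5_2 : T.picMatrix 5 2 = 0)
    (e_5_3 : T.picMatrix 5 3 = 0)
    (e_5_4 : T.picMatrix 5 4 = 1)
    (cl : ∀ a b : Fin 6, a.val < 4 → 6 ≤ b.val → T.picMatrix a b = 0) :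
    Goal T := by
  obtain ⟨hg0, hdA, hdP, hnn, hrow, hsym, hpair⟩ := ntgood_data T (by norm_num) hG
  have hm_0 := T.m_pos 0
  have hw_0 := T.w_pos 0
  have hm_1 := T.m_pos 1
  have hw_1 := T.w_pos 1
  have hm_2 := T.m_pos 2
  have hw_2 := T.w_pos 2
  have hm_3 := T.m_pos 3
  have hw_3 := T.w_pos 3
  have hm_4 := T.m_pos 4
  have hw_4 := T.w_pos 4
  have hm_5 := T.m_pos 5
  have hw_5 := T.w_pos 5
  have hx_1 := hmax 1
  have hx_2 := hmax 2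
  have hx_3 := hmax 3
  have hx_4 := hmax 4
  have hx_5 := hmax 5
  have R_0 := hrow 0
  rw [Fin.sum_univ_six, hdP 0, e_0_1, e_0_2, e_0_3, e_0_4, e_0_5] at R_0
  have R_1 := hrow 1
  rw [Fin.sum_univ_six, hdP 1, e_1_0, e_1_2, e_1_3, e_1_4, e_1_5] at R_1
  have R_2 := hrow 2
  rw [Fin.sum_univ_six, hdP 2, e_2_0, e_2_1, e_2_3, e_2_4, e_2_5] at R_2
  have R_3 := hrow 3
  rw [Fin.sum_univ_six, hdP 3, e_3_0, e_3_1, e_3_2, e_3_4, e_3_5] at R_3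
  have R_4 := hrow 4
  rw [Fin.sum_univ_six, hdP 4, e_4_0, e_4_1, e_4_2, e_4_3, e_4_5] at R_4
  have R_5 := hrow 5
  rw [Fin.sum_univ_six, hdP 5, e_5_0, e_5_1, e_5_2, e_5_3, e_5_4] at R_5
  have S_0_1 := hsym 0 1
  rw [e_0_1, e_1_0] at S_0_1
  have S_0_2 := hsym 0 2
  rw [e_0_2, e_2_0] at S_0_2
  have S_0_3 := hsym 0 3
  rw [e_0_3, e_3_0] at S_0_3
  have S_0_4 := hsym 0 4
  rw [e_0_4, e_4_0] at S_0_4
  have S_0_5 := hsym 0 5
  rw [e_0_5, e_5_0] at S_0_5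
  have S_1_2 := hsym 1 2
  rw [e_1_2, e_2_1] at S_1_2
  have S_1_3 := hsym 1 3
  rw [e_1_3, e_3_1] at S_1_3
  have S_1_4 := hsym 1 4
  rw [e_1_4, e_4_1] at S_1_4
  have S_1_5 := hsym 1 5
  rw [e_1_5, e_5_1] at S_1_5
  have S_2_3 := hsym 2 3
  rw [e_2_3, e_3_2] at S_2_3
  have S_2_4 := hsym 2 4
  rw [e_2_4, e_4_2] at S_2_4
  have S_2_5 := hsym 2 5
  rw [e_2_5, e_5_2] at S_2_5
  have S_3_4 := hsym 3 4
  rw [e_3_4, e_4_3] at S_3_4
  have S_3_5 := hsym 3 5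
  rw [e_3_5, e_5_3] at S_3_5
  have S_4_5 := hsym 4 5
  rw [e_4_5, e_5_4] at S_4_5
  have D_0 := hdA 0
  have A_0_1 := nt_a_eq T 0 1
  rw [e_0_1] at A_0_1
  have A_0_2 := nt_a_eq T 0 2
  rw [e_0_2] at A_0_2
  have A_0_3 := nt_a_eq T 0 3
  rw [e_0_3] at A_0_3
  have A_0_4 := nt_a_eq T 0 4
  rw [e_0_4] at A_0_4
  have A_0_5 := nt_a_eq T 0 5
  rw [e_0_5] at A_0_5
  have D_1 := hdA 1
  have A_1_0 := nt_a_eq T 1 0
  rw [e_1_0] at A_1_0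
  have A_1_2 := nt_a_eq T 1 2
  rw [e_1_2] at A_1_2
  have A_1_3 := nt_a_eq T 1 3
  rw [e_1_3] at A_1_3
  have A_1_4 := nt_a_eq T 1 4
  rw [e_1_4] at A_1_4
  have A_1_5 := nt_a_eq T 1 5
  rw [e_1_5] at A_1_5
  have D_2 := hdA 2
  have A_2_0 := nt_a_eq T 2 0
  rw [e_2_0] at A_2_0
  have A_2_1 := nt_a_eq T 2 1
  rw [e_2_1] at A_2_1
  have A_2_3 := nt_a_eq T 2 3
  rw [e_2_3] at A_2_3
  have A_2_4 := nt_a_eq T 2 4
  rw [e_2_4] at A_2_4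
  have A_2_5 := nt_a_eq T 2 5
  rw [e_2_5] at A_2_5
  have D_3 := hdA 3
  have A_3_0 := nt_a_eq T 3 0
  rw [e_3_0] at A_3_0
  have A_3_1 := nt_a_eq T 3 1
  rw [e_3_1] at A_3_1
  have A_3_2 := nt_a_eq T 3 2
  rw [e_3_2] at A_3_2
  have A_3_4 := nt_a_eq T 3 4
  rw [e_3_4] at A_3_4
  have A_3_5 := nt_a_eq T 3 5
  rw [e_3_5] at A_3_5
  have D_4 := hdA 4
  have A_4_0 := nt_a_eq T 4 0
  rw [e_4_0] at A_4_0
  have A_4_1 := nt_a_eq T 4 1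
  rw [e_4_1] at A_4_1
  have A_4_2 := nt_a_eq T 4 2
  rw [e_4_2] at A_4_2
  have A_4_3 := nt_a_eq T 4 3
  rw [e_4_3] at A_4_3
  have A_4_5 := nt_a_eq T 4 5
  rw [e_4_5] at A_4_5
  have D_5 := hdA 5
  have A_5_0 := nt_a_eq T 5 0
  rw [e_5_0] at A_5_0
  have A_5_1 := nt_a_eq T 5 1
  rw [e_5_1] at A_5_1
  have A_5_2 := nt_a_eq T 5 2
  rw [e_5_2] at A_5_2
  have A_5_3 := nt_a_eq T 5 3
  rw [e_5_3] at A_5_3
  have A_5_4 := nt_a_eq T 5 4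
  rw [e_5_4] at A_5_4
  refine goal_of_indices T hg0 5 4 2 0 1 3 (by decide) (T.m 5) (T.w 4) ?_
  unfold Goali
  exact Or.inr (Or.inr (Or.inr (Or.inr (Or.inl ⟨rfl,
      (by have h : (2 : ℤ) * (T.m 4 - (2 * T.m 5)) = 0 := (by linear_combination (-2) * R_0 + (-1) * R_1 + (-2) * R_2 + (-1) * R_3 + (-2) * R_4); exact eq_of_sub_eq_zero ((mul_eq_zero.mp h).resolve_left (by norm_num))),
      (by linear_combination (-2) * R_0 + (-1) * R_1 + (-2) * R_2 + (-1) * R_3 + (-1) * R_4),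
      (by have h : (2 : ℤ) * (T.m 0 - (2 * T.m 5)) = 0 := (by linear_combination (-6) * R_0 + (-3) * R_1 + (-4) * R_2 + (-3) * R_3 + (-2) * R_4); exact eq_of_sub_eq_zero ((mul_eq_zero.mp h).resolve_left (by norm_num))),
      (by have h : (4 : ℤ) * (T.m 1 - (T.m 5)) = 0 := (by linear_combination (-6) * R_0 + (-5) * R_1 + (-4) * R_2 + (-3) * R_3 + (-2) * R_4); exact eq_of_sub_eq_zero ((mul_eq_zero.mp h).resolve_left (by norm_num))),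
      (by have h : (4 : ℤ) * (T.m 3 - (T.m 5)) = 0 := (by linear_combination (-6) * R_0 + (-3) * R_1 + (-4) * R_2 + (-5) * R_3 + (-2) * R_4); exact eq_of_sub_eq_zero ((mul_eq_zero.mp h).resolve_left (by norm_num))),
      (by linear_combination (-1) * S_4_5),
      rfl,
      (by linear_combination (1) * S_2_4),
      (by linear_combination (1) * S_0_2 + (1) * S_2_4),
      (by linear_combination (-1) * S_0_1 + (1) * S_0_2 + (1) * S_2_4),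
      (by linear_combination (1) * S_0_2 + (-1) * S_0_3 + (1) * S_2_4),
      (by linear_combination (2) * S_4_5 + (1) * D_5),
      (by linear_combination (-1) * S_4_5 + (1) * A_5_4),
      (by linear_combination (1) * A_5_2),
      (by linear_combination (1) * A_5_0),
      (by linear_combination (1) * A_5_1),
      (by linear_combination (1) * A_5_3),
      (by linear_combination (1) * D_4),
      (by linear_combination (1) * A_4_2),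
      (by linear_combination (1) * A_4_0),
      (by linear_combination (1) * A_4_1),
      (by linear_combination (1) * A_4_3),
      (by linear_combination (-2) * S_2_4 + (1) * D_2),
      (by linear_combination (1) * S_2_4 + (1) * A_2_0),
      (by linear_combination (1) * A_2_1),
      (by linear_combination (1) * A_2_3),
      (by linear_combination (-2) * S_0_2 + (-2) * S_2_4 + (1) * D_0),
      (by linear_combination (1) * S_0_2 + (1) * S_2_4 + (1) * A_0_1),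
      (by linear_combination (1) * S_0_2 + (1) * S_2_4 + (1) * A_0_3),
      (by linear_combination (2) * S_0_1 + (-2) * S_0_2 + (-2) * S_2_4 + (1) * D_1),
      (by linear_combination (1) * A_1_3),
      (by linear_combination (-2) * S_0_2 + (2) * S_0_3 + (-2) * S_2_4 + (1) * D_3)⟩))))

theorem ex_145 (T : Models.NumericalType 6)
    (hG : NTGood T)
    (hmax : ∀ j, T.m j ≤ T.m 0)
    (e_0_1 : T.picMatrix 0 1 = 1)
    (e_0_2 : T.picMatrix 0 2 = 1)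
    (e_0_3 : T.picMatrix 0 3 = 1)
    (e_0_4 : T.picMatrix 0 4 = 0)
    (e_1_0 : T.picMatrix 1 0 = 1)
    (e_1_2 : T.picMatrix 1 2 = 0)
    (e_1_3 : T.picMatrix 1 3 = 0)
    (e_1_4 : T.picMatrix 1 4 = 0)
    (e_2_0 : T.picMatrix 2 0 = 1)
    (e_2_1 : T.picMatrix 2 1 = 0)
    (e_2_3 : T.picMatrix 2 3 = 0)
    (e_2_4 : T.picMatrix 2 4 = 1)
    (e_3_0 : T.picMatrix 3 0 = 1)
    (e_3_1 : T.picMatrix 3 1 = 0)
    (e_3_2 : T.picMatrix 3 2 = 0)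
    (e_3_4 : T.picMatrix 3 4 = 0)
    (e_4_0 : T.picMatrix 4 0 = 0)
    (e_4_1 : T.picMatrix 4 1 = 0)
    (e_4_2 : T.picMatrix 4 2 = 1)
    (e_4_3 : T.picMatrix 4 3 = 0)
    (cl : ∀ a b : Fin 6, a.val < 4 → 6 ≤ b.val → T.picMatrix a b = 0)
    (z : ∀ a : Fin 6, a.val < 4 → T.picMatrix a 5 = 0)
    (hne : T.picMatrix 4 5 ≠ 0) :
    Goal T := by
  have e_0_5 : T.picMatrix 0 5 = 0 := z 0 (by decide)
  have e_5_0 : T.picMatrix 5 0 = 0 := nt_pic_zero_symm T 0 5 e_0_5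
  have e_1_5 : T.picMatrix 1 5 = 0 := z 1 (by decide)
  have e_5_1 : T.picMatrix 5 1 = 0 := nt_pic_zero_symm T 1 5 e_1_5
  have e_2_5 : T.picMatrix 2 5 = 0 := z 2 (by decide)
  have e_5_2 : T.picMatrix 5 2 = 0 := nt_pic_zero_symm T 2 5 e_2_5
  have e_3_5 : T.picMatrix 3 5 = 0 := z 3 (by decide)
  have e_5_3 : T.picMatrix 5 3 = 0 := nt_pic_zero_symm T 3 5 e_3_5
  obtain ⟨hg0, hdA, hdP, hnn, hrow, hsym, hpair⟩ := ntgood_data T (by norm_num) hG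
  have hm_0 := T.m_pos 0
  have hw_0 := T.w_pos 0
  have hm_1 := T.m_pos 1
  have hw_1 := T.w_pos 1
  have hm_2 := T.m_pos 2
  have hw_2 := T.w_pos 2
  have hm_3 := T.m_pos 3
  have hw_3 := T.w_pos 3
  have hm_4 := T.m_pos 4
  have hw_4 := T.w_pos 4
  have hm_5 := T.m_pos 5
  have hw_5 := T.w_pos 5
  have hx_1 := hmax 1
  have hx_2 := hmax 2
  have hx_3 := hmax 3
  have hx_4 := hmax 4
  have hx_5 := hmax 5
  have N_4_5 := mul_nonneg (hnn 4 5 (by decide)) (T.m_pos 5).le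
  have N_5_4 := mul_nonneg (hnn 5 4 (by decide)) (T.m_pos 4).le
  have R_0 := hrow 0
  rw [Fin.sum_univ_six, hdP 0, e_0_1, e_0_2, e_0_3, e_0_4, e_0_5] at R_0
  have R_1 := hrow 1
  rw [Fin.sum_univ_six, hdP 1, e_1_0, e_1_2, e_1_3, e_1_4, e_1_5] at R_1
  have R_2 := hrow 2
  rw [Fin.sum_univ_six, hdP 2, e_2_0, e_2_1, e_2_3, e_2_4, e_2_5] at R_2
  have R_3 := hrow 3
  rw [Fin.sum_univ_six, hdP 3, e_3_0, e_3_1, e_3_2, e_3_4, e_3_5] at R_3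
  have R_4 := hrow 4
  rw [Fin.sum_univ_six, hdP 4, e_4_0, e_4_1, e_4_2, e_4_3] at R_4
  have R_5 := hrow 5
  rw [Fin.sum_univ_six, hdP 5, e_5_0, e_5_1, e_5_2, e_5_3] at R_5
  have S_0_1 := hsym 0 1
  rw [e_0_1, e_1_0] at S_0_1
  have S_0_2 := hsym 0 2
  rw [e_0_2, e_2_0] at S_0_2
  have S_0_3 := hsym 0 3
  rw [e_0_3, e_3_0] at S_0_3
  have S_0_4 := hsym 0 4
  rw [e_0_4, e_4_0] at S_0_4
  have S_0_5 := hsym 0 5
  rw [e_0_5, e_5_0] at S_0_5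
  have S_1_2 := hsym 1 2
  rw [e_1_2, e_2_1] at S_1_2
  have S_1_3 := hsym 1 3
  rw [e_1_3, e_3_1] at S_1_3
  have S_1_4 := hsym 1 4
  rw [e_1_4, e_4_1] at S_1_4
  have S_1_5 := hsym 1 5
  rw [e_1_5, e_5_1] at S_1_5
  have S_2_3 := hsym 2 3
  rw [e_2_3, e_3_2] at S_2_3
  have S_2_4 := hsym 2 4
  rw [e_2_4, e_4_2] at S_2_4
  have S_2_5 := hsym 2 5
  rw [e_2_5, e_5_2] at S_2_5
  have S_3_4 := hsym 3 4
  rw [e_3_4, e_4_3] at S_3_4
  have S_3_5 := hsym 3 5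
  rw [e_3_5, e_5_3] at S_3_5
  have S_4_5 := hsym 4 5
  have Q_4 := hpair 4 5 (by decide)
  generalize e_4_5 : T.picMatrix 4 5 = x_4 at *
  generalize e_5_4 : T.picMatrix 5 4 = y_4 at *
  rcases Q_4 with ⟨rfl, rfl⟩ | ⟨rfl, rfl⟩ | ⟨rfl, rfl⟩ | ⟨rfl, rfl⟩ | ⟨rfl, rfl⟩ | ⟨rfl, rfl⟩ | ⟨rfl, rfl⟩ | ⟨rfl, rfl⟩ | ⟨rfl, rfl⟩
  · exact absurd rfl hne
  · -- (4,5) = (1,1)
    omega
  · -- (4,5) = (1,2)
    exact nd_146 T hG hmax e_0_1 e_0_2 e_0_3 e_0_4 e_0_5 e_1_0 e_1_2 e_1_3 e_1_4 e_1_5 e_2_0 e_2_1 e_2_3 e_2_4 e_2_5 e_3_0 e_3_1 e_3_2 e_3_4 e_3_5 e_4_0 e_4_1 e_4_2 e_4_3 e_4_5 e_5_0 e_5_1 e_5_2 e_5_3 e_5_4 cl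
  · -- (4,5) = (2,1)
    exact nd_147 T hG hmax e_0_1 e_0_2 e_0_3 e_0_4 e_0_5 e_1_0 e_1_2 e_1_3 e_1_4 e_1_5 e_2_0 e_2_1 e_2_3 e_2_4 e_2_5 e_3_0 e_3_1 e_3_2 e_3_4 e_3_5 e_4_0 e_4_1 e_4_2 e_4_3 e_4_5 e_5_0 e_5_1 e_5_2 e_5_3 e_5_4 cl
  · -- (4,5) = (1,3)
    omega
  · -- (4,5) = (3,1)
    omega
  · -- (4,5) = (1,4)
    omega
  · -- (4,5) = (4,1)
    omega
  · -- (4,5) = (2,2)
    omega

theorem nd_143 (T : Models.NumericalType 6)
    (hG : NTGood T)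
    (hmax : ∀ j, T.m j ≤ T.m 0)
    (e_0_1 : T.picMatrix 0 1 = 1)
    (e_0_2 : T.picMatrix 0 2 = 1)
    (e_0_3 : T.picMatrix 0 3 = 1)
    (e_0_4 : T.picMatrix 0 4 = 0)
    (e_1_0 : T.picMatrix 1 0 = 1)
    (e_1_2 : T.picMatrix 1 2 = 0)
    (e_1_3 : T.picMatrix 1 3 = 0)
    (e_1_4 : T.picMatrix 1 4 = 0)
    (e_2_0 : T.picMatrix 2 0 = 1)
    (e_2_1 : T.picMatrix 2 1 = 0)
    (e_2_3 : T.picMatrix 2 3 = 0)
    (e_2_4 : T.picMatrix 2 4 = 1)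
    (e_3_0 : T.picMatrix 3 0 = 1)
    (e_3_1 : T.picMatrix 3 1 = 0)
    (e_3_2 : T.picMatrix 3 2 = 0)
    (e_3_4 : T.picMatrix 3 4 = 0)
    (e_4_0 : T.picMatrix 4 0 = 0)
    (e_4_1 : T.picMatrix 4 1 = 0)
    (e_4_2 : T.picMatrix 4 2 = 1)
    (e_4_3 : T.picMatrix 4 3 = 0)
    (cl : ∀ a b : Fin 6, a.val < 4 → 5 ≤ b.val → T.picMatrix a b = 0) :
    Goal T := by
  by_cases hc : ∀ b : Fin 6, 5 ≤ b.val → T.picMatrix 4 b = 0
  · exact nd_144 T hG hmax e_0_1 e_0_2 e_0_3 e_0_4 e_1_0 e_1_2 e_1_3 e_1_4 e_2_0 e_2_1 e_2_3 e_2_4 e_3_0 e_3_1 e_3_2 e_3_4 e_4_0 e_4_1 e_4_2 e_4_3 (nt_cl_succ T 5 4 4 rfl cl hc)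
  · obtain ⟨τ, hfix, cl', z, hne⟩ := nt_wlog_step T 5 (by norm_num) 4 (by norm_num) 4 (by decide) cl hc
    apply goal_relabel T τ
    refine ex_145 (ntRelabel T τ) (hG.relabel τ) ?_ ?_ ?_ ?_ ?_ ?_ ?_ ?_ ?_ ?_ ?_ ?_ ?_ ?_ ?_ ?_ ?_ ?_ ?_ ?_ ?_ cl' z hne
    · intro j
      show T.m (τ j) ≤ T.m (τ 0)
      rw [hfix 0 (by decide)]
      exact hmax _
    · show T.picMatrix (τ 0) (τ 1) = 1
      rw [hfix 0 (by decide), hfix 1 (by decide)]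
      exact e_0_1
    · show T.picMatrix (τ 0) (τ 2) = 1
      rw [hfix 0 (by decide), hfix 2 (by decide)]
      exact e_0_2
    · show T.picMatrix (τ 0) (τ 3) = 1
      rw [hfix 0 (by decide), hfix 3 (by decide)]
      exact e_0_3
    · show T.picMatrix (τ 0) (τ 4) = 0
      rw [hfix 0 (by decide), hfix 4 (by decide)]
      exact e_0_4
    · show T.picMatrix (τ 1) (τ 0) = 1
      rw [hfix 1 (by decide), hfix 0 (by decide)]
      exact e_1_0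
    · show T.picMatrix (τ 1) (τ 2) = 0
      rw [hfix 1 (by decide), hfix 2 (by decide)]
      exact e_1_2
    · show T.picMatrix (τ 1) (τ 3) = 0
      rw [hfix 1 (by decide), hfix 3 (by decide)]
      exact e_1_3
    · show T.picMatrix (τ 1) (τ 4) = 0
      rw [hfix 1 (by decide), hfix 4 (by decide)]
      exact e_1_4
    · show T.picMatrix (τ 2) (τ 0) = 1
      rw [hfix 2 (by decide), hfix 0 (by decide)]
      exact e_2_0
    · show T.picMatrix (τ 2) (τ 1) = 0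
      rw [hfix 2 (by decide), hfix 1 (by decide)]
      exact e_2_1
    · show T.picMatrix (τ 2) (τ 3) = 0
      rw [hfix 2 (by decide), hfix 3 (by decide)]
      exact e_2_3
    · show T.picMatrix (τ 2) (τ 4) = 1
      rw [hfix 2 (by decide), hfix 4 (by decide)]
      exact e_2_4
    · show T.picMatrix (τ 3) (τ 0) = 1
      rw [hfix 3 (by decide), hfix 0 (by decide)]
      exact e_3_0
    · show T.picMatrix (τ 3) (τ 1) = 0
      rw [hfix 3 (by decide), hfix 1 (by decide)]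
      exact e_3_1
    · show T.picMatrix (τ 3) (τ 2) = 0
      rw [hfix 3 (by decide), hfix 2 (by decide)]
      exact e_3_2
    · show T.picMatrix (τ 3) (τ 4) = 0
      rw [hfix 3 (by decide), hfix 4 (by decide)]
      exact e_3_4
    · show T.picMatrix (τ 4) (τ 0) = 0
      rw [hfix 4 (by decide), hfix 0 (by decide)]
      exact e_4_0
    · show T.picMatrix (τ 4) (τ 1) = 0
      rw [hfix 4 (by decide), hfix 1 (by decide)]
      exact e_4_1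
    · show T.picMatrix (τ 4) (τ 2) = 1
      rw [hfix 4 (by decide), hfix 2 (by decide)]
      exact e_4_2
    · show T.picMatrix (τ 4) (τ 3) = 0
      rw [hfix 4 (by decide), hfix 3 (by decide)]
      exact e_4_3

theorem ex_148 (T : Models.NumericalType 6)
    (hG : NTGood T)
    (hmax : ∀ j, T.m j ≤ T.m 0)
    (e_0_1 : T.picMatrix 0 1 = 1)
    (e_0_2 : T.picMatrix 0 2 = 1)
    (e_0_3 : T.picMatrix 0 3 = 1)
    (e_0_4 : T.picMatrix 0 4 = 0)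
    (e_1_0 : T.picMatrix 1 0 = 1)
    (e_1_2 : T.picMatrix 1 2 = 0)
    (e_1_3 : T.picMatrix 1 3 = 0)
    (e_1_4 : T.picMatrix 1 4 = 0)
    (e_2_0 : T.picMatrix 2 0 = 1)
    (e_2_1 : T.picMatrix 2 1 = 0)
    (e_2_3 : T.picMatrix 2 3 = 0)
    (e_2_4 : T.picMatrix 2 4 = 1)
    (e_3_0 : T.picMatrix 3 0 = 1)
    (e_3_1 : T.picMatrix 3 1 = 0)
    (e_3_2 : T.picMatrix 3 2 = 0)
    (e_3_4 : T.picMatrix 3 4 = 0)
    (e_4_0 : T.picMatrix 4 0 = 0)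
    (e_4_1 : T.picMatrix 4 1 = 0)
    (e_4_2 : T.picMatrix 4 2 = 1)
    (e_4_3 : T.picMatrix 4 3 = 0)
    (cl : ∀ a b : Fin 6, a.val < 3 → 6 ≤ b.val → T.picMatrix a b = 0)
    (z : ∀ a : Fin 6, a.val < 3 → T.picMatrix a 5 = 0)
    (hne : T.picMatrix 3 5 ≠ 0) :
    Goal T := by
  have e_0_5 : T.picMatrix 0 5 = 0 := z 0 (by decide)
  have e_5_0 : T.picMatrix 5 0 = 0 := nt_pic_zero_symm T 0 5 e_0_5
  have e_1_5 : T.picMatrix 1 5 = 0 := z 1 (by decide)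
  have e_5_1 : T.picMatrix 5 1 = 0 := nt_pic_zero_symm T 1 5 e_1_5
  have e_2_5 : T.picMatrix 2 5 = 0 := z 2 (by decide)
  have e_5_2 : T.picMatrix 5 2 = 0 := nt_pic_zero_symm T 2 5 e_2_5
  obtain ⟨hg0, hdA, hdP, hnn, hrow, hsym, hpair⟩ := ntgood_data T (by norm_num) hG
  have hm_0 := T.m_pos 0
  have hw_0 := T.w_pos 0
  have hm_1 := T.m_pos 1
  have hw_1 := T.w_pos 1
  have hm_2 := T.m_pos 2
  have hw_2 := T.w_pos 2
  have hm_3 := T.m_pos 3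
  have hw_3 := T.w_pos 3
  have hm_4 := T.m_pos 4
  have hw_4 := T.w_pos 4
  have hm_5 := T.m_pos 5
  have hw_5 := T.w_pos 5
  have hx_1 := hmax 1
  have hx_2 := hmax 2
  have hx_3 := hmax 3
  have hx_4 := hmax 4
  have hx_5 := hmax 5
  have N_3_5 := mul_nonneg (hnn 3 5 (by decide)) (T.m_pos 5).le
  have N_5_3 := mul_nonneg (hnn 5 3 (by decide)) (T.m_pos 3).le
  have N_4_5 := mul_nonneg (hnn 4 5 (by decide)) (T.m_pos 5).le
  have N_5_4 := mul_nonneg (hnn 5 4 (by decide)) (T.m_pos 4).le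
  have R_0 := hrow 0
  rw [Fin.sum_univ_six, hdP 0, e_0_1, e_0_2, e_0_3, e_0_4, e_0_5] at R_0
  have R_1 := hrow 1
  rw [Fin.sum_univ_six, hdP 1, e_1_0, e_1_2, e_1_3, e_1_4, e_1_5] at R_1
  have R_2 := hrow 2
  rw [Fin.sum_univ_six, hdP 2, e_2_0, e_2_1, e_2_3, e_2_4, e_2_5] at R_2
  have R_3 := hrow 3
  rw [Fin.sum_univ_six, hdP 3, e_3_0, e_3_1, e_3_2, e_3_4] at R_3
  have R_4 := hrow 4
  rw [Fin.sum_univ_six, hdP 4, e_4_0, e_4_1, e_4_2, e_4_3] at R_4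
  have R_5 := hrow 5
  rw [Fin.sum_univ_six, hdP 5, e_5_0, e_5_1, e_5_2] at R_5
  have S_0_1 := hsym 0 1
  rw [e_0_1, e_1_0] at S_0_1
  have S_0_2 := hsym 0 2
  rw [e_0_2, e_2_0] at S_0_2
  have S_0_3 := hsym 0 3
  rw [e_0_3, e_3_0] at S_0_3
  have S_0_4 := hsym 0 4
  rw [e_0_4, e_4_0] at S_0_4
  have S_0_5 := hsym 0 5
  rw [e_0_5, e_5_0] at S_0_5
  have S_1_2 := hsym 1 2
  rw [e_1_2, e_2_1] at S_1_2
  have S_1_3 := hsym 1 3
  rw [e_1_3, e_3_1] at S_1_3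
  have S_1_4 := hsym 1 4
  rw [e_1_4, e_4_1] at S_1_4
  have S_1_5 := hsym 1 5
  rw [e_1_5, e_5_1] at S_1_5
  have S_2_3 := hsym 2 3
  rw [e_2_3, e_3_2] at S_2_3
  have S_2_4 := hsym 2 4
  rw [e_2_4, e_4_2] at S_2_4
  have S_2_5 := hsym 2 5
  rw [e_2_5, e_5_2] at S_2_5
  have S_3_4 := hsym 3 4
  rw [e_3_4, e_4_3] at S_3_4
  have S_3_5 := hsym 3 5
  have S_4_5 := hsym 4 5
  have Q_3 := hpair 3 5 (by decide)
  have Q_4 := hpair 4 5 (by decide)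
  generalize e_3_5 : T.picMatrix 3 5 = x_3 at *
  generalize e_5_3 : T.picMatrix 5 3 = y_3 at *
  generalize e_4_5 : T.picMatrix 4 5 = x_4 at *
  generalize e_5_4 : T.picMatrix 5 4 = y_4 at *
  rcases Q_3 with ⟨rfl, rfl⟩ | ⟨rfl, rfl⟩ | ⟨rfl, rfl⟩ | ⟨rfl, rfl⟩ | ⟨rfl, rfl⟩ | ⟨rfl, rfl⟩ | ⟨rfl, rfl⟩ | ⟨rfl, rfl⟩ | ⟨rfl, rfl⟩
  · exact absurd rfl hne
  · -- (3,5) = (1,1)
    rcases Q_4 with ⟨rfl, rfl⟩ | ⟨rfl, rfl⟩ | ⟨rfl, rfl⟩ | ⟨rfl, rfl⟩ | ⟨rfl, rfl⟩ | ⟨rfl, rfl⟩ | ⟨rfl, rfl⟩ | ⟨rfl, rfl⟩ | ⟨rfl, rfl⟩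
    · -- (4,5) = (0,0)
      omega
    · -- (4,5) = (1,1)
      omega
    · -- (4,5) = (1,2)
      omega
    · -- (4,5) = (2,1)
      omega
    · -- (4,5) = (1,3)
      omega
    · -- (4,5) = (3,1)
      omega
    · -- (4,5) = (1,4)
      omega
    · -- (4,5) = (4,1)
      omega
    · -- (4,5) = (2,2)
      omega
  · omega
  · omega
  · omega
  · omega
  · omega
  · omega
  · omega

theorem nd_142 (T : Models.NumericalType 6)
    (hG : NTGood T)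
    (hmax : ∀ j, T.m j ≤ T.m 0)
    (e_0_1 : T.picMatrix 0 1 = 1)
    (e_0_2 : T.picMatrix 0 2 = 1)
    (e_0_3 : T.picMatrix 0 3 = 1)
    (e_0_4 : T.picMatrix 0 4 = 0)
    (e_1_0 : T.picMatrix 1 0 = 1)
    (e_1_2 : T.picMatrix 1 2 = 0)
    (e_1_3 : T.picMatrix 1 3 = 0)
    (e_1_4 : T.picMatrix 1 4 = 0)
    (e_2_0 : T.picMatrix 2 0 = 1)
    (e_2_1 : T.picMatrix 2 1 = 0)
    (e_2_3 : T.picMatrix 2 3 = 0)
    (e_2_4 : T.picMatrix 2 4 = 1)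
    (e_3_0 : T.picMatrix 3 0 = 1)
    (e_3_1 : T.picMatrix 3 1 = 0)
    (e_3_2 : T.picMatrix 3 2 = 0)
    (e_3_4 : T.picMatrix 3 4 = 0)
    (e_4_0 : T.picMatrix 4 0 = 0)
    (e_4_1 : T.picMatrix 4 1 = 0)
    (e_4_2 : T.picMatrix 4 2 = 1)
    (e_4_3 : T.picMatrix 4 3 = 0)
    (cl : ∀ a b : Fin 6, a.val < 3 → 5 ≤ b.val → T.picMatrix a b = 0) :
    Goal T := by
  by_cases hc : ∀ b : Fin 6, 5 ≤ b.val → T.picMatrix 3 b = 0
  · exact nd_143 T hG hmax e_0_1 e_0_2 e_0_3 e_0_4 e_1_0 e_1_2 e_1_3 e_1_4 e_2_0 e_2_1 e_2_3 e_2_4 e_3_0 e_3_1 e_3_2 e_3_4 e_4_0 e_4_1 e_4_2 e_4_3 (nt_cl_succ T 5 3 3 rfl cl hc)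
  · obtain ⟨τ, hfix, cl', z, hne⟩ := nt_wlog_step T 5 (by norm_num) 3 (by norm_num) 3 (by decide) cl hc
    apply goal_relabel T τ
    refine ex_148 (ntRelabel T τ) (hG.relabel τ) ?_ ?_ ?_ ?_ ?_ ?_ ?_ ?_ ?_ ?_ ?_ ?_ ?_ ?_ ?_ ?_ ?_ ?_ ?_ ?_ ?_ cl' z hne
    · intro j
      show T.m (τ j) ≤ T.m (τ 0)
      rw [hfix 0 (by decide)]
      exact hmax _
    · show T.picMatrix (τ 0) (τ 1) = 1
      rw [hfix 0 (by decide), hfix 1 (by decide)]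
      exact e_0_1
    · show T.picMatrix (τ 0) (τ 2) = 1
      rw [hfix 0 (by decide), hfix 2 (by decide)]
      exact e_0_2
    · show T.picMatrix (τ 0) (τ 3) = 1
      rw [hfix 0 (by decide), hfix 3 (by decide)]
      exact e_0_3
    · show T.picMatrix (τ 0) (τ 4) = 0
      rw [hfix 0 (by decide), hfix 4 (by decide)]
      exact e_0_4
    · show T.picMatrix (τ 1) (τ 0) = 1
      rw [hfix 1 (by decide), hfix 0 (by decide)]
      exact e_1_0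
    · show T.picMatrix (τ 1) (τ 2) = 0
      rw [hfix 1 (by decide), hfix 2 (by decide)]
      exact e_1_2
    · show T.picMatrix (τ 1) (τ 3) = 0
      rw [hfix 1 (by decide), hfix 3 (by decide)]
      exact e_1_3
    · show T.picMatrix (τ 1) (τ 4) = 0
      rw [hfix 1 (by decide), hfix 4 (by decide)]
      exact e_1_4
    · show T.picMatrix (τ 2) (τ 0) = 1
      rw [hfix 2 (by decide), hfix 0 (by decide)]
      exact e_2_0
    · show T.picMatrix (τ 2) (τ 1) = 0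
      rw [hfix 2 (by decide), hfix 1 (by decide)]
      exact e_2_1
    · show T.picMatrix (τ 2) (τ 3) = 0
      rw [hfix 2 (by decide), hfix 3 (by decide)]
      exact e_2_3
    · show T.picMatrix (τ 2) (τ 4) = 1
      rw [hfix 2 (by decide), hfix 4 (by decide)]
      exact e_2_4
    · show T.picMatrix (τ 3) (τ 0) = 1
      rw [hfix 3 (by decide), hfix 0 (by decide)]
      exact e_3_0
    · show T.picMatrix (τ 3) (τ 1) = 0
      rw [hfix 3 (by decide), hfix 1 (by decide)]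
      exact e_3_1
    · show T.picMatrix (τ 3) (τ 2) = 0
      rw [hfix 3 (by decide), hfix 2 (by decide)]
      exact e_3_2
    · show T.picMatrix (τ 3) (τ 4) = 0
      rw [hfix 3 (by decide), hfix 4 (by decide)]
      exact e_3_4
    · show T.picMatrix (τ 4) (τ 0) = 0
      rw [hfix 4 (by decide), hfix 0 (by decide)]
      exact e_4_0
    · show T.picMatrix (τ 4) (τ 1) = 0
      rw [hfix 4 (by decide), hfix 1 (by decide)]
      exact e_4_1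
    · show T.picMatrix (τ 4) (τ 2) = 1
      rw [hfix 4 (by decide), hfix 2 (by decide)]
      exact e_4_2
    · show T.picMatrix (τ 4) (τ 3) = 0
      rw [hfix 4 (by decide), hfix 3 (by decide)]
      exact e_4_3

theorem nd_150 (T : Models.NumericalType 6)
    (hG : NTGood T)
    (hmax : ∀ j, T.m j ≤ T.m 0)
    (e_0_1 : T.picMatrix 0 1 = 1)
    (e_0_2 : T.picMatrix 0 2 = 1)
    (e_0_3 : T.picMatrix 0 3 = 1)
    (e_0_4 : T.picMatrix 0 4 = 0)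
    (e_0_5 : T.picMatrix 0 5 = 0)
    (e_1_0 : T.picMatrix 1 0 = 1)
    (e_1_2 : T.picMatrix 1 2 = 0)
    (e_1_3 : T.picMatrix 1 3 = 0)
    (e_1_4 : T.picMatrix 1 4 = 0)
    (e_1_5 : T.picMatrix 1 5 = 0)
    (e_2_0 : T.picMatrix 2 0 = 1)
    (e_2_1 : T.picMatrix 2 1 = 0)
    (e_2_3 : T.picMatrix 2 3 = 0)
    (e_2_4 : T.picMatrix 2 4 = 1)
    (e_2_5 : T.picMatrix 2 5 = 1)
    (e_3_0 : T.picMatrix 3 0 = 1)
    (e_3_1 : T.picMatrix 3 1 = 0)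
    (e_3_2 : T.picMatrix 3 2 = 0)
    (e_3_4 : T.picMatrix 3 4 = 0)
    (e_3_5 : T.picMatrix 3 5 = 0)
    (e_4_0 : T.picMatrix 4 0 = 0)
    (e_4_1 : T.picMatrix 4 1 = 0)
    (e_4_2 : T.picMatrix 4 2 = 1)
    (e_4_3 : T.picMatrix 4 3 = 0)
    (e_4_5 : T.picMatrix 4 5 = 0)
    (e_5_0 : T.picMatrix 5 0 = 0)
    (e_5_1 : T.picMatrix 5 1 = 0)
    (e_5_2 : T.picMatrix 5 2 = 1)
    (e_5_3 : T.picMatrix 5 3 = 0)
    (e_5_4 : T.picMatrix 5 4 = 0)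
    (cl : ∀ a b : Fin 6, a.val < 2 → 6 ≤ b.val → T.picMatrix a b = 0) :
    Goal T := by
  obtain ⟨hg0, hdA, hdP, hnn, hrow, hsym, hpair⟩ := ntgood_data T (by norm_num) hG
  have hm_0 := T.m_pos 0
  have hw_0 := T.w_pos 0
  have hm_1 := T.m_pos 1
  have hw_1 := T.w_pos 1
  have hm_2 := T.m_pos 2
  have hw_2 := T.w_pos 2
  have hm_3 := T.m_pos 3
  have hw_3 := T.w_pos 3
  have hm_4 := T.m_pos 4
  have hw_4 := T.w_pos 4
  have hm_5 := T.m_pos 5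
  have hw_5 := T.w_pos 5
  have hx_1 := hmax 1
  have hx_2 := hmax 2
  have hx_3 := hmax 3
  have hx_4 := hmax 4
  have hx_5 := hmax 5
  have R_0 := hrow 0
  rw [Fin.sum_univ_six, hdP 0, e_0_1, e_0_2, e_0_3, e_0_4, e_0_5] at R_0
  have R_1 := hrow 1
  rw [Fin.sum_univ_six, hdP 1, e_1_0, e_1_2, e_1_3, e_1_4, e_1_5] at R_1
  have R_2 := hrow 2
  rw [Fin.sum_univ_six, hdP 2, e_2_0, e_2_1, e_2_3, e_2_4, e_2_5] at R_2
  have R_3 := hrow 3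
  rw [Fin.sum_univ_six, hdP 3, e_3_0, e_3_1, e_3_2, e_3_4, e_3_5] at R_3
  have R_4 := hrow 4
  rw [Fin.sum_univ_six, hdP 4, e_4_0, e_4_1, e_4_2, e_4_3, e_4_5] at R_4
  have R_5 := hrow 5
  rw [Fin.sum_univ_six, hdP 5, e_5_0, e_5_1, e_5_2, e_5_3, e_5_4] at R_5
  have S_0_1 := hsym 0 1
  rw [e_0_1, e_1_0] at S_0_1
  have S_0_2 := hsym 0 2
  rw [e_0_2, e_2_0] at S_0_2
  have S_0_3 := hsym 0 3
  rw [e_0_3, e_3_0] at S_0_3
  have S_0_4 := hsym 0 4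
  rw [e_0_4, e_4_0] at S_0_4
  have S_0_5 := hsym 0 5
  rw [e_0_5, e_5_0] at S_0_5
  have S_1_2 := hsym 1 2
  rw [e_1_2, e_2_1] at S_1_2
  have S_1_3 := hsym 1 3
  rw [e_1_3, e_3_1] at S_1_3
  have S_1_4 := hsym 1 4
  rw [e_1_4, e_4_1] at S_1_4
  have S_1_5 := hsym 1 5
  rw [e_1_5, e_5_1] at S_1_5
  have S_2_3 := hsym 2 3
  rw [e_2_3, e_3_2] at S_2_3
  have S_2_4 := hsym 2 4
  rw [e_2_4, e_4_2] at S_2_4
  have S_2_5 := hsym 2 5
  rw [e_2_5, e_5_2] at S_2_5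
  have S_3_4 := hsym 3 4
  rw [e_3_4, e_4_3] at S_3_4
  have S_3_5 := hsym 3 5
  rw [e_3_5, e_5_3] at S_3_5
  have S_4_5 := hsym 4 5
  rw [e_4_5, e_5_4] at S_4_5
  have D_0 := hdA 0
  have A_0_1 := nt_a_eq T 0 1
  rw [e_0_1] at A_0_1
  have A_0_2 := nt_a_eq T 0 2
  rw [e_0_2] at A_0_2
  have A_0_3 := nt_a_eq T 0 3
  rw [e_0_3] at A_0_3
  have A_0_4 := nt_a_eq T 0 4
  rw [e_0_4] at A_0_4
  have A_0_5 := nt_a_eq T 0 5
  rw [e_0_5] at A_0_5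
  have D_1 := hdA 1
  have A_1_0 := nt_a_eq T 1 0
  rw [e_1_0] at A_1_0
  have A_1_2 := nt_a_eq T 1 2
  rw [e_1_2] at A_1_2
  have A_1_3 := nt_a_eq T 1 3
  rw [e_1_3] at A_1_3
  have A_1_4 := nt_a_eq T 1 4
  rw [e_1_4] at A_1_4
  have A_1_5 := nt_a_eq T 1 5
  rw [e_1_5] at A_1_5
  have D_2 := hdA 2
  have A_2_0 := nt_a_eq T 2 0
  rw [e_2_0] at A_2_0
  have A_2_1 := nt_a_eq T 2 1
  rw [e_2_1] at A_2_1
  have A_2_3 := nt_a_eq T 2 3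
  rw [e_2_3] at A_2_3
  have A_2_4 := nt_a_eq T 2 4
  rw [e_2_4] at A_2_4
  have A_2_5 := nt_a_eq T 2 5
  rw [e_2_5] at A_2_5
  have D_3 := hdA 3
  have A_3_0 := nt_a_eq T 3 0
  rw [e_3_0] at A_3_0
  have A_3_1 := nt_a_eq T 3 1
  rw [e_3_1] at A_3_1
  have A_3_2 := nt_a_eq T 3 2
  rw [e_3_2] at A_3_2
  have A_3_4 := nt_a_eq T 3 4
  rw [e_3_4] at A_3_4
  have A_3_5 := nt_a_eq T 3 5
  rw [e_3_5] at A_3_5
  have D_4 := hdA 4
  have A_4_0 := nt_a_eq T 4 0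
  rw [e_4_0] at A_4_0
  have A_4_1 := nt_a_eq T 4 1
  rw [e_4_1] at A_4_1
  have A_4_2 := nt_a_eq T 4 2
  rw [e_4_2] at A_4_2
  have A_4_3 := nt_a_eq T 4 3
  rw [e_4_3] at A_4_3
  have A_4_5 := nt_a_eq T 4 5
  rw [e_4_5] at A_4_5
  have D_5 := hdA 5
  have A_5_0 := nt_a_eq T 5 0
  rw [e_5_0] at A_5_0
  have A_5_1 := nt_a_eq T 5 1
  rw [e_5_1] at A_5_1
  have A_5_2 := nt_a_eq T 5 2
  rw [e_5_2] at A_5_2
  have A_5_3 := nt_a_eq T 5 3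
  rw [e_5_3] at A_5_3
  have A_5_4 := nt_a_eq T 5 4
  rw [e_5_4] at A_5_4
  refine goal_of_indices T hg0 1 3 0 2 4 5 (by decide) (T.m 1) (T.w 1) ?_
  unfold Goali
  exact Or.inr (Or.inr (Or.inr (Or.inr (Or.inr (Or.inr (⟨rfl,
      (by have h : (2 : ℤ) * (T.m 3 - (T.m 1)) = 0 := (by linear_combination (1) * R_1 + (-1) * R_3); exact eq_of_sub_eq_zero ((mul_eq_zero.mp h).resolve_left (by norm_num))),
      (by linear_combination (1) * R_1),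
      (by have h : (2 : ℤ) * (T.m 2 - (2 * T.m 1)) = 0 := (by linear_combination (2) * R_0 + (3) * R_1 + (1) * R_3); exact eq_of_sub_eq_zero ((mul_eq_zero.mp h).resolve_left (by norm_num))),
      (by have h : (4 : ℤ) * (T.m 4 - (T.m 1)) = 0 := (by linear_combination (2) * R_0 + (3) * R_1 + (1) * R_3 + (-2) * R_4); exact eq_of_sub_eq_zero ((mul_eq_zero.mp h).resolve_left (by norm_num))),
      (by have h : (4 : ℤ) * (T.m 5 - (T.m 1)) = 0 := (by linear_combination (6) * R_0 + (5) * R_1 + (4) * R_2 + (3) * R_3 + (2) * R_4); exact eq_of_sub_eq_zero ((mul_eq_zero.mp h).resolve_left (by norm_num))),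
      rfl,
      (by linear_combination (1) * S_0_1 + (-1) * S_0_3),
      (by linear_combination (1) * S_0_1),
      (by linear_combination (1) * S_0_1 + (-1) * S_0_2),
      (by linear_combination (1) * S_0_1 + (-1) * S_0_2 + (-1) * S_2_4),
      (by linear_combination (1) * S_0_1 + (-1) * S_0_2 + (-1) * S_2_5),
      (by linear_combination (1) * D_1),
      (by linear_combination (1) * A_1_3),
      (by linear_combination (1) * A_1_0),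
      (by linear_combination (1) * A_1_2),
      (by linear_combination (1) * A_1_4),
      (by linear_combination (1) * A_1_5),
      (by linear_combination (-2) * S_0_1 + (2) * S_0_3 + (1) * D_3),
      (by linear_combination (1) * S_0_1 + (-1) * S_0_3 + (1) * A_3_0),
      (by linear_combination (1) * A_3_2),
      (by linear_combination (1) * A_3_4),
      (by linear_combination (1) * A_3_5),
      (by linear_combination (-2) * S_0_1 + (1) * D_0),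
      (by linear_combination (1) * S_0_1 + (1) * A_0_2),
      (by linear_combination (1) * A_0_4),
      (by linear_combination (1) * A_0_5),
      (by linear_combination (-2) * S_0_1 + (2) * S_0_2 + (1) * D_2),
      (by linear_combination (1) * S_0_1 + (-1) * S_0_2 + (1) * A_2_4),
      (by linear_combination (1) * S_0_1 + (-1) * S_0_2 + (1) * A_2_5),
      (by linear_combination (-2) * S_0_1 + (2) * S_0_2 + (2) * S_2_4 + (1) * D_4),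
      (by linear_combination (1) * A_4_5),
      (by linear_combination (-2) * S_0_1 + (2) * S_0_2 + (2) * S_2_5 + (1) * D_5)⟩))))))

theorem ex_149 (T : Models.NumericalType 6)
    (hG : NTGood T)
    (hmax : ∀ j, T.m j ≤ T.m 0)
    (e_0_1 : T.picMatrix 0 1 = 1)
    (e_0_2 : T.picMatrix 0 2 = 1)
    (e_0_3 : T.picMatrix 0 3 = 1)
    (e_0_4 : T.picMatrix 0 4 = 0)
    (e_1_0 : T.picMatrix 1 0 = 1)
    (e_1_2 : T.picMatrix 1 2 = 0)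
    (e_1_3 : T.picMatrix 1 3 = 0)
    (e_1_4 : T.picMatrix 1 4 = 0)
    (e_2_0 : T.picMatrix 2 0 = 1)
    (e_2_1 : T.picMatrix 2 1 = 0)
    (e_2_3 : T.picMatrix 2 3 = 0)
    (e_2_4 : T.picMatrix 2 4 = 1)
    (e_3_0 : T.picMatrix 3 0 = 1)
    (e_3_1 : T.picMatrix 3 1 = 0)
    (e_3_2 : T.picMatrix 3 2 = 0)
    (e_3_4 : T.picMatrix 3 4 = 0)
    (e_4_0 : T.picMatrix 4 0 = 0)
    (e_4_1 : T.picMatrix 4 1 = 0)
    (e_4_2 : T.picMatrix 4 2 = 1)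
    (e_4_3 : T.picMatrix 4 3 = 0)
    (cl : ∀ a b : Fin 6, a.val < 2 → 6 ≤ b.val → T.picMatrix a b = 0)
    (z : ∀ a : Fin 6, a.val < 2 → T.picMatrix a 5 = 0)
    (hne : T.picMatrix 2 5 ≠ 0) :
    Goal T := by
  have e_0_5 : T.picMatrix 0 5 = 0 := z 0 (by decide)
  have e_5_0 : T.picMatrix 5 0 = 0 := nt_pic_zero_symm T 0 5 e_0_5
  have e_1_5 : T.picMatrix 1 5 = 0 := z 1 (by decide)
  have e_5_1 : T.picMatrix 5 1 = 0 := nt_pic_zero_symm T 1 5 e_1_5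
  obtain ⟨hg0, hdA, hdP, hnn, hrow, hsym, hpair⟩ := ntgood_data T (by norm_num) hG
  have hm_0 := T.m_pos 0
  have hw_0 := T.w_pos 0
  have hm_1 := T.m_pos 1
  have hw_1 := T.w_pos 1
  have hm_2 := T.m_pos 2
  have hw_2 := T.w_pos 2
  have hm_3 := T.m_pos 3
  have hw_3 := T.w_pos 3
  have hm_4 := T.m_pos 4
  have hw_4 := T.w_pos 4
  have hm_5 := T.m_pos 5
  have hw_5 := T.w_pos 5
  have hx_1 := hmax 1
  have hx_2 := hmax 2
  have hx_3 := hmax 3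
  have hx_4 := hmax 4
  have hx_5 := hmax 5
  have N_2_5 := mul_nonneg (hnn 2 5 (by decide)) (T.m_pos 5).le
  have N_5_2 := mul_nonneg (hnn 5 2 (by decide)) (T.m_pos 2).le
  have N_3_5 := mul_nonneg (hnn 3 5 (by decide)) (T.m_pos 5).le
  have N_5_3 := mul_nonneg (hnn 5 3 (by decide)) (T.m_pos 3).le
  have N_4_5 := mul_nonneg (hnn 4 5 (by decide)) (T.m_pos 5).le
  have N_5_4 := mul_nonneg (hnn 5 4 (by decide)) (T.m_pos 4).le
  have R_0 := hrow 0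
  rw [Fin.sum_univ_six, hdP 0, e_0_1, e_0_2, e_0_3, e_0_4, e_0_5] at R_0
  have R_1 := hrow 1
  rw [Fin.sum_univ_six, hdP 1, e_1_0, e_1_2, e_1_3, e_1_4, e_1_5] at R_1
  have R_2 := hrow 2
  rw [Fin.sum_univ_six, hdP 2, e_2_0, e_2_1, e_2_3, e_2_4] at R_2
  have R_3 := hrow 3
  rw [Fin.sum_univ_six, hdP 3, e_3_0, e_3_1, e_3_2, e_3_4] at R_3
  have R_4 := hrow 4
  rw [Fin.sum_univ_six, hdP 4, e_4_0, e_4_1, e_4_2, e_4_3] at R_4
  have R_5 := hrow 5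
  rw [Fin.sum_univ_six, hdP 5, e_5_0, e_5_1] at R_5
  have S_0_1 := hsym 0 1
  rw [e_0_1, e_1_0] at S_0_1
  have S_0_2 := hsym 0 2
  rw [e_0_2, e_2_0] at S_0_2
  have S_0_3 := hsym 0 3
  rw [e_0_3, e_3_0] at S_0_3
  have S_0_4 := hsym 0 4
  rw [e_0_4, e_4_0] at S_0_4
  have S_0_5 := hsym 0 5
  rw [e_0_5, e_5_0] at S_0_5
  have S_1_2 := hsym 1 2
  rw [e_1_2, e_2_1] at S_1_2
  have S_1_3 := hsym 1 3
  rw [e_1_3, e_3_1] at S_1_3
  have S_1_4 := hsym 1 4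
  rw [e_1_4, e_4_1] at S_1_4
  have S_1_5 := hsym 1 5
  rw [e_1_5, e_5_1] at S_1_5
  have S_2_3 := hsym 2 3
  rw [e_2_3, e_3_2] at S_2_3
  have S_2_4 := hsym 2 4
  rw [e_2_4, e_4_2] at S_2_4
  have S_2_5 := hsym 2 5
  have S_3_4 := hsym 3 4
  rw [e_3_4, e_4_3] at S_3_4
  have S_3_5 := hsym 3 5
  have S_4_5 := hsym 4 5
  have Q_2 := hpair 2 5 (by decide)
  have Q_3 := hpair 3 5 (by decide)
  have Q_4 := hpair 4 5 (by decide)
  generalize e_2_5 : T.picMatrix 2 5 = x_2 at *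
  generalize e_5_2 : T.picMatrix 5 2 = y_2 at *
  generalize e_3_5 : T.picMatrix 3 5 = x_3 at *
  generalize e_5_3 : T.picMatrix 5 3 = y_3 at *
  generalize e_4_5 : T.picMatrix 4 5 = x_4 at *
  generalize e_5_4 : T.picMatrix 5 4 = y_4 at *
  rcases Q_2 with ⟨rfl, rfl⟩ | ⟨rfl, rfl⟩ | ⟨rfl, rfl⟩ | ⟨rfl, rfl⟩ | ⟨rfl, rfl⟩ | ⟨rfl, rfl⟩ | ⟨rfl, rfl⟩ | ⟨rfl, rfl⟩ | ⟨rfl, rfl⟩
  · exact absurd rfl hne
  · -- (2,5) = (1,1)
    rcases Q_3 with ⟨rfl, rfl⟩ | ⟨rfl, rfl⟩ | ⟨rfl, rfl⟩ | ⟨rfl, rfl⟩ | ⟨rfl, rfl⟩ | ⟨rfl, rfl⟩ | ⟨rfl, rfl⟩ | ⟨rfl, rfl⟩ | ⟨rfl, rfl⟩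
    · -- (3,5) = (0,0)
      rcases Q_4 with ⟨rfl, rfl⟩ | ⟨rfl, rfl⟩ | ⟨rfl, rfl⟩ | ⟨rfl, rfl⟩ | ⟨rfl, rfl⟩ | ⟨rfl, rfl⟩ | ⟨rfl, rfl⟩ | ⟨rfl, rfl⟩ | ⟨rfl, rfl⟩
      · -- (4,5) = (0,0)
        exact nd_150 T hG hmax e_0_1 e_0_2 e_0_3 e_0_4 e_0_5 e_1_0 e_1_2 e_1_3 e_1_4 e_1_5 e_2_0 e_2_1 e_2_3 e_2_4 e_2_5 e_3_0 e_3_1 e_3_2 e_3_4 e_3_5 e_4_0 e_4_1 e_4_2 e_4_3 e_4_5 e_5_0 e_5_1 e_5_2 e_5_3 e_5_4 cl
      · -- (4,5) = (1,1)
        omega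
      · -- (4,5) = (1,2)
        omega
      · -- (4,5) = (2,1)
        omega
      · -- (4,5) = (1,3)
        omega
      · -- (4,5) = (3,1)
        omega
      · -- (4,5) = (1,4)
        omega
      · -- (4,5) = (4,1)
        omega
      · -- (4,5) = (2,2)
        omega
    · omega
    · omega
    · omega
    · omega
    · omega
    · omega
    · omega
    · omega
  · omega
  · omega
  · omega
  · omega
  · omega
  · omega
  · omega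

theorem nd_141 (T : Models.NumericalType 6)
    (hG : NTGood T)
    (hmax : ∀ j, T.m j ≤ T.m 0)
    (e_0_1 : T.picMatrix 0 1 = 1)
    (e_0_2 : T.picMatrix 0 2 = 1)
    (e_0_3 : T.picMatrix 0 3 = 1)
    (e_0_4 : T.picMatrix 0 4 = 0)
    (e_1_0 : T.picMatrix 1 0 = 1)
    (e_1_2 : T.picMatrix 1 2 = 0)
    (e_1_3 : T.picMatrix 1 3 = 0)
    (e_1_4 : T.picMatrix 1 4 = 0)
    (e_2_0 : T.picMatrix 2 0 = 1)
    (e_2_1 : T.picMatrix 2 1 = 0)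
    (e_2_3 : T.picMatrix 2 3 = 0)
    (e_2_4 : T.picMatrix 2 4 = 1)
    (e_3_0 : T.picMatrix 3 0 = 1)
    (e_3_1 : T.picMatrix 3 1 = 0)
    (e_3_2 : T.picMatrix 3 2 = 0)
    (e_3_4 : T.picMatrix 3 4 = 0)
    (e_4_0 : T.picMatrix 4 0 = 0)
    (e_4_1 : T.picMatrix 4 1 = 0)
    (e_4_2 : T.picMatrix 4 2 = 1)
    (e_4_3 : T.picMatrix 4 3 = 0)
    (cl : ∀ a b : Fin 6, a.val < 2 → 5 ≤ b.val → T.picMatrix a b = 0) :
    Goal T := by
  by_cases hc : ∀ b : Fin 6, 5 ≤ b.val → T.picMatrix 2 b = 0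
  · exact nd_142 T hG hmax e_0_1 e_0_2 e_0_3 e_0_4 e_1_0 e_1_2 e_1_3 e_1_4 e_2_0 e_2_1 e_2_3 e_2_4 e_3_0 e_3_1 e_3_2 e_3_4 e_4_0 e_4_1 e_4_2 e_4_3 (nt_cl_succ T 5 2 2 rfl cl hc)
  · obtain ⟨τ, hfix, cl', z, hne⟩ := nt_wlog_step T 5 (by norm_num) 2 (by norm_num) 2 (by decide) cl hc
    apply goal_relabel T τ
    refine ex_149 (ntRelabel T τ) (hG.relabel τ) ?_ ?_ ?_ ?_ ?_ ?_ ?_ ?_ ?_ ?_ ?_ ?_ ?_ ?_ ?_ ?_ ?_ ?_ ?_ ?_ ?_ cl' z hne
    · intro j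
      show T.m (τ j) ≤ T.m (τ 0)
      rw [hfix 0 (by decide)]
      exact hmax _
    · show T.picMatrix (τ 0) (τ 1) = 1
      rw [hfix 0 (by decide), hfix 1 (by decide)]
      exact e_0_1
    · show T.picMatrix (τ 0) (τ 2) = 1
      rw [hfix 0 (by decide), hfix 2 (by decide)]
      exact e_0_2
    · show T.picMatrix (τ 0) (τ 3) = 1
      rw [hfix 0 (by decide), hfix 3 (by decide)]
      exact e_0_3
    · show T.picMatrix (τ 0) (τ 4) = 0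
      rw [hfix 0 (by decide), hfix 4 (by decide)]
      exact e_0_4
    · show T.picMatrix (τ 1) (τ 0) = 1
      rw [hfix 1 (by decide), hfix 0 (by decide)]
      exact e_1_0
    · show T.picMatrix (τ 1) (τ 2) = 0
      rw [hfix 1 (by decide), hfix 2 (by decide)]
      exact e_1_2
    · show T.picMatrix (τ 1) (τ 3) = 0
      rw [hfix 1 (by decide), hfix 3 (by decide)]
      exact e_1_3
    · show T.picMatrix (τ 1) (τ 4) = 0
      rw [hfix 1 (by decide), hfix 4 (by decide)]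
      exact e_1_4
    · show T.picMatrix (τ 2) (τ 0) = 1
      rw [hfix 2 (by decide), hfix 0 (by decide)]
      exact e_2_0
    · show T.picMatrix (τ 2) (τ 1) = 0
      rw [hfix 2 (by decide), hfix 1 (by decide)]
      exact e_2_1
    · show T.picMatrix (τ 2) (τ 3) = 0
      rw [hfix 2 (by decide), hfix 3 (by decide)]
      exact e_2_3
    · show T.picMatrix (τ 2) (τ 4) = 1
      rw [hfix 2 (by decide), hfix 4 (by decide)]
      exact e_2_4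
    · show T.picMatrix (τ 3) (τ 0) = 1
      rw [hfix 3 (by decide), hfix 0 (by decide)]
      exact e_3_0
    · show T.picMatrix (τ 3) (τ 1) = 0
      rw [hfix 3 (by decide), hfix 1 (by decide)]
      exact e_3_1
    · show T.picMatrix (τ 3) (τ 2) = 0
      rw [hfix 3 (by decide), hfix 2 (by decide)]
      exact e_3_2
    · show T.picMatrix (τ 3) (τ 4) = 0
      rw [hfix 3 (by decide), hfix 4 (by decide)]
      exact e_3_4
    · show T.picMatrix (τ 4) (τ 0) = 0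
      rw [hfix 4 (by decide), hfix 0 (by decide)]
      exact e_4_0
    · show T.picMatrix (τ 4) (τ 1) = 0
      rw [hfix 4 (by decide), hfix 1 (by decide)]
      exact e_4_1
    · show T.picMatrix (τ 4) (τ 2) = 1
      rw [hfix 4 (by decide), hfix 2 (by decide)]
      exact e_4_2
    · show T.picMatrix (τ 4) (τ 3) = 0
      rw [hfix 4 (by decide), hfix 3 (by decide)]
      exact e_4_3

theorem nd_154 (T : Models.NumericalType 6)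
    (hG : NTGood T)
    (hmax : ∀ j, T.m j ≤ T.m 0)
    (e_0_1 : T.picMatrix 0 1 = 1)
    (e_0_2 : T.picMatrix 0 2 = 1)
    (e_0_3 : T.picMatrix 0 3 = 1)
    (e_0_4 : T.picMatrix 0 4 = 0)
    (e_1_0 : T.picMatrix 1 0 = 1)
    (e_1_2 : T.picMatrix 1 2 = 0)
    (e_1_3 : T.picMatrix 1 3 = 0)
    (e_1_4 : T.picMatrix 1 4 = 0)
    (e_2_0 : T.picMatrix 2 0 = 1)
    (e_2_1 : T.picMatrix 2 1 = 0)
    (e_2_3 : T.picMatrix 2 3 = 0)
    (e_2_4 : T.picMatrix 2 4 = 1)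
    (e_3_0 : T.picMatrix 3 0 = 1)
    (e_3_1 : T.picMatrix 3 1 = 0)
    (e_3_2 : T.picMatrix 3 2 = 0)
    (e_3_4 : T.picMatrix 3 4 = 0)
    (e_4_0 : T.picMatrix 4 0 = 0)
    (e_4_1 : T.picMatrix 4 1 = 0)
    (e_4_2 : T.picMatrix 4 2 = 2)
    (e_4_3 : T.picMatrix 4 3 = 0)
    (cl : ∀ a b : Fin 6, a.val < 5 → 5 ≤ b.val → T.picMatrix a b = 0) :
    Goal T := by
  exact (nt_closed_false T 5 (by norm_num) (by norm_num) cl).elim

theorem ex_155 (T : Models.NumericalType 6)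
    (hG : NTGood T)
    (hmax : ∀ j, T.m j ≤ T.m 0)
    (e_0_1 : T.picMatrix 0 1 = 1)
    (e_0_2 : T.picMatrix 0 2 = 1)
    (e_0_3 : T.picMatrix 0 3 = 1)
    (e_0_4 : T.picMatrix 0 4 = 0)
    (e_1_0 : T.picMatrix 1 0 = 1)
    (e_1_2 : T.picMatrix 1 2 = 0)
    (e_1_3 : T.picMatrix 1 3 = 0)
    (e_1_4 : T.picMatrix 1 4 = 0)
    (e_2_0 : T.picMatrix 2 0 = 1)
    (e_2_1 : T.picMatrix 2 1 = 0)
    (e_2_3 : T.picMatrix 2 3 = 0)
    (e_2_4 : T.picMatrix 2 4 = 1)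
    (e_3_0 : T.picMatrix 3 0 = 1)
    (e_3_1 : T.picMatrix 3 1 = 0)
    (e_3_2 : T.picMatrix 3 2 = 0)
    (e_3_4 : T.picMatrix 3 4 = 0)
    (e_4_0 : T.picMatrix 4 0 = 0)
    (e_4_1 : T.picMatrix 4 1 = 0)
    (e_4_2 : T.picMatrix 4 2 = 2)
    (e_4_3 : T.picMatrix 4 3 = 0)
    (cl : ∀ a b : Fin 6, a.val < 4 → 6 ≤ b.val → T.picMatrix a b = 0)
    (z : ∀ a : Fin 6, a.val < 4 → T.picMatrix a 5 = 0)
    (hne : T.picMatrix 4 5 ≠ 0) :
    Goal T := by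
  have e_0_5 : T.picMatrix 0 5 = 0 := z 0 (by decide)
  have e_5_0 : T.picMatrix 5 0 = 0 := nt_pic_zero_symm T 0 5 e_0_5
  have e_1_5 : T.picMatrix 1 5 = 0 := z 1 (by decide)
  have e_5_1 : T.picMatrix 5 1 = 0 := nt_pic_zero_symm T 1 5 e_1_5
  have e_2_5 : T.picMatrix 2 5 = 0 := z 2 (by decide)
  have e_5_2 : T.picMatrix 5 2 = 0 := nt_pic_zero_symm T 2 5 e_2_5
  have e_3_5 : T.picMatrix 3 5 = 0 := z 3 (by decide)
  have e_5_3 : T.picMatrix 5 3 = 0 := nt_pic_zero_symm T 3 5 e_3_5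
  obtain ⟨hg0, hdA, hdP, hnn, hrow, hsym, hpair⟩ := ntgood_data T (by norm_num) hG
  have hm_0 := T.m_pos 0
  have hw_0 := T.w_pos 0
  have hm_1 := T.m_pos 1
  have hw_1 := T.w_pos 1
  have hm_2 := T.m_pos 2
  have hw_2 := T.w_pos 2
  have hm_3 := T.m_pos 3
  have hw_3 := T.w_pos 3
  have hm_4 := T.m_pos 4
  have hw_4 := T.w_pos 4
  have hm_5 := T.m_pos 5
  have hw_5 := T.w_pos 5
  have hx_1 := hmax 1
  have hx_2 := hmax 2
  have hx_3 := hmax 3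
  have hx_4 := hmax 4
  have hx_5 := hmax 5
  have N_4_5 := mul_nonneg (hnn 4 5 (by decide)) (T.m_pos 5).le
  have N_5_4 := mul_nonneg (hnn 5 4 (by decide)) (T.m_pos 4).le
  have R_0 := hrow 0
  rw [Fin.sum_univ_six, hdP 0, e_0_1, e_0_2, e_0_3, e_0_4, e_0_5] at R_0
  have R_1 := hrow 1
  rw [Fin.sum_univ_six, hdP 1, e_1_0, e_1_2, e_1_3, e_1_4, e_1_5] at R_1
  have R_2 := hrow 2
  rw [Fin.sum_univ_six, hdP 2, e_2_0, e_2_1, e_2_3, e_2_4, e_2_5] at R_2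
  have R_3 := hrow 3
  rw [Fin.sum_univ_six, hdP 3, e_3_0, e_3_1, e_3_2, e_3_4, e_3_5] at R_3
  have R_4 := hrow 4
  rw [Fin.sum_univ_six, hdP 4, e_4_0, e_4_1, e_4_2, e_4_3] at R_4
  have R_5 := hrow 5
  rw [Fin.sum_univ_six, hdP 5, e_5_0, e_5_1, e_5_2, e_5_3] at R_5
  have S_0_1 := hsym 0 1
  rw [e_0_1, e_1_0] at S_0_1
  have S_0_2 := hsym 0 2
  rw [e_0_2, e_2_0] at S_0_2
  have S_0_3 := hsym 0 3
  rw [e_0_3, e_3_0] at S_0_3
  have S_0_4 := hsym 0 4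
  rw [e_0_4, e_4_0] at S_0_4
  have S_0_5 := hsym 0 5
  rw [e_0_5, e_5_0] at S_0_5
  have S_1_2 := hsym 1 2
  rw [e_1_2, e_2_1] at S_1_2
  have S_1_3 := hsym 1 3
  rw [e_1_3, e_3_1] at S_1_3
  have S_1_4 := hsym 1 4
  rw [e_1_4, e_4_1] at S_1_4
  have S_1_5 := hsym 1 5
  rw [e_1_5, e_5_1] at S_1_5
  have S_2_3 := hsym 2 3
  rw [e_2_3, e_3_2] at S_2_3
  have S_2_4 := hsym 2 4
  rw [e_2_4, e_4_2] at S_2_4
  have S_2_5 := hsym 2 5
  rw [e_2_5, e_5_2] at S_2_5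
  have S_3_4 := hsym 3 4
  rw [e_3_4, e_4_3] at S_3_4
  have S_3_5 := hsym 3 5
  rw [e_3_5, e_5_3] at S_3_5
  have S_4_5 := hsym 4 5
  have Q_4 := hpair 4 5 (by decide)
  generalize e_4_5 : T.picMatrix 4 5 = x_4 at *
  generalize e_5_4 : T.picMatrix 5 4 = y_4 at *
  rcases Q_4 with ⟨rfl, rfl⟩ | ⟨rfl, rfl⟩ | ⟨rfl, rfl⟩ | ⟨rfl, rfl⟩ | ⟨rfl, rfl⟩ | ⟨rfl, rfl⟩ | ⟨rfl, rfl⟩ | ⟨rfl, rfl⟩ | ⟨rfl, rfl⟩
  · exact absurd rfl hne
  · -- (4,5) = (1,1)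
    omega
  · -- (4,5) = (1,2)
    omega
  · -- (4,5) = (2,1)
    omega
  · -- (4,5) = (1,3)
    omega
  · -- (4,5) = (3,1)
    omega
  · -- (4,5) = (1,4)
    omega
  · -- (4,5) = (4,1)
    omega
  · -- (4,5) = (2,2)
    omega

theorem nd_153 (T : Models.NumericalType 6)
    (hG : NTGood T)
    (hmax : ∀ j, T.m j ≤ T.m 0)
    (e_0_1 : T.picMatrix 0 1 = 1)
    (e_0_2 : T.picMatrix 0 2 = 1)
    (e_0_3 : T.picMatrix 0 3 = 1)
    (e_0_4 : T.picMatrix 0 4 = 0)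
    (e_1_0 : T.picMatrix 1 0 = 1)
    (e_1_2 : T.picMatrix 1 2 = 0)
    (e_1_3 : T.picMatrix 1 3 = 0)
    (e_1_4 : T.picMatrix 1 4 = 0)
    (e_2_0 : T.picMatrix 2 0 = 1)
    (e_2_1 : T.picMatrix 2 1 = 0)
    (e_2_3 : T.picMatrix 2 3 = 0)
    (e_2_4 : T.picMatrix 2 4 = 1)
    (e_3_0 : T.picMatrix 3 0 = 1)
    (e_3_1 : T.picMatrix 3 1 = 0)
    (e_3_2 : T.picMatrix 3 2 = 0)
    (e_3_4 : T.picMatrix 3 4 = 0)
    (e_4_0 : T.picMatrix 4 0 = 0)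
    (e_4_1 : T.picMatrix 4 1 = 0)
    (e_4_2 : T.picMatrix 4 2 = 2)
    (e_4_3 : T.picMatrix 4 3 = 0)
    (cl : ∀ a b : Fin 6, a.val < 4 → 5 ≤ b.val → T.picMatrix a b = 0) :
    Goal T := by
  by_cases hc : ∀ b : Fin 6, 5 ≤ b.val → T.picMatrix 4 b = 0
  · exact nd_154 T hG hmax e_0_1 e_0_2 e_0_3 e_0_4 e_1_0 e_1_2 e_1_3 e_1_4 e_2_0 e_2_1 e_2_3 e_2_4 e_3_0 e_3_1 e_3_2 e_3_4 e_4_0 e_4_1 e_4_2 e_4_3 (nt_cl_succ T 5 4 4 rfl cl hc)
  · obtain ⟨τ, hfix, cl', z, hne⟩ := nt_wlog_step T 5 (by norm_num) 4 (by norm_num) 4 (by decide) cl hc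
    apply goal_relabel T τ
    refine ex_155 (ntRelabel T τ) (hG.relabel τ) ?_ ?_ ?_ ?_ ?_ ?_ ?_ ?_ ?_ ?_ ?_ ?_ ?_ ?_ ?_ ?_ ?_ ?_ ?_ ?_ ?_ cl' z hne
    · intro j
      show T.m (τ j) ≤ T.m (τ 0)
      rw [hfix 0 (by decide)]
      exact hmax _
    · show T.picMatrix (τ 0) (τ 1) = 1
      rw [hfix 0 (by decide), hfix 1 (by decide)]
      exact e_0_1
    · show T.picMatrix (τ 0) (τ 2) = 1
      rw [hfix 0 (by decide), hfix 2 (by decide)]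
      exact e_0_2
    · show T.picMatrix (τ 0) (τ 3) = 1
      rw [hfix 0 (by decide), hfix 3 (by decide)]
      exact e_0_3
    · show T.picMatrix (τ 0) (τ 4) = 0
      rw [hfix 0 (by decide), hfix 4 (by decide)]
      exact e_0_4
    · show T.picMatrix (τ 1) (τ 0) = 1
      rw [hfix 1 (by decide), hfix 0 (by decide)]
      exact e_1_0
    · show T.picMatrix (τ 1) (τ 2) = 0
      rw [hfix 1 (by decide), hfix 2 (by decide)]
      exact e_1_2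
    · show T.picMatrix (τ 1) (τ 3) = 0
      rw [hfix 1 (by decide), hfix 3 (by decide)]
      exact e_1_3
    · show T.picMatrix (τ 1) (τ 4) = 0
      rw [hfix 1 (by decide), hfix 4 (by decide)]
      exact e_1_4
    · show T.picMatrix (τ 2) (τ 0) = 1
      rw [hfix 2 (by decide), hfix 0 (by decide)]
      exact e_2_0
    · show T.picMatrix (τ 2) (τ 1) = 0
      rw [hfix 2 (by decide), hfix 1 (by decide)]
      exact e_2_1
    · show T.picMatrix (τ 2) (τ 3) = 0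
      rw [hfix 2 (by decide), hfix 3 (by decide)]
      exact e_2_3
    · show T.picMatrix (τ 2) (τ 4) = 1
      rw [hfix 2 (by decide), hfix 4 (by decide)]
      exact e_2_4
    · show T.picMatrix (τ 3) (τ 0) = 1
      rw [hfix 3 (by decide), hfix 0 (by decide)]
      exact e_3_0
    · show T.picMatrix (τ 3) (τ 1) = 0
      rw [hfix 3 (by decide), hfix 1 (by decide)]
      exact e_3_1
    · show T.picMatrix (τ 3) (τ 2) = 0
      rw [hfix 3 (by decide), hfix 2 (by decide)]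
      exact e_3_2
    · show T.picMatrix (τ 3) (τ 4) = 0
      rw [hfix 3 (by decide), hfix 4 (by decide)]
      exact e_3_4
    · show T.picMatrix (τ 4) (τ 0) = 0
      rw [hfix 4 (by decide), hfix 0 (by decide)]
      exact e_4_0
    · show T.picMatrix (τ 4) (τ 1) = 0
      rw [hfix 4 (by decide), hfix 1 (by decide)]
      exact e_4_1
    · show T.picMatrix (τ 4) (τ 2) = 2
      rw [hfix 4 (by decide), hfix 2 (by decide)]
      exact e_4_2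
    · show T.picMatrix (τ 4) (τ 3) = 0
      rw [hfix 4 (by decide), hfix 3 (by decide)]
      exact e_4_3

theorem ex_156 (T : Models.NumericalType 6)
    (hG : NTGood T)
    (hmax : ∀ j, T.m j ≤ T.m 0)
    (e_0_1 : T.picMatrix 0 1 = 1)
    (e_0_2 : T.picMatrix 0 2 = 1)
    (e_0_3 : T.picMatrix 0 3 = 1)
    (e_0_4 : T.picMatrix 0 4 = 0)
    (e_1_0 : T.picMatrix 1 0 = 1)
    (e_1_2 : T.picMatrix 1 2 = 0)
    (e_1_3 : T.picMatrix 1 3 = 0)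
    (e_1_4 : T.picMatrix 1 4 = 0)
    (e_2_0 : T.picMatrix 2 0 = 1)
    (e_2_1 : T.picMatrix 2 1 = 0)
    (e_2_3 : T.picMatrix 2 3 = 0)
    (e_2_4 : T.picMatrix 2 4 = 1)
    (e_3_0 : T.picMatrix 3 0 = 1)
    (e_3_1 : T.picMatrix 3 1 = 0)
    (e_3_2 : T.picMatrix 3 2 = 0)
    (e_3_4 : T.picMatrix 3 4 = 0)
    (e_4_0 : T.picMatrix 4 0 = 0)
    (e_4_1 : T.picMatrix 4 1 = 0)
    (e_4_2 : T.picMatrix 4 2 = 2)
    (e_4_3 : T.picMatrix 4 3 = 0)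
    (cl : ∀ a b : Fin 6, a.val < 3 → 6 ≤ b.val → T.picMatrix a b = 0)
    (z : ∀ a : Fin 6, a.val < 3 → T.picMatrix a 5 = 0)
    (hne : T.picMatrix 3 5 ≠ 0) :
    Goal T := by
  have e_0_5 : T.picMatrix 0 5 = 0 := z 0 (by decide)
  have e_5_0 : T.picMatrix 5 0 = 0 := nt_pic_zero_symm T 0 5 e_0_5
  have e_1_5 : T.picMatrix 1 5 = 0 := z 1 (by decide)
  have e_5_1 : T.picMatrix 5 1 = 0 := nt_pic_zero_symm T 1 5 e_1_5
  have e_2_5 : T.picMatrix 2 5 = 0 := z 2 (by decide)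
  have e_5_2 : T.picMatrix 5 2 = 0 := nt_pic_zero_symm T 2 5 e_2_5
  obtain ⟨hg0, hdA, hdP, hnn, hrow, hsym, hpair⟩ := ntgood_data T (by norm_num) hG
  have hm_0 := T.m_pos 0
  have hw_0 := T.w_pos 0
  have hm_1 := T.m_pos 1
  have hw_1 := T.w_pos 1
  have hm_2 := T.m_pos 2
  have hw_2 := T.w_pos 2
  have hm_3 := T.m_pos 3
  have hw_3 := T.w_pos 3
  have hm_4 := T.m_pos 4
  have hw_4 := T.w_pos 4
  have hm_5 := T.m_pos 5
  have hw_5 := T.w_pos 5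
  have hx_1 := hmax 1
  have hx_2 := hmax 2
  have hx_3 := hmax 3
  have hx_4 := hmax 4
  have hx_5 := hmax 5
  have N_3_5 := mul_nonneg (hnn 3 5 (by decide)) (T.m_pos 5).le
  have N_5_3 := mul_nonneg (hnn 5 3 (by decide)) (T.m_pos 3).le
  have N_4_5 := mul_nonneg (hnn 4 5 (by decide)) (T.m_pos 5).le
  have N_5_4 := mul_nonneg (hnn 5 4 (by decide)) (T.m_pos 4).le
  have R_0 := hrow 0
  rw [Fin.sum_univ_six, hdP 0, e_0_1, e_0_2, e_0_3, e_0_4, e_0_5] at R_0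
  have R_1 := hrow 1
  rw [Fin.sum_univ_six, hdP 1, e_1_0, e_1_2, e_1_3, e_1_4, e_1_5] at R_1
  have R_2 := hrow 2
  rw [Fin.sum_univ_six, hdP 2, e_2_0, e_2_1, e_2_3, e_2_4, e_2_5] at R_2
  have R_3 := hrow 3
  rw [Fin.sum_univ_six, hdP 3, e_3_0, e_3_1, e_3_2, e_3_4] at R_3
  have R_4 := hrow 4
  rw [Fin.sum_univ_six, hdP 4, e_4_0, e_4_1, e_4_2, e_4_3] at R_4
  have R_5 := hrow 5
  rw [Fin.sum_univ_six, hdP 5, e_5_0, e_5_1, e_5_2] at R_5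
  have S_0_1 := hsym 0 1
  rw [e_0_1, e_1_0] at S_0_1
  have S_0_2 := hsym 0 2
  rw [e_0_2, e_2_0] at S_0_2
  have S_0_3 := hsym 0 3
  rw [e_0_3, e_3_0] at S_0_3
  have S_0_4 := hsym 0 4
  rw [e_0_4, e_4_0] at S_0_4
  have S_0_5 := hsym 0 5
  rw [e_0_5, e_5_0] at S_0_5
  have S_1_2 := hsym 1 2
  rw [e_1_2, e_2_1] at S_1_2
  have S_1_3 := hsym 1 3
  rw [e_1_3, e_3_1] at S_1_3
  have S_1_4 := hsym 1 4
  rw [e_1_4, e_4_1] at S_1_4
  have S_1_5 := hsym 1 5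
  rw [e_1_5, e_5_1] at S_1_5
  have S_2_3 := hsym 2 3
  rw [e_2_3, e_3_2] at S_2_3
  have S_2_4 := hsym 2 4
  rw [e_2_4, e_4_2] at S_2_4
  have S_2_5 := hsym 2 5
  rw [e_2_5, e_5_2] at S_2_5
  have S_3_4 := hsym 3 4
  rw [e_3_4, e_4_3] at S_3_4
  have S_3_5 := hsym 3 5
  have S_4_5 := hsym 4 5
  have Q_3 := hpair 3 5 (by decide)
  have Q_4 := hpair 4 5 (by decide)
  generalize e_3_5 : T.picMatrix 3 5 = x_3 at *
  generalize e_5_3 : T.picMatrix 5 3 = y_3 at *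
  generalize e_4_5 : T.picMatrix 4 5 = x_4 at *
  generalize e_5_4 : T.picMatrix 5 4 = y_4 at *
  rcases Q_3 with ⟨rfl, rfl⟩ | ⟨rfl, rfl⟩ | ⟨rfl, rfl⟩ | ⟨rfl, rfl⟩ | ⟨rfl, rfl⟩ | ⟨rfl, rfl⟩ | ⟨rfl, rfl⟩ | ⟨rfl, rfl⟩ | ⟨rfl, rfl⟩
  · exact absurd rfl hne
  · omega
  · omega
  · omega
  · omega
  · omega
  · omega
  · omega
  · omega

theorem nd_152 (T : Models.NumericalType 6)
    (hG : NTGood T)
    (hmax : ∀ j, T.m j ≤ T.m 0)
    (e_0_1 : T.picMatrix 0 1 = 1)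
    (e_0_2 : T.picMatrix 0 2 = 1)
    (e_0_3 : T.picMatrix 0 3 = 1)
    (e_0_4 : T.picMatrix 0 4 = 0)
    (e_1_0 : T.picMatrix 1 0 = 1)
    (e_1_2 : T.picMatrix 1 2 = 0)
    (e_1_3 : T.picMatrix 1 3 = 0)
    (e_1_4 : T.picMatrix 1 4 = 0)
    (e_2_0 : T.picMatrix 2 0 = 1)
    (e_2_1 : T.picMatrix 2 1 = 0)
    (e_2_3 : T.picMatrix 2 3 = 0)
    (e_2_4 : T.picMatrix 2 4 = 1)
    (e_3_0 : T.picMatrix 3 0 = 1)
    (e_3_1 : T.picMatrix 3 1 = 0)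
    (e_3_2 : T.picMatrix 3 2 = 0)
    (e_3_4 : T.picMatrix 3 4 = 0)
    (e_4_0 : T.picMatrix 4 0 = 0)
    (e_4_1 : T.picMatrix 4 1 = 0)
    (e_4_2 : T.picMatrix 4 2 = 2)
    (e_4_3 : T.picMatrix 4 3 = 0)
    (cl : ∀ a b : Fin 6, a.val < 3 → 5 ≤ b.val → T.picMatrix a b = 0) :
    Goal T := by
  by_cases hc : ∀ b : Fin 6, 5 ≤ b.val → T.picMatrix 3 b = 0
  · exact nd_153 T hG hmax e_0_1 e_0_2 e_0_3 e_0_4 e_1_0 e_1_2 e_1_3 e_1_4 e_2_0 e_2_1 e_2_3 e_2_4 e_3_0 e_3_1 e_3_2 e_3_4 e_4_0 e_4_1 e_4_2 e_4_3 (nt_cl_succ T 5 3 3 rfl cl hc)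
  · obtain ⟨τ, hfix, cl', z, hne⟩ := nt_wlog_step T 5 (by norm_num) 3 (by norm_num) 3 (by decide) cl hc
    apply goal_relabel T τ
    refine ex_156 (ntRelabel T τ) (hG.relabel τ) ?_ ?_ ?_ ?_ ?_ ?_ ?_ ?_ ?_ ?_ ?_ ?_ ?_ ?_ ?_ ?_ ?_ ?_ ?_ ?_ ?_ cl' z hne
    · intro j
      show T.m (τ j) ≤ T.m (τ 0)
      rw [hfix 0 (by decide)]
      exact hmax _
    · show T.picMatrix (τ 0) (τ 1) = 1
      rw [hfix 0 (by decide), hfix 1 (by decide)]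
      exact e_0_1
    · show T.picMatrix (τ 0) (τ 2) = 1
      rw [hfix 0 (by decide), hfix 2 (by decide)]
      exact e_0_2
    · show T.picMatrix (τ 0) (τ 3) = 1
      rw [hfix 0 (by decide), hfix 3 (by decide)]
      exact e_0_3
    · show T.picMatrix (τ 0) (τ 4) = 0
      rw [hfix 0 (by decide), hfix 4 (by decide)]
      exact e_0_4
    · show T.picMatrix (τ 1) (τ 0) = 1
      rw [hfix 1 (by decide), hfix 0 (by decide)]
      exact e_1_0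
    · show T.picMatrix (τ 1) (τ 2) = 0
      rw [hfix 1 (by decide), hfix 2 (by decide)]
      exact e_1_2
    · show T.picMatrix (τ 1) (τ 3) = 0
      rw [hfix 1 (by decide), hfix 3 (by decide)]
      exact e_1_3
    · show T.picMatrix (τ 1) (τ 4) = 0
      rw [hfix 1 (by decide), hfix 4 (by decide)]
      exact e_1_4
    · show T.picMatrix (τ 2) (τ 0) = 1
      rw [hfix 2 (by decide), hfix 0 (by decide)]
      exact e_2_0
    · show T.picMatrix (τ 2) (τ 1) = 0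
      rw [hfix 2 (by decide), hfix 1 (by decide)]
      exact e_2_1
    · show T.picMatrix (τ 2) (τ 3) = 0
      rw [hfix 2 (by decide), hfix 3 (by decide)]
      exact e_2_3
    · show T.picMatrix (τ 2) (τ 4) = 1
      rw [hfix 2 (by decide), hfix 4 (by decide)]
      exact e_2_4
    · show T.picMatrix (τ 3) (τ 0) = 1
      rw [hfix 3 (by decide), hfix 0 (by decide)]
      exact e_3_0
    · show T.picMatrix (τ 3) (τ 1) = 0
      rw [hfix 3 (by decide), hfix 1 (by decide)]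
      exact e_3_1
    · show T.picMatrix (τ 3) (τ 2) = 0
      rw [hfix 3 (by decide), hfix 2 (by decide)]
      exact e_3_2
    · show T.picMatrix (τ 3) (τ 4) = 0
      rw [hfix 3 (by decide), hfix 4 (by decide)]
      exact e_3_4
    · show T.picMatrix (τ 4) (τ 0) = 0
      rw [hfix 4 (by decide), hfix 0 (by decide)]
      exact e_4_0
    · show T.picMatrix (τ 4) (τ 1) = 0
      rw [hfix 4 (by decide), hfix 1 (by decide)]
      exact e_4_1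
    · show T.picMatrix (τ 4) (τ 2) = 2
      rw [hfix 4 (by decide), hfix 2 (by decide)]
      exact e_4_2
    · show T.picMatrix (τ 4) (τ 3) = 0
      rw [hfix 4 (by decide), hfix 3 (by decide)]
      exact e_4_3

theorem ex_157 (T : Models.NumericalType 6)
    (hG : NTGood T)
    (hmax : ∀ j, T.m j ≤ T.m 0)
    (e_0_1 : T.picMatrix 0 1 = 1)
    (e_0_2 : T.picMatrix 0 2 = 1)
    (e_0_3 : T.picMatrix 0 3 = 1)
    (e_0_4 : T.picMatrix 0 4 = 0)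
    (e_1_0 : T.picMatrix 1 0 = 1)
    (e_1_2 : T.picMatrix 1 2 = 0)
    (e_1_3 : T.picMatrix 1 3 = 0)
    (e_1_4 : T.picMatrix 1 4 = 0)
    (e_2_0 : T.picMatrix 2 0 = 1)
    (e_2_1 : T.picMatrix 2 1 = 0)
    (e_2_3 : T.picMatrix 2 3 = 0)
    (e_2_4 : T.picMatrix 2 4 = 1)
    (e_3_0 : T.picMatrix 3 0 = 1)
    (e_3_1 : T.picMatrix 3 1 = 0)
    (e_3_2 : T.picMatrix 3 2 = 0)
    (e_3_4 : T.picMatrix 3 4 = 0)
    (e_4_0 : T.picMatrix 4 0 = 0)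
    (e_4_1 : T.picMatrix 4 1 = 0)
    (e_4_2 : T.picMatrix 4 2 = 2)
    (e_4_3 : T.picMatrix 4 3 = 0)
    (cl : ∀ a b : Fin 6, a.val < 2 → 6 ≤ b.val → T.picMatrix a b = 0)
    (z : ∀ a : Fin 6, a.val < 2 → T.picMatrix a 5 = 0)
    (hne : T.picMatrix 2 5 ≠ 0) :
    Goal T := by
  have e_0_5 : T.picMatrix 0 5 = 0 := z 0 (by decide)
  have e_5_0 : T.picMatrix 5 0 = 0 := nt_pic_zero_symm T 0 5 e_0_5
  have e_1_5 : T.picMatrix 1 5 = 0 := z 1 (by decide)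
  have e_5_1 : T.picMatrix 5 1 = 0 := nt_pic_zero_symm T 1 5 e_1_5
  obtain ⟨hg0, hdA, hdP, hnn, hrow, hsym, hpair⟩ := ntgood_data T (by norm_num) hG
  have hm_0 := T.m_pos 0
  have hw_0 := T.w_pos 0
  have hm_1 := T.m_pos 1
  have hw_1 := T.w_pos 1
  have hm_2 := T.m_pos 2
  have hw_2 := T.w_pos 2
  have hm_3 := T.m_pos 3
  have hw_3 := T.w_pos 3
  have hm_4 := T.m_pos 4
  have hw_4 := T.w_pos 4
  have hm_5 := T.m_pos 5
  have hw_5 := T.w_pos 5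
  have hx_1 := hmax 1
  have hx_2 := hmax 2
  have hx_3 := hmax 3
  have hx_4 := hmax 4
  have hx_5 := hmax 5
  have N_2_5 := mul_nonneg (hnn 2 5 (by decide)) (T.m_pos 5).le
  have N_5_2 := mul_nonneg (hnn 5 2 (by decide)) (T.m_pos 2).le
  have N_3_5 := mul_nonneg (hnn 3 5 (by decide)) (T.m_pos 5).le
  have N_5_3 := mul_nonneg (hnn 5 3 (by decide)) (T.m_pos 3).le
  have N_4_5 := mul_nonneg (hnn 4 5 (by decide)) (T.m_pos 5).le
  have N_5_4 := mul_nonneg (hnn 5 4 (by decide)) (T.m_pos 4).le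
  have R_0 := hrow 0
  rw [Fin.sum_univ_six, hdP 0, e_0_1, e_0_2, e_0_3, e_0_4, e_0_5] at R_0
  have R_1 := hrow 1
  rw [Fin.sum_univ_six, hdP 1, e_1_0, e_1_2, e_1_3, e_1_4, e_1_5] at R_1
  have R_2 := hrow 2
  rw [Fin.sum_univ_six, hdP 2, e_2_0, e_2_1, e_2_3, e_2_4] at R_2
  have R_3 := hrow 3
  rw [Fin.sum_univ_six, hdP 3, e_3_0, e_3_1, e_3_2, e_3_4] at R_3
  have R_4 := hrow 4
  rw [Fin.sum_univ_six, hdP 4, e_4_0, e_4_1, e_4_2, e_4_3] at R_4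
  have R_5 := hrow 5
  rw [Fin.sum_univ_six, hdP 5, e_5_0, e_5_1] at R_5
  have S_0_1 := hsym 0 1
  rw [e_0_1, e_1_0] at S_0_1
  have S_0_2 := hsym 0 2
  rw [e_0_2, e_2_0] at S_0_2
  have S_0_3 := hsym 0 3
  rw [e_0_3, e_3_0] at S_0_3
  have S_0_4 := hsym 0 4
  rw [e_0_4, e_4_0] at S_0_4
  have S_0_5 := hsym 0 5
  rw [e_0_5, e_5_0] at S_0_5
  have S_1_2 := hsym 1 2
  rw [e_1_2, e_2_1] at S_1_2
  have S_1_3 := hsym 1 3
  rw [e_1_3, e_3_1] at S_1_3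
  have S_1_4 := hsym 1 4
  rw [e_1_4, e_4_1] at S_1_4
  have S_1_5 := hsym 1 5
  rw [e_1_5, e_5_1] at S_1_5
  have S_2_3 := hsym 2 3
  rw [e_2_3, e_3_2] at S_2_3
  have S_2_4 := hsym 2 4
  rw [e_2_4, e_4_2] at S_2_4
  have S_2_5 := hsym 2 5
  have S_3_4 := hsym 3 4
  rw [e_3_4, e_4_3] at S_3_4
  have S_3_5 := hsym 3 5
  have S_4_5 := hsym 4 5
  have Q_2 := hpair 2 5 (by decide)
  have Q_3 := hpair 3 5 (by decide)
  have Q_4 := hpair 4 5 (by decide)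
  generalize e_2_5 : T.picMatrix 2 5 = x_2 at *
  generalize e_5_2 : T.picMatrix 5 2 = y_2 at *
  generalize e_3_5 : T.picMatrix 3 5 = x_3 at *
  generalize e_5_3 : T.picMatrix 5 3 = y_3 at *
  generalize e_4_5 : T.picMatrix 4 5 = x_4 at *
  generalize e_5_4 : T.picMatrix 5 4 = y_4 at *
  rcases Q_2 with ⟨rfl, rfl⟩ | ⟨rfl, rfl⟩ | ⟨rfl, rfl⟩ | ⟨rfl, rfl⟩ | ⟨rfl, rfl⟩ | ⟨rfl, rfl⟩ | ⟨rfl, rfl⟩ | ⟨rfl, rfl⟩ | ⟨rfl, rfl⟩
  · exact absurd rfl hne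
  · omega
  · omega
  · omega
  · omega
  · omega
  · omega
  · omega
  · omega

theorem nd_151 (T : Models.NumericalType 6)
    (hG : NTGood T)
    (hmax : ∀ j, T.m j ≤ T.m 0)
    (e_0_1 : T.picMatrix 0 1 = 1)
    (e_0_2 : T.picMatrix 0 2 = 1)
    (e_0_3 : T.picMatrix 0 3 = 1)
    (e_0_4 : T.picMatrix 0 4 = 0)
    (e_1_0 : T.picMatrix 1 0 = 1)
    (e_1_2 : T.picMatrix 1 2 = 0)
    (e_1_3 : T.picMatrix 1 3 = 0)
    (e_1_4 : T.picMatrix 1 4 = 0)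
    (e_2_0 : T.picMatrix 2 0 = 1)
    (e_2_1 : T.picMatrix 2 1 = 0)
    (e_2_3 : T.picMatrix 2 3 = 0)
    (e_2_4 : T.picMatrix 2 4 = 1)
    (e_3_0 : T.picMatrix 3 0 = 1)
    (e_3_1 : T.picMatrix 3 1 = 0)
    (e_3_2 : T.picMatrix 3 2 = 0)
    (e_3_4 : T.picMatrix 3 4 = 0)
    (e_4_0 : T.picMatrix 4 0 = 0)
    (e_4_1 : T.picMatrix 4 1 = 0)
    (e_4_2 : T.picMatrix 4 2 = 2)
    (e_4_3 : T.picMatrix 4 3 = 0)
    (cl : ∀ a b : Fin 6, a.val < 2 → 5 ≤ b.val → T.picMatrix a b = 0) :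
    Goal T := by
  by_cases hc : ∀ b : Fin 6, 5 ≤ b.val → T.picMatrix 2 b = 0
  · exact nd_152 T hG hmax e_0_1 e_0_2 e_0_3 e_0_4 e_1_0 e_1_2 e_1_3 e_1_4 e_2_0 e_2_1 e_2_3 e_2_4 e_3_0 e_3_1 e_3_2 e_3_4 e_4_0 e_4_1 e_4_2 e_4_3 (nt_cl_succ T 5 2 2 rfl cl hc)
  · obtain ⟨τ, hfix, cl', z, hne⟩ := nt_wlog_step T 5 (by norm_num) 2 (by norm_num) 2 (by decide) cl hc
    apply goal_relabel T τ
    refine ex_157 (ntRelabel T τ) (hG.relabel τ) ?_ ?_ ?_ ?_ ?_ ?_ ?_ ?_ ?_ ?_ ?_ ?_ ?_ ?_ ?_ ?_ ?_ ?_ ?_ ?_ ?_ cl' z hne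
    · intro j
      show T.m (τ j) ≤ T.m (τ 0)
      rw [hfix 0 (by decide)]
      exact hmax _
    · show T.picMatrix (τ 0) (τ 1) = 1
      rw [hfix 0 (by decide), hfix 1 (by decide)]
      exact e_0_1
    · show T.picMatrix (τ 0) (τ 2) = 1
      rw [hfix 0 (by decide), hfix 2 (by decide)]
      exact e_0_2
    · show T.picMatrix (τ 0) (τ 3) = 1
      rw [hfix 0 (by decide), hfix 3 (by decide)]
      exact e_0_3
    · show T.picMatrix (τ 0) (τ 4) = 0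
      rw [hfix 0 (by decide), hfix 4 (by decide)]
      exact e_0_4
    · show T.picMatrix (τ 1) (τ 0) = 1
      rw [hfix 1 (by decide), hfix 0 (by decide)]
      exact e_1_0
    · show T.picMatrix (τ 1) (τ 2) = 0
      rw [hfix 1 (by decide), hfix 2 (by decide)]
      exact e_1_2
    · show T.picMatrix (τ 1) (τ 3) = 0
      rw [hfix 1 (by decide), hfix 3 (by decide)]
      exact e_1_3
    · show T.picMatrix (τ 1) (τ 4) = 0
      rw [hfix 1 (by decide), hfix 4 (by decide)]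
      exact e_1_4
    · show T.picMatrix (τ 2) (τ 0) = 1
      rw [hfix 2 (by decide), hfix 0 (by decide)]
      exact e_2_0
    · show T.picMatrix (τ 2) (τ 1) = 0
      rw [hfix 2 (by decide), hfix 1 (by decide)]
      exact e_2_1
    · show T.picMatrix (τ 2) (τ 3) = 0
      rw [hfix 2 (by decide), hfix 3 (by decide)]
      exact e_2_3
    · show T.picMatrix (τ 2) (τ 4) = 1
      rw [hfix 2 (by decide), hfix 4 (by decide)]
      exact e_2_4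
    · show T.picMatrix (τ 3) (τ 0) = 1
      rw [hfix 3 (by decide), hfix 0 (by decide)]
      exact e_3_0
    · show T.picMatrix (τ 3) (τ 1) = 0
      rw [hfix 3 (by decide), hfix 1 (by decide)]
      exact e_3_1
    · show T.picMatrix (τ 3) (τ 2) = 0
      rw [hfix 3 (by decide), hfix 2 (by decide)]
      exact e_3_2
    · show T.picMatrix (τ 3) (τ 4) = 0
      rw [hfix 3 (by decide), hfix 4 (by decide)]
      exact e_3_4
    · show T.picMatrix (τ 4) (τ 0) = 0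
      rw [hfix 4 (by decide), hfix 0 (by decide)]
      exact e_4_0
    · show T.picMatrix (τ 4) (τ 1) = 0
      rw [hfix 4 (by decide), hfix 1 (by decide)]
      exact e_4_1
    · show T.picMatrix (τ 4) (τ 2) = 2
      rw [hfix 4 (by decide), hfix 2 (by decide)]
      exact e_4_2
    · show T.picMatrix (τ 4) (τ 3) = 0
      rw [hfix 4 (by decide), hfix 3 (by decide)]
      exact e_4_3

theorem nd_161 (T : Models.NumericalType 6)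
    (hG : NTGood T)
    (hmax : ∀ j, T.m j ≤ T.m 0)
    (e_0_1 : T.picMatrix 0 1 = 1)
    (e_0_2 : T.picMatrix 0 2 = 1)
    (e_0_3 : T.picMatrix 0 3 = 1)
    (e_0_4 : T.picMatrix 0 4 = 0)
    (e_1_0 : T.picMatrix 1 0 = 1)
    (e_1_2 : T.picMatrix 1 2 = 0)
    (e_1_3 : T.picMatrix 1 3 = 0)
    (e_1_4 : T.picMatrix 1 4 = 0)
    (e_2_0 : T.picMatrix 2 0 = 1)
    (e_2_1 : T.picMatrix 2 1 = 0)
    (e_2_3 : T.picMatrix 2 3 = 0)
    (e_2_4 : T.picMatrix 2 4 = 2)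
    (e_3_0 : T.picMatrix 3 0 = 1)
    (e_3_1 : T.picMatrix 3 1 = 0)
    (e_3_2 : T.picMatrix 3 2 = 0)
    (e_3_4 : T.picMatrix 3 4 = 0)
    (e_4_0 : T.picMatrix 4 0 = 0)
    (e_4_1 : T.picMatrix 4 1 = 0)
    (e_4_2 : T.picMatrix 4 2 = 1)
    (e_4_3 : T.picMatrix 4 3 = 0)
    (cl : ∀ a b : Fin 6, a.val < 5 → 5 ≤ b.val → T.picMatrix a b = 0) :
    Goal T := by
  exact (nt_closed_false T 5 (by norm_num) (by norm_num) cl).elim

theorem ex_162 (T : Models.NumericalType 6)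
    (hG : NTGood T)
    (hmax : ∀ j, T.m j ≤ T.m 0)
    (e_0_1 : T.picMatrix 0 1 = 1)
    (e_0_2 : T.picMatrix 0 2 = 1)
    (e_0_3 : T.picMatrix 0 3 = 1)
    (e_0_4 : T.picMatrix 0 4 = 0)
    (e_1_0 : T.picMatrix 1 0 = 1)
    (e_1_2 : T.picMatrix 1 2 = 0)
    (e_1_3 : T.picMatrix 1 3 = 0)
    (e_1_4 : T.picMatrix 1 4 = 0)
    (e_2_0 : T.picMatrix 2 0 = 1)
    (e_2_1 : T.picMatrix 2 1 = 0)
    (e_2_3 : T.picMatrix 2 3 = 0)
    (e_2_4 : T.picMatrix 2 4 = 2)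
    (e_3_0 : T.picMatrix 3 0 = 1)
    (e_3_1 : T.picMatrix 3 1 = 0)
    (e_3_2 : T.picMatrix 3 2 = 0)
    (e_3_4 : T.picMatrix 3 4 = 0)
    (e_4_0 : T.picMatrix 4 0 = 0)
    (e_4_1 : T.picMatrix 4 1 = 0)
    (e_4_2 : T.picMatrix 4 2 = 1)
    (e_4_3 : T.picMatrix 4 3 = 0)
    (cl : ∀ a b : Fin 6, a.val < 4 → 6 ≤ b.val → T.picMatrix a b = 0)
    (z : ∀ a : Fin 6, a.val < 4 → T.picMatrix a 5 = 0)
    (hne : T.picMatrix 4 5 ≠ 0) :
    Goal T := by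
  have e_0_5 : T.picMatrix 0 5 = 0 := z 0 (by decide)
  have e_5_0 : T.picMatrix 5 0 = 0 := nt_pic_zero_symm T 0 5 e_0_5
  have e_1_5 : T.picMatrix 1 5 = 0 := z 1 (by decide)
  have e_5_1 : T.picMatrix 5 1 = 0 := nt_pic_zero_symm T 1 5 e_1_5
  have e_2_5 : T.picMatrix 2 5 = 0 := z 2 (by decide)
  have e_5_2 : T.picMatrix 5 2 = 0 := nt_pic_zero_symm T 2 5 e_2_5
  have e_3_5 : T.picMatrix 3 5 = 0 := z 3 (by decide)
  have e_5_3 : T.picMatrix 5 3 = 0 := nt_pic_zero_symm T 3 5 e_3_5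
  obtain ⟨hg0, hdA, hdP, hnn, hrow, hsym, hpair⟩ := ntgood_data T (by norm_num) hG
  have hm_0 := T.m_pos 0
  have hw_0 := T.w_pos 0
  have hm_1 := T.m_pos 1
  have hw_1 := T.w_pos 1
  have hm_2 := T.m_pos 2
  have hw_2 := T.w_pos 2
  have hm_3 := T.m_pos 3
  have hw_3 := T.w_pos 3
  have hm_4 := T.m_pos 4
  have hw_4 := T.w_pos 4
  have hm_5 := T.m_pos 5
  have hw_5 := T.w_pos 5
  have hx_1 := hmax 1
  have hx_2 := hmax 2
  have hx_3 := hmax 3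
  have hx_4 := hmax 4
  have hx_5 := hmax 5
  have N_4_5 := mul_nonneg (hnn 4 5 (by decide)) (T.m_pos 5).le
  have N_5_4 := mul_nonneg (hnn 5 4 (by decide)) (T.m_pos 4).le
  have R_0 := hrow 0
  rw [Fin.sum_univ_six, hdP 0, e_0_1, e_0_2, e_0_3, e_0_4, e_0_5] at R_0
  have R_1 := hrow 1
  rw [Fin.sum_univ_six, hdP 1, e_1_0, e_1_2, e_1_3, e_1_4, e_1_5] at R_1
  have R_2 := hrow 2
  rw [Fin.sum_univ_six, hdP 2, e_2_0, e_2_1, e_2_3, e_2_4, e_2_5] at R_2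
  have R_3 := hrow 3
  rw [Fin.sum_univ_six, hdP 3, e_3_0, e_3_1, e_3_2, e_3_4, e_3_5] at R_3
  have R_4 := hrow 4
  rw [Fin.sum_univ_six, hdP 4, e_4_0, e_4_1, e_4_2, e_4_3] at R_4
  have R_5 := hrow 5
  rw [Fin.sum_univ_six, hdP 5, e_5_0, e_5_1, e_5_2, e_5_3] at R_5
  have S_0_1 := hsym 0 1
  rw [e_0_1, e_1_0] at S_0_1
  have S_0_2 := hsym 0 2
  rw [e_0_2, e_2_0] at S_0_2
  have S_0_3 := hsym 0 3
  rw [e_0_3, e_3_0] at S_0_3
  have S_0_4 := hsym 0 4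
  rw [e_0_4, e_4_0] at S_0_4
  have S_0_5 := hsym 0 5
  rw [e_0_5, e_5_0] at S_0_5
  have S_1_2 := hsym 1 2
  rw [e_1_2, e_2_1] at S_1_2
  have S_1_3 := hsym 1 3
  rw [e_1_3, e_3_1] at S_1_3
  have S_1_4 := hsym 1 4
  rw [e_1_4, e_4_1] at S_1_4
  have S_1_5 := hsym 1 5
  rw [e_1_5, e_5_1] at S_1_5
  have S_2_3 := hsym 2 3
  rw [e_2_3, e_3_2] at S_2_3
  have S_2_4 := hsym 2 4
  rw [e_2_4, e_4_2] at S_2_4
  have S_2_5 := hsym 2 5
  rw [e_2_5, e_5_2] at S_2_5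
  have S_3_4 := hsym 3 4
  rw [e_3_4, e_4_3] at S_3_4
  have S_3_5 := hsym 3 5
  rw [e_3_5, e_5_3] at S_3_5
  have S_4_5 := hsym 4 5
  have Q_4 := hpair 4 5 (by decide)
  generalize e_4_5 : T.picMatrix 4 5 = x_4 at *
  generalize e_5_4 : T.picMatrix 5 4 = y_4 at *
  rcases Q_4 with ⟨rfl, rfl⟩ | ⟨rfl, rfl⟩ | ⟨rfl, rfl⟩ | ⟨rfl, rfl⟩ | ⟨rfl, rfl⟩ | ⟨rfl, rfl⟩ | ⟨rfl, rfl⟩ | ⟨rfl, rfl⟩ | ⟨rfl, rfl⟩
  · exact absurd rfl hne
  · -- (4,5) = (1,1)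
    omega
  · -- (4,5) = (1,2)
    omega
  · -- (4,5) = (2,1)
    omega
  · -- (4,5) = (1,3)
    omega
  · -- (4,5) = (3,1)
    omega
  · -- (4,5) = (1,4)
    omega
  · -- (4,5) = (4,1)
    omega
  · -- (4,5) = (2,2)
    omega

theorem nd_160 (T : Models.NumericalType 6)
    (hG : NTGood T)
    (hmax : ∀ j, T.m j ≤ T.m 0)
    (e_0_1 : T.picMatrix 0 1 = 1)
    (e_0_2 : T.picMatrix 0 2 = 1)
    (e_0_3 : T.picMatrix 0 3 = 1)
    (e_0_4 : T.picMatrix 0 4 = 0)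
    (e_1_0 : T.picMatrix 1 0 = 1)
    (e_1_2 : T.picMatrix 1 2 = 0)
    (e_1_3 : T.picMatrix 1 3 = 0)
    (e_1_4 : T.picMatrix 1 4 = 0)
    (e_2_0 : T.picMatrix 2 0 = 1)
    (e_2_1 : T.picMatrix 2 1 = 0)
    (e_2_3 : T.picMatrix 2 3 = 0)
    (e_2_4 : T.picMatrix 2 4 = 2)
    (e_3_0 : T.picMatrix 3 0 = 1)
    (e_3_1 : T.picMatrix 3 1 = 0)
    (e_3_2 : T.picMatrix 3 2 = 0)
    (e_3_4 : T.picMatrix 3 4 = 0)
    (e_4_0 : T.picMatrix 4 0 = 0)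
    (e_4_1 : T.picMatrix 4 1 = 0)
    (e_4_2 : T.picMatrix 4 2 = 1)
    (e_4_3 : T.picMatrix 4 3 = 0)
    (cl : ∀ a b : Fin 6, a.val < 4 → 5 ≤ b.val → T.picMatrix a b = 0) :
    Goal T := by
  by_cases hc : ∀ b : Fin 6, 5 ≤ b.val → T.picMatrix 4 b = 0
  · exact nd_161 T hG hmax e_0_1 e_0_2 e_0_3 e_0_4 e_1_0 e_1_2 e_1_3 e_1_4 e_2_0 e_2_1 e_2_3 e_2_4 e_3_0 e_3_1 e_3_2 e_3_4 e_4_0 e_4_1 e_4_2 e_4_3 (nt_cl_succ T 5 4 4 rfl cl hc)
  · obtain ⟨τ, hfix, cl', z, hne⟩ := nt_wlog_step T 5 (by norm_num) 4 (by norm_num) 4 (by decide) cl hc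
    apply goal_relabel T τ
    refine ex_162 (ntRelabel T τ) (hG.relabel τ) ?_ ?_ ?_ ?_ ?_ ?_ ?_ ?_ ?_ ?_ ?_ ?_ ?_ ?_ ?_ ?_ ?_ ?_ ?_ ?_ ?_ cl' z hne
    · intro j
      show T.m (τ j) ≤ T.m (τ 0)
      rw [hfix 0 (by decide)]
      exact hmax _
    · show T.picMatrix (τ 0) (τ 1) = 1
      rw [hfix 0 (by decide), hfix 1 (by decide)]
      exact e_0_1
    · show T.picMatrix (τ 0) (τ 2) = 1
      rw [hfix 0 (by decide), hfix 2 (by decide)]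
      exact e_0_2
    · show T.picMatrix (τ 0) (τ 3) = 1
      rw [hfix 0 (by decide), hfix 3 (by decide)]
      exact e_0_3
    · show T.picMatrix (τ 0) (τ 4) = 0
      rw [hfix 0 (by decide), hfix 4 (by decide)]
      exact e_0_4
    · show T.picMatrix (τ 1) (τ 0) = 1
      rw [hfix 1 (by decide), hfix 0 (by decide)]
      exact e_1_0
    · show T.picMatrix (τ 1) (τ 2) = 0
      rw [hfix 1 (by decide), hfix 2 (by decide)]
      exact e_1_2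
    · show T.picMatrix (τ 1) (τ 3) = 0
      rw [hfix 1 (by decide), hfix 3 (by decide)]
      exact e_1_3
    · show T.picMatrix (τ 1) (τ 4) = 0
      rw [hfix 1 (by decide), hfix 4 (by decide)]
      exact e_1_4
    · show T.picMatrix (τ 2) (τ 0) = 1
      rw [hfix 2 (by decide), hfix 0 (by decide)]
      exact e_2_0
    · show T.picMatrix (τ 2) (τ 1) = 0
      rw [hfix 2 (by decide), hfix 1 (by decide)]
      exact e_2_1
    · show T.picMatrix (τ 2) (τ 3) = 0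
      rw [hfix 2 (by decide), hfix 3 (by decide)]
      exact e_2_3
    · show T.picMatrix (τ 2) (τ 4) = 2
      rw [hfix 2 (by decide), hfix 4 (by decide)]
      exact e_2_4
    · show T.picMatrix (τ 3) (τ 0) = 1
      rw [hfix 3 (by decide), hfix 0 (by decide)]
      exact e_3_0
    · show T.picMatrix (τ 3) (τ 1) = 0
      rw [hfix 3 (by decide), hfix 1 (by decide)]
      exact e_3_1
    · show T.picMatrix (τ 3) (τ 2) = 0
      rw [hfix 3 (by decide), hfix 2 (by decide)]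
      exact e_3_2
    · show T.picMatrix (τ 3) (τ 4) = 0
      rw [hfix 3 (by decide), hfix 4 (by decide)]
      exact e_3_4
    · show T.picMatrix (τ 4) (τ 0) = 0
      rw [hfix 4 (by decide), hfix 0 (by decide)]
      exact e_4_0
    · show T.picMatrix (τ 4) (τ 1) = 0
      rw [hfix 4 (by decide), hfix 1 (by decide)]
      exact e_4_1
    · show T.picMatrix (τ 4) (τ 2) = 1
      rw [hfix 4 (by decide), hfix 2 (by decide)]
      exact e_4_2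
    · show T.picMatrix (τ 4) (τ 3) = 0
      rw [hfix 4 (by decide), hfix 3 (by decide)]
      exact e_4_3

theorem ex_163 (T : Models.NumericalType 6)
    (hG : NTGood T)
    (hmax : ∀ j, T.m j ≤ T.m 0)
    (e_0_1 : T.picMatrix 0 1 = 1)
    (e_0_2 : T.picMatrix 0 2 = 1)
    (e_0_3 : T.picMatrix 0 3 = 1)
    (e_0_4 : T.picMatrix 0 4 = 0)
    (e_1_0 : T.picMatrix 1 0 = 1)
    (e_1_2 : T.picMatrix 1 2 = 0)
    (e_1_3 : T.picMatrix 1 3 = 0)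
    (e_1_4 : T.picMatrix 1 4 = 0)
    (e_2_0 : T.picMatrix 2 0 = 1)
    (e_2_1 : T.picMatrix 2 1 = 0)
    (e_2_3 : T.picMatrix 2 3 = 0)
    (e_2_4 : T.picMatrix 2 4 = 2)
    (e_3_0 : T.picMatrix 3 0 = 1)
    (e_3_1 : T.picMatrix 3 1 = 0)
    (e_3_2 : T.picMatrix 3 2 = 0)
    (e_3_4 : T.picMatrix 3 4 = 0)
    (e_4_0 : T.picMatrix 4 0 = 0)
    (e_4_1 : T.picMatrix 4 1 = 0)
    (e_4_2 : T.picMatrix 4 2 = 1)
    (e_4_3 : T.picMatrix 4 3 = 0)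
    (cl : ∀ a b : Fin 6, a.val < 3 → 6 ≤ b.val → T.picMatrix a b = 0)
    (z : ∀ a : Fin 6, a.val < 3 → T.picMatrix a 5 = 0)
    (hne : T.picMatrix 3 5 ≠ 0) :
    Goal T := by
  have e_0_5 : T.picMatrix 0 5 = 0 := z 0 (by decide)
  have e_5_0 : T.picMatrix 5 0 = 0 := nt_pic_zero_symm T 0 5 e_0_5
  have e_1_5 : T.picMatrix 1 5 = 0 := z 1 (by decide)
  have e_5_1 : T.picMatrix 5 1 = 0 := nt_pic_zero_symm T 1 5 e_1_5
  have e_2_5 : T.picMatrix 2 5 = 0 := z 2 (by decide)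
  have e_5_2 : T.picMatrix 5 2 = 0 := nt_pic_zero_symm T 2 5 e_2_5
  obtain ⟨hg0, hdA, hdP, hnn, hrow, hsym, hpair⟩ := ntgood_data T (by norm_num) hG
  have hm_0 := T.m_pos 0
  have hw_0 := T.w_pos 0
  have hm_1 := T.m_pos 1
  have hw_1 := T.w_pos 1
  have hm_2 := T.m_pos 2
  have hw_2 := T.w_pos 2
  have hm_3 := T.m_pos 3
  have hw_3 := T.w_pos 3
  have hm_4 := T.m_pos 4
  have hw_4 := T.w_pos 4
  have hm_5 := T.m_pos 5
  have hw_5 := T.w_pos 5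
  have hx_1 := hmax 1
  have hx_2 := hmax 2
  have hx_3 := hmax 3
  have hx_4 := hmax 4
  have hx_5 := hmax 5
  have N_3_5 := mul_nonneg (hnn 3 5 (by decide)) (T.m_pos 5).le
  have N_5_3 := mul_nonneg (hnn 5 3 (by decide)) (T.m_pos 3).le
  have N_4_5 := mul_nonneg (hnn 4 5 (by decide)) (T.m_pos 5).le
  have N_5_4 := mul_nonneg (hnn 5 4 (by decide)) (T.m_pos 4).le
  have R_0 := hrow 0
  rw [Fin.sum_univ_six, hdP 0, e_0_1, e_0_2, e_0_3, e_0_4, e_0_5] at R_0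
  have R_1 := hrow 1
  rw [Fin.sum_univ_six, hdP 1, e_1_0, e_1_2, e_1_3, e_1_4, e_1_5] at R_1
  have R_2 := hrow 2
  rw [Fin.sum_univ_six, hdP 2, e_2_0, e_2_1, e_2_3, e_2_4, e_2_5] at R_2
  have R_3 := hrow 3
  rw [Fin.sum_univ_six, hdP 3, e_3_0, e_3_1, e_3_2, e_3_4] at R_3
  have R_4 := hrow 4
  rw [Fin.sum_univ_six, hdP 4, e_4_0, e_4_1, e_4_2, e_4_3] at R_4
  have R_5 := hrow 5
  rw [Fin.sum_univ_six, hdP 5, e_5_0, e_5_1, e_5_2] at R_5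
  have S_0_1 := hsym 0 1
  rw [e_0_1, e_1_0] at S_0_1
  have S_0_2 := hsym 0 2
  rw [e_0_2, e_2_0] at S_0_2
  have S_0_3 := hsym 0 3
  rw [e_0_3, e_3_0] at S_0_3
  have S_0_4 := hsym 0 4
  rw [e_0_4, e_4_0] at S_0_4
  have S_0_5 := hsym 0 5
  rw [e_0_5, e_5_0] at S_0_5
  have S_1_2 := hsym 1 2
  rw [e_1_2, e_2_1] at S_1_2
  have S_1_3 := hsym 1 3
  rw [e_1_3, e_3_1] at S_1_3
  have S_1_4 := hsym 1 4
  rw [e_1_4, e_4_1] at S_1_4
  have S_1_5 := hsym 1 5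
  rw [e_1_5, e_5_1] at S_1_5
  have S_2_3 := hsym 2 3
  rw [e_2_3, e_3_2] at S_2_3
  have S_2_4 := hsym 2 4
  rw [e_2_4, e_4_2] at S_2_4
  have S_2_5 := hsym 2 5
  rw [e_2_5, e_5_2] at S_2_5
  have S_3_4 := hsym 3 4
  rw [e_3_4, e_4_3] at S_3_4
  have S_3_5 := hsym 3 5
  have S_4_5 := hsym 4 5
  have Q_3 := hpair 3 5 (by decide)
  have Q_4 := hpair 4 5 (by decide)
  generalize e_3_5 : T.picMatrix 3 5 = x_3 at *
  generalize e_5_3 : T.picMatrix 5 3 = y_3 at *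
  generalize e_4_5 : T.picMatrix 4 5 = x_4 at *
  generalize e_5_4 : T.picMatrix 5 4 = y_4 at *
  rcases Q_3 with ⟨rfl, rfl⟩ | ⟨rfl, rfl⟩ | ⟨rfl, rfl⟩ | ⟨rfl, rfl⟩ | ⟨rfl, rfl⟩ | ⟨rfl, rfl⟩ | ⟨rfl, rfl⟩ | ⟨rfl, rfl⟩ | ⟨rfl, rfl⟩
  · exact absurd rfl hne
  · omega
  · omega
  · omega
  · omega
  · omega
  · omega
  · omega
  · omega

theorem nd_159 (T : Models.NumericalType 6)
    (hG : NTGood T)
    (hmax : ∀ j, T.m j ≤ T.m 0)
    (e_0_1 : T.picMatrix 0 1 = 1)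
    (e_0_2 : T.picMatrix 0 2 = 1)
    (e_0_3 : T.picMatrix 0 3 = 1)
    (e_0_4 : T.picMatrix 0 4 = 0)
    (e_1_0 : T.picMatrix 1 0 = 1)
    (e_1_2 : T.picMatrix 1 2 = 0)
    (e_1_3 : T.picMatrix 1 3 = 0)
    (e_1_4 : T.picMatrix 1 4 = 0)
    (e_2_0 : T.picMatrix 2 0 = 1)
    (e_2_1 : T.picMatrix 2 1 = 0)
    (e_2_3 : T.picMatrix 2 3 = 0)
    (e_2_4 : T.picMatrix 2 4 = 2)
    (e_3_0 : T.picMatrix 3 0 = 1)
    (e_3_1 : T.picMatrix 3 1 = 0)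
    (e_3_2 : T.picMatrix 3 2 = 0)
    (e_3_4 : T.picMatrix 3 4 = 0)
    (e_4_0 : T.picMatrix 4 0 = 0)
    (e_4_1 : T.picMatrix 4 1 = 0)
    (e_4_2 : T.picMatrix 4 2 = 1)
    (e_4_3 : T.picMatrix 4 3 = 0)
    (cl : ∀ a b : Fin 6, a.val < 3 → 5 ≤ b.val → T.picMatrix a b = 0) :
    Goal T := by
  by_cases hc : ∀ b : Fin 6, 5 ≤ b.val → T.picMatrix 3 b = 0
  · exact nd_160 T hG hmax e_0_1 e_0_2 e_0_3 e_0_4 e_1_0 e_1_2 e_1_3 e_1_4 e_2_0 e_2_1 e_2_3 e_2_4 e_3_0 e_3_1 e_3_2 e_3_4 e_4_0 e_4_1 e_4_2 e_4_3 (nt_cl_succ T 5 3 3 rfl cl hc)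
  · obtain ⟨τ, hfix, cl', z, hne⟩ := nt_wlog_step T 5 (by norm_num) 3 (by norm_num) 3 (by decide) cl hc
    apply goal_relabel T τ
    refine ex_163 (ntRelabel T τ) (hG.relabel τ) ?_ ?_ ?_ ?_ ?_ ?_ ?_ ?_ ?_ ?_ ?_ ?_ ?_ ?_ ?_ ?_ ?_ ?_ ?_ ?_ ?_ cl' z hne
    · intro j
      show T.m (τ j) ≤ T.m (τ 0)
      rw [hfix 0 (by decide)]
      exact hmax _
    · show T.picMatrix (τ 0) (τ 1) = 1
      rw [hfix 0 (by decide), hfix 1 (by decide)]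
      exact e_0_1
    · show T.picMatrix (τ 0) (τ 2) = 1
      rw [hfix 0 (by decide), hfix 2 (by decide)]
      exact e_0_2
    · show T.picMatrix (τ 0) (τ 3) = 1
      rw [hfix 0 (by decide), hfix 3 (by decide)]
      exact e_0_3
    · show T.picMatrix (τ 0) (τ 4) = 0
      rw [hfix 0 (by decide), hfix 4 (by decide)]
      exact e_0_4
    · show T.picMatrix (τ 1) (τ 0) = 1
      rw [hfix 1 (by decide), hfix 0 (by decide)]
      exact e_1_0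
    · show T.picMatrix (τ 1) (τ 2) = 0
      rw [hfix 1 (by decide), hfix 2 (by decide)]
      exact e_1_2
    · show T.picMatrix (τ 1) (τ 3) = 0
      rw [hfix 1 (by decide), hfix 3 (by decide)]
      exact e_1_3
    · show T.picMatrix (τ 1) (τ 4) = 0
      rw [hfix 1 (by decide), hfix 4 (by decide)]
      exact e_1_4
    · show T.picMatrix (τ 2) (τ 0) = 1
      rw [hfix 2 (by decide), hfix 0 (by decide)]
      exact e_2_0
    · show T.picMatrix (τ 2) (τ 1) = 0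
      rw [hfix 2 (by decide), hfix 1 (by decide)]
      exact e_2_1
    · show T.picMatrix (τ 2) (τ 3) = 0
      rw [hfix 2 (by decide), hfix 3 (by decide)]
      exact e_2_3
    · show T.picMatrix (τ 2) (τ 4) = 2
      rw [hfix 2 (by decide), hfix 4 (by decide)]
      exact e_2_4
    · show T.picMatrix (τ 3) (τ 0) = 1
      rw [hfix 3 (by decide), hfix 0 (by decide)]
      exact e_3_0
    · show T.picMatrix (τ 3) (τ 1) = 0
      rw [hfix 3 (by decide), hfix 1 (by decide)]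
      exact e_3_1
    · show T.picMatrix (τ 3) (τ 2) = 0
      rw [hfix 3 (by decide), hfix 2 (by decide)]
      exact e_3_2
    · show T.picMatrix (τ 3) (τ 4) = 0
      rw [hfix 3 (by decide), hfix 4 (by decide)]
      exact e_3_4
    · show T.picMatrix (τ 4) (τ 0) = 0
      rw [hfix 4 (by decide), hfix 0 (by decide)]
      exact e_4_0
    · show T.picMatrix (τ 4) (τ 1) = 0
      rw [hfix 4 (by decide), hfix 1 (by decide)]
      exact e_4_1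
    · show T.picMatrix (τ 4) (τ 2) = 1
      rw [hfix 4 (by decide), hfix 2 (by decide)]
      exact e_4_2
    · show T.picMatrix (τ 4) (τ 3) = 0
      rw [hfix 4 (by decide), hfix 3 (by decide)]
      exact e_4_3

theorem ex_164 (T : Models.NumericalType 6)
    (hG : NTGood T)
    (hmax : ∀ j, T.m j ≤ T.m 0)
    (e_0_1 : T.picMatrix 0 1 = 1)
    (e_0_2 : T.picMatrix 0 2 = 1)
    (e_0_3 : T.picMatrix 0 3 = 1)
    (e_0_4 : T.picMatrix 0 4 = 0)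
    (e_1_0 : T.picMatrix 1 0 = 1)
    (e_1_2 : T.picMatrix 1 2 = 0)
    (e_1_3 : T.picMatrix 1 3 = 0)
    (e_1_4 : T.picMatrix 1 4 = 0)
    (e_2_0 : T.picMatrix 2 0 = 1)
    (e_2_1 : T.picMatrix 2 1 = 0)
    (e_2_3 : T.picMatrix 2 3 = 0)
    (e_2_4 : T.picMatrix 2 4 = 2)
    (e_3_0 : T.picMatrix 3 0 = 1)
    (e_3_1 : T.picMatrix 3 1 = 0)
    (e_3_2 : T.picMatrix 3 2 = 0)
    (e_3_4 : T.picMatrix 3 4 = 0)
    (e_4_0 : T.picMatrix 4 0 = 0)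
    (e_4_1 : T.picMatrix 4 1 = 0)
    (e_4_2 : T.picMatrix 4 2 = 1)
    (e_4_3 : T.picMatrix 4 3 = 0)
    (cl : ∀ a b : Fin 6, a.val < 2 → 6 ≤ b.val → T.picMatrix a b = 0)
    (z : ∀ a : Fin 6, a.val < 2 → T.picMatrix a 5 = 0)
    (hne : T.picMatrix 2 5 ≠ 0) :
    Goal T := by
  have e_0_5 : T.picMatrix 0 5 = 0 := z 0 (by decide)
  have e_5_0 : T.picMatrix 5 0 = 0 := nt_pic_zero_symm T 0 5 e_0_5
  have e_1_5 : T.picMatrix 1 5 = 0 := z 1 (by decide)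
  have e_5_1 : T.picMatrix 5 1 = 0 := nt_pic_zero_symm T 1 5 e_1_5
  obtain ⟨hg0, hdA, hdP, hnn, hrow, hsym, hpair⟩ := ntgood_data T (by norm_num) hG
  have hm_0 := T.m_pos 0
  have hw_0 := T.w_pos 0
  have hm_1 := T.m_pos 1
  have hw_1 := T.w_pos 1
  have hm_2 := T.m_pos 2
  have hw_2 := T.w_pos 2
  have hm_3 := T.m_pos 3
  have hw_3 := T.w_pos 3
  have hm_4 := T.m_pos 4
  have hw_4 := T.w_pos 4
  have hm_5 := T.m_pos 5
  have hw_5 := T.w_pos 5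
  have hx_1 := hmax 1
  have hx_2 := hmax 2
  have hx_3 := hmax 3
  have hx_4 := hmax 4
  have hx_5 := hmax 5
  have N_2_5 := mul_nonneg (hnn 2 5 (by decide)) (T.m_pos 5).le
  have N_5_2 := mul_nonneg (hnn 5 2 (by decide)) (T.m_pos 2).le
  have N_3_5 := mul_nonneg (hnn 3 5 (by decide)) (T.m_pos 5).le
  have N_5_3 := mul_nonneg (hnn 5 3 (by decide)) (T.m_pos 3).le
  have N_4_5 := mul_nonneg (hnn 4 5 (by decide)) (T.m_pos 5).le
  have N_5_4 := mul_nonneg (hnn 5 4 (by decide)) (T.m_pos 4).le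
  have R_0 := hrow 0
  rw [Fin.sum_univ_six, hdP 0, e_0_1, e_0_2, e_0_3, e_0_4, e_0_5] at R_0
  have R_1 := hrow 1
  rw [Fin.sum_univ_six, hdP 1, e_1_0, e_1_2, e_1_3, e_1_4, e_1_5] at R_1
  have R_2 := hrow 2
  rw [Fin.sum_univ_six, hdP 2, e_2_0, e_2_1, e_2_3, e_2_4] at R_2
  have R_3 := hrow 3
  rw [Fin.sum_univ_six, hdP 3, e_3_0, e_3_1, e_3_2, e_3_4] at R_3
  have R_4 := hrow 4
  rw [Fin.sum_univ_six, hdP 4, e_4_0, e_4_1, e_4_2, e_4_3] at R_4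
  have R_5 := hrow 5
  rw [Fin.sum_univ_six, hdP 5, e_5_0, e_5_1] at R_5
  have S_0_1 := hsym 0 1
  rw [e_0_1, e_1_0] at S_0_1
  have S_0_2 := hsym 0 2
  rw [e_0_2, e_2_0] at S_0_2
  have S_0_3 := hsym 0 3
  rw [e_0_3, e_3_0] at S_0_3
  have S_0_4 := hsym 0 4
  rw [e_0_4, e_4_0] at S_0_4
  have S_0_5 := hsym 0 5
  rw [e_0_5, e_5_0] at S_0_5
  have S_1_2 := hsym 1 2
  rw [e_1_2, e_2_1] at S_1_2
  have S_1_3 := hsym 1 3
  rw [e_1_3, e_3_1] at S_1_3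
  have S_1_4 := hsym 1 4
  rw [e_1_4, e_4_1] at S_1_4
  have S_1_5 := hsym 1 5
  rw [e_1_5, e_5_1] at S_1_5
  have S_2_3 := hsym 2 3
  rw [e_2_3, e_3_2] at S_2_3
  have S_2_4 := hsym 2 4
  rw [e_2_4, e_4_2] at S_2_4
  have S_2_5 := hsym 2 5
  have S_3_4 := hsym 3 4
  rw [e_3_4, e_4_3] at S_3_4
  have S_3_5 := hsym 3 5
  have S_4_5 := hsym 4 5
  have Q_2 := hpair 2 5 (by decide)
  have Q_3 := hpair 3 5 (by decide)
  have Q_4 := hpair 4 5 (by decide)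
  generalize e_2_5 : T.picMatrix 2 5 = x_2 at *
  generalize e_5_2 : T.picMatrix 5 2 = y_2 at *
  generalize e_3_5 : T.picMatrix 3 5 = x_3 at *
  generalize e_5_3 : T.picMatrix 5 3 = y_3 at *
  generalize e_4_5 : T.picMatrix 4 5 = x_4 at *
  generalize e_5_4 : T.picMatrix 5 4 = y_4 at *
  rcases Q_2 with ⟨rfl, rfl⟩ | ⟨rfl, rfl⟩ | ⟨rfl, rfl⟩ | ⟨rfl, rfl⟩ | ⟨rfl, rfl⟩ | ⟨rfl, rfl⟩ | ⟨rfl, rfl⟩ | ⟨rfl, rfl⟩ | ⟨rfl, rfl⟩
  · exact absurd rfl hne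
  · omega
  · omega
  · omega
  · omega
  · omega
  · omega
  · omega
  · omega

theorem nd_158 (T : Models.NumericalType 6)
    (hG : NTGood T)
    (hmax : ∀ j, T.m j ≤ T.m 0)
    (e_0_1 : T.picMatrix 0 1 = 1)
    (e_0_2 : T.picMatrix 0 2 = 1)
    (e_0_3 : T.picMatrix 0 3 = 1)
    (e_0_4 : T.picMatrix 0 4 = 0)
    (e_1_0 : T.picMatrix 1 0 = 1)
    (e_1_2 : T.picMatrix 1 2 = 0)
    (e_1_3 : T.picMatrix 1 3 = 0)
    (e_1_4 : T.picMatrix 1 4 = 0)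
    (e_2_0 : T.picMatrix 2 0 = 1)
    (e_2_1 : T.picMatrix 2 1 = 0)
    (e_2_3 : T.picMatrix 2 3 = 0)
    (e_2_4 : T.picMatrix 2 4 = 2)
    (e_3_0 : T.picMatrix 3 0 = 1)
    (e_3_1 : T.picMatrix 3 1 = 0)
    (e_3_2 : T.picMatrix 3 2 = 0)
    (e_3_4 : T.picMatrix 3 4 = 0)
    (e_4_0 : T.picMatrix 4 0 = 0)
    (e_4_1 : T.picMatrix 4 1 = 0)
    (e_4_2 : T.picMatrix 4 2 = 1)
    (e_4_3 : T.picMatrix 4 3 = 0)
    (cl : ∀ a b : Fin 6, a.val < 2 → 5 ≤ b.val → T.picMatrix a b = 0) :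
    Goal T := by
  by_cases hc : ∀ b : Fin 6, 5 ≤ b.val → T.picMatrix 2 b = 0
  · exact nd_159 T hG hmax e_0_1 e_0_2 e_0_3 e_0_4 e_1_0 e_1_2 e_1_3 e_1_4 e_2_0 e_2_1 e_2_3 e_2_4 e_3_0 e_3_1 e_3_2 e_3_4 e_4_0 e_4_1 e_4_2 e_4_3 (nt_cl_succ T 5 2 2 rfl cl hc)
  · obtain ⟨τ, hfix, cl', z, hne⟩ := nt_wlog_step T 5 (by norm_num) 2 (by norm_num) 2 (by decide) cl hc
    apply goal_relabel T τ
    refine ex_164 (ntRelabel T τ) (hG.relabel τ) ?_ ?_ ?_ ?_ ?_ ?_ ?_ ?_ ?_ ?_ ?_ ?_ ?_ ?_ ?_ ?_ ?_ ?_ ?_ ?_ ?_ cl' z hne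
    · intro j
      show T.m (τ j) ≤ T.m (τ 0)
      rw [hfix 0 (by decide)]
      exact hmax _
    · show T.picMatrix (τ 0) (τ 1) = 1
      rw [hfix 0 (by decide), hfix 1 (by decide)]
      exact e_0_1
    · show T.picMatrix (τ 0) (τ 2) = 1
      rw [hfix 0 (by decide), hfix 2 (by decide)]
      exact e_0_2
    · show T.picMatrix (τ 0) (τ 3) = 1
      rw [hfix 0 (by decide), hfix 3 (by decide)]
      exact e_0_3
    · show T.picMatrix (τ 0) (τ 4) = 0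
      rw [hfix 0 (by decide), hfix 4 (by decide)]
      exact e_0_4
    · show T.picMatrix (τ 1) (τ 0) = 1
      rw [hfix 1 (by decide), hfix 0 (by decide)]
      exact e_1_0
    · show T.picMatrix (τ 1) (τ 2) = 0
      rw [hfix 1 (by decide), hfix 2 (by decide)]
      exact e_1_2
    · show T.picMatrix (τ 1) (τ 3) = 0
      rw [hfix 1 (by decide), hfix 3 (by decide)]
      exact e_1_3
    · show T.picMatrix (τ 1) (τ 4) = 0
      rw [hfix 1 (by decide), hfix 4 (by decide)]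
      exact e_1_4
    · show T.picMatrix (τ 2) (τ 0) = 1
      rw [hfix 2 (by decide), hfix 0 (by decide)]
      exact e_2_0
    · show T.picMatrix (τ 2) (τ 1) = 0
      rw [hfix 2 (by decide), hfix 1 (by decide)]
      exact e_2_1
    · show T.picMatrix (τ 2) (τ 3) = 0
      rw [hfix 2 (by decide), hfix 3 (by decide)]
      exact e_2_3
    · show T.picMatrix (τ 2) (τ 4) = 2
      rw [hfix 2 (by decide), hfix 4 (by decide)]
      exact e_2_4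
    · show T.picMatrix (τ 3) (τ 0) = 1
      rw [hfix 3 (by decide), hfix 0 (by decide)]
      exact e_3_0
    · show T.picMatrix (τ 3) (τ 1) = 0
      rw [hfix 3 (by decide), hfix 1 (by decide)]
      exact e_3_1
    · show T.picMatrix (τ 3) (τ 2) = 0
      rw [hfix 3 (by decide), hfix 2 (by decide)]
      exact e_3_2
    · show T.picMatrix (τ 3) (τ 4) = 0
      rw [hfix 3 (by decide), hfix 4 (by decide)]
      exact e_3_4
    · show T.picMatrix (τ 4) (τ 0) = 0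
      rw [hfix 4 (by decide), hfix 0 (by decide)]
      exact e_4_0
    · show T.picMatrix (τ 4) (τ 1) = 0
      rw [hfix 4 (by decide), hfix 1 (by decide)]
      exact e_4_1
    · show T.picMatrix (τ 4) (τ 2) = 1
      rw [hfix 4 (by decide), hfix 2 (by decide)]
      exact e_4_2
    · show T.picMatrix (τ 4) (τ 3) = 0
      rw [hfix 4 (by decide), hfix 3 (by decide)]
      exact e_4_3

theorem ex_140 (T : Models.NumericalType 6)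
    (hG : NTGood T)
    (hmax : ∀ j, T.m j ≤ T.m 0)
    (e_0_1 : T.picMatrix 0 1 = 1)
    (e_0_2 : T.picMatrix 0 2 = 1)
    (e_0_3 : T.picMatrix 0 3 = 1)
    (e_1_0 : T.picMatrix 1 0 = 1)
    (e_1_2 : T.picMatrix 1 2 = 0)
    (e_1_3 : T.picMatrix 1 3 = 0)
    (e_2_0 : T.picMatrix 2 0 = 1)
    (e_2_1 : T.picMatrix 2 1 = 0)
    (e_2_3 : T.picMatrix 2 3 = 0)
    (e_3_0 : T.picMatrix 3 0 = 1)
    (e_3_1 : T.picMatrix 3 1 = 0)
    (e_3_2 : T.picMatrix 3 2 = 0)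
    (cl : ∀ a b : Fin 6, a.val < 2 → 5 ≤ b.val → T.picMatrix a b = 0)
    (z : ∀ a : Fin 6, a.val < 2 → T.picMatrix a 4 = 0)
    (hne : T.picMatrix 2 4 ≠ 0) :
    Goal T := by
  have e_0_4 : T.picMatrix 0 4 = 0 := z 0 (by decide)
  have e_4_0 : T.picMatrix 4 0 = 0 := nt_pic_zero_symm T 0 4 e_0_4
  have e_1_4 : T.picMatrix 1 4 = 0 := z 1 (by decide)
  have e_4_1 : T.picMatrix 4 1 = 0 := nt_pic_zero_symm T 1 4 e_1_4
  obtain ⟨hg0, hdA, hdP, hnn, hrow, hsym, hpair⟩ := ntgood_data T (by norm_num) hG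
  have hm_0 := T.m_pos 0
  have hw_0 := T.w_pos 0
  have hm_1 := T.m_pos 1
  have hw_1 := T.w_pos 1
  have hm_2 := T.m_pos 2
  have hw_2 := T.w_pos 2
  have hm_3 := T.m_pos 3
  have hw_3 := T.w_pos 3
  have hm_4 := T.m_pos 4
  have hw_4 := T.w_pos 4
  have hx_1 := hmax 1
  have hx_2 := hmax 2
  have hx_3 := hmax 3
  have hx_4 := hmax 4
  have Z_0_5 := cl 0 5 (by decide) (by decide)
  have Z_1_5 := cl 1 5 (by decide) (by decide)
  have N_2_5 := mul_nonneg (hnn 2 5 (by decide)) (T.m_pos 5).le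
  have N_3_5 := mul_nonneg (hnn 3 5 (by decide)) (T.m_pos 5).le
  have N_4_5 := mul_nonneg (hnn 4 5 (by decide)) (T.m_pos 5).le
  have N_2_4 := mul_nonneg (hnn 2 4 (by decide)) (T.m_pos 4).le
  have N_4_2 := mul_nonneg (hnn 4 2 (by decide)) (T.m_pos 2).le
  have N_3_4 := mul_nonneg (hnn 3 4 (by decide)) (T.m_pos 4).le
  have N_4_3 := mul_nonneg (hnn 4 3 (by decide)) (T.m_pos 3).le
  have R_0 := hrow 0
  rw [Fin.sum_univ_six, hdP 0, e_0_1, e_0_2, e_0_3, e_0_4, Z_0_5] at R_0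
  have R_1 := hrow 1
  rw [Fin.sum_univ_six, hdP 1, e_1_0, e_1_2, e_1_3, e_1_4, Z_1_5] at R_1
  have R_2 := hrow 2
  rw [Fin.sum_univ_six, hdP 2, e_2_0, e_2_1, e_2_3] at R_2
  have R_3 := hrow 3
  rw [Fin.sum_univ_six, hdP 3, e_3_0, e_3_1, e_3_2] at R_3
  have R_4 := hrow 4
  rw [Fin.sum_univ_six, hdP 4, e_4_0, e_4_1] at R_4
  have S_0_1 := hsym 0 1
  rw [e_0_1, e_1_0] at S_0_1
  have S_0_2 := hsym 0 2
  rw [e_0_2, e_2_0] at S_0_2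
  have S_0_3 := hsym 0 3
  rw [e_0_3, e_3_0] at S_0_3
  have S_0_4 := hsym 0 4
  rw [e_0_4, e_4_0] at S_0_4
  have S_1_2 := hsym 1 2
  rw [e_1_2, e_2_1] at S_1_2
  have S_1_3 := hsym 1 3
  rw [e_1_3, e_3_1] at S_1_3
  have S_1_4 := hsym 1 4
  rw [e_1_4, e_4_1] at S_1_4
  have S_2_3 := hsym 2 3
  rw [e_2_3, e_3_2] at S_2_3
  have S_2_4 := hsym 2 4
  have S_3_4 := hsym 3 4
  have Q_2 := hpair 2 4 (by decide)
  have Q_3 := hpair 3 4 (by decide)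
  generalize e_2_4 : T.picMatrix 2 4 = x_2 at *
  generalize e_4_2 : T.picMatrix 4 2 = y_2 at *
  generalize e_3_4 : T.picMatrix 3 4 = x_3 at *
  generalize e_4_3 : T.picMatrix 4 3 = y_3 at *
  rcases Q_2 with ⟨rfl, rfl⟩ | ⟨rfl, rfl⟩ | ⟨rfl, rfl⟩ | ⟨rfl, rfl⟩ | ⟨rfl, rfl⟩ | ⟨rfl, rfl⟩ | ⟨rfl, rfl⟩ | ⟨rfl, rfl⟩ | ⟨rfl, rfl⟩
  · exact absurd rfl hne
  · -- (2,4) = (1,1)
    rcases Q_3 with ⟨rfl, rfl⟩ | ⟨rfl, rfl⟩ | ⟨rfl, rfl⟩ | ⟨rfl, rfl⟩ | ⟨rfl, rfl⟩ | ⟨rfl, rfl⟩ | ⟨rfl, rfl⟩ | ⟨rfl, rfl⟩ | ⟨rfl, rfl⟩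
    · -- (3,4) = (0,0)
      exact nd_141 T hG hmax e_0_1 e_0_2 e_0_3 e_0_4 e_1_0 e_1_2 e_1_3 e_1_4 e_2_0 e_2_1 e_2_3 e_2_4 e_3_0 e_3_1 e_3_2 e_3_4 e_4_0 e_4_1 e_4_2 e_4_3 cl
    · -- (3,4) = (1,1)
      omega
    · -- (3,4) = (1,2)
      omega
    · -- (3,4) = (2,1)
      omega
    · -- (3,4) = (1,3)
      omega
    · -- (3,4) = (3,1)
      omega
    · -- (3,4) = (1,4)
      omega
    · -- (3,4) = (4,1)
      omega
    · -- (3,4) = (2,2)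
      omega
  · -- (2,4) = (1,2)
    rcases Q_3 with ⟨rfl, rfl⟩ | ⟨rfl, rfl⟩ | ⟨rfl, rfl⟩ | ⟨rfl, rfl⟩ | ⟨rfl, rfl⟩ | ⟨rfl, rfl⟩ | ⟨rfl, rfl⟩ | ⟨rfl, rfl⟩ | ⟨rfl, rfl⟩
    · -- (3,4) = (0,0)
      exact nd_151 T hG hmax e_0_1 e_0_2 e_0_3 e_0_4 e_1_0 e_1_2 e_1_3 e_1_4 e_2_0 e_2_1 e_2_3 e_2_4 e_3_0 e_3_1 e_3_2 e_3_4 e_4_0 e_4_1 e_4_2 e_4_3 cl
    · -- (3,4) = (1,1)
      omega
    · -- (3,4) = (1,2)
      omega
    · -- (3,4) = (2,1)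
      omega
    · -- (3,4) = (1,3)
      omega
    · -- (3,4) = (3,1)
      omega
    · -- (3,4) = (1,4)
      omega
    · -- (3,4) = (4,1)
      omega
    · -- (3,4) = (2,2)
      omega
  · -- (2,4) = (2,1)
    rcases Q_3 with ⟨rfl, rfl⟩ | ⟨rfl, rfl⟩ | ⟨rfl, rfl⟩ | ⟨rfl, rfl⟩ | ⟨rfl, rfl⟩ | ⟨rfl, rfl⟩ | ⟨rfl, rfl⟩ | ⟨rfl, rfl⟩ | ⟨rfl, rfl⟩
    · -- (3,4) = (0,0)
      exact nd_158 T hG hmax e_0_1 e_0_2 e_0_3 e_0_4 e_1_0 e_1_2 e_1_3 e_1_4 e_2_0 e_2_1 e_2_3 e_2_4 e_3_0 e_3_1 e_3_2 e_3_4 e_4_0 e_4_1 e_4_2 e_4_3 cl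
    · -- (3,4) = (1,1)
      omega
    · -- (3,4) = (1,2)
      omega
    · -- (3,4) = (2,1)
      omega
    · -- (3,4) = (1,3)
      omega
    · -- (3,4) = (3,1)
      omega
    · -- (3,4) = (1,4)
      omega
    · -- (3,4) = (4,1)
      omega
    · -- (3,4) = (2,2)
      omega
  · omega
  · omega
  · omega
  · omega
  · omega

theorem nd_118 (T : Models.NumericalType 6)
    (hG : NTGood T)
    (hmax : ∀ j, T.m j ≤ T.m 0)
    (e_0_1 : T.picMatrix 0 1 = 1)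
    (e_0_2 : T.picMatrix 0 2 = 1)
    (e_0_3 : T.picMatrix 0 3 = 1)
    (e_1_0 : T.picMatrix 1 0 = 1)
    (e_1_2 : T.picMatrix 1 2 = 0)
    (e_1_3 : T.picMatrix 1 3 = 0)
    (e_2_0 : T.picMatrix 2 0 = 1)
    (e_2_1 : T.picMatrix 2 1 = 0)
    (e_2_3 : T.picMatrix 2 3 = 0)
    (e_3_0 : T.picMatrix 3 0 = 1)
    (e_3_1 : T.picMatrix 3 1 = 0)
    (e_3_2 : T.picMatrix 3 2 = 0)
    (cl : ∀ a b : Fin 6, a.val < 2 → 4 ≤ b.val → T.picMatrix a b = 0) :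
    Goal T := by
  by_cases hc : ∀ b : Fin 6, 4 ≤ b.val → T.picMatrix 2 b = 0
  · exact nd_119 T hG hmax e_0_1 e_0_2 e_0_3 e_1_0 e_1_2 e_1_3 e_2_0 e_2_1 e_2_3 e_3_0 e_3_1 e_3_2 (nt_cl_succ T 4 2 2 rfl cl hc)
  · obtain ⟨τ, hfix, cl', z, hne⟩ := nt_wlog_step T 4 (by norm_num) 2 (by norm_num) 2 (by decide) cl hc
    apply goal_relabel T τ
    refine ex_140 (ntRelabel T τ) (hG.relabel τ) ?_ ?_ ?_ ?_ ?_ ?_ ?_ ?_ ?_ ?_ ?_ ?_ ?_ cl' z hne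
    · intro j
      show T.m (τ j) ≤ T.m (τ 0)
      rw [hfix 0 (by decide)]
      exact hmax _
    · show T.picMatrix (τ 0) (τ 1) = 1
      rw [hfix 0 (by decide), hfix 1 (by decide)]
      exact e_0_1
    · show T.picMatrix (τ 0) (τ 2) = 1
      rw [hfix 0 (by decide), hfix 2 (by decide)]
      exact e_0_2
    · show T.picMatrix (τ 0) (τ 3) = 1
      rw [hfix 0 (by decide), hfix 3 (by decide)]
      exact e_0_3
    · show T.picMatrix (τ 1) (τ 0) = 1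
      rw [hfix 1 (by decide), hfix 0 (by decide)]
      exact e_1_0
    · show T.picMatrix (τ 1) (τ 2) = 0
      rw [hfix 1 (by decide), hfix 2 (by decide)]
      exact e_1_2
    · show T.picMatrix (τ 1) (τ 3) = 0
      rw [hfix 1 (by decide), hfix 3 (by decide)]
      exact e_1_3
    · show T.picMatrix (τ 2) (τ 0) = 1
      rw [hfix 2 (by decide), hfix 0 (by decide)]
      exact e_2_0
    · show T.picMatrix (τ 2) (τ 1) = 0
      rw [hfix 2 (by decide), hfix 1 (by decide)]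
      exact e_2_1
    · show T.picMatrix (τ 2) (τ 3) = 0
      rw [hfix 2 (by decide), hfix 3 (by decide)]
      exact e_2_3
    · show T.picMatrix (τ 3) (τ 0) = 1
      rw [hfix 3 (by decide), hfix 0 (by decide)]
      exact e_3_0
    · show T.picMatrix (τ 3) (τ 1) = 0
      rw [hfix 3 (by decide), hfix 1 (by decide)]
      exact e_3_1
    · show T.picMatrix (τ 3) (τ 2) = 0
      rw [hfix 3 (by decide), hfix 2 (by decide)]
      exact e_3_2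

theorem nd_170 (T : Models.NumericalType 6)
    (hG : NTGood T)
    (hmax : ∀ j, T.m j ≤ T.m 0)
    (e_0_1 : T.picMatrix 0 1 = 1)
    (e_0_2 : T.picMatrix 0 2 = 1)
    (e_0_3 : T.picMatrix 0 3 = 1)
    (e_0_4 : T.picMatrix 0 4 = 0)
    (e_1_0 : T.picMatrix 1 0 = 1)
    (e_1_2 : T.picMatrix 1 2 = 0)
    (e_1_3 : T.picMatrix 1 3 = 0)
    (e_1_4 : T.picMatrix 1 4 = 1)
    (e_2_0 : T.picMatrix 2 0 = 1)
    (e_2_1 : T.picMatrix 2 1 = 0)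
    (e_2_3 : T.picMatrix 2 3 = 0)
    (e_2_4 : T.picMatrix 2 4 = 0)
    (e_3_0 : T.picMatrix 3 0 = 1)
    (e_3_1 : T.picMatrix 3 1 = 0)
    (e_3_2 : T.picMatrix 3 2 = 0)
    (e_3_4 : T.picMatrix 3 4 = 0)
    (e_4_0 : T.picMatrix 4 0 = 0)
    (e_4_1 : T.picMatrix 4 1 = 1)
    (e_4_2 : T.picMatrix 4 2 = 0)
    (e_4_3 : T.picMatrix 4 3 = 0)
    (cl : ∀ a b : Fin 6, a.val < 5 → 5 ≤ b.val → T.picMatrix a b = 0) :
    Goal T := by
  obtain ⟨hg0, hdA, hdP, hnn, hrow, hsym, hpair⟩ := ntgood_data T (by norm_num) hG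
  have hm_0 := T.m_pos 0
  have hw_0 := T.w_pos 0
  have hm_1 := T.m_pos 1
  have hw_1 := T.w_pos 1
  have hm_2 := T.m_pos 2
  have hw_2 := T.w_pos 2
  have hm_3 := T.m_pos 3
  have hw_3 := T.w_pos 3
  have hm_4 := T.m_pos 4
  have hw_4 := T.w_pos 4
  have hx_1 := hmax 1
  have hx_2 := hmax 2
  have hx_3 := hmax 3
  have hx_4 := hmax 4
  have Z_0_5 := cl 0 5 (by decide) (by decide)
  have Z_1_5 := cl 1 5 (by decide) (by decide)
  have Z_2_5 := cl 2 5 (by decide) (by decide)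
  have Z_3_5 := cl 3 5 (by decide) (by decide)
  have Z_4_5 := cl 4 5 (by decide) (by decide)
  have R_0 := hrow 0
  rw [Fin.sum_univ_six, hdP 0, e_0_1, e_0_2, e_0_3, e_0_4, Z_0_5] at R_0
  have R_1 := hrow 1
  rw [Fin.sum_univ_six, hdP 1, e_1_0, e_1_2, e_1_3, e_1_4, Z_1_5] at R_1
  have R_2 := hrow 2
  rw [Fin.sum_univ_six, hdP 2, e_2_0, e_2_1, e_2_3, e_2_4, Z_2_5] at R_2
  have R_3 := hrow 3
  rw [Fin.sum_univ_six, hdP 3, e_3_0, e_3_1, e_3_2, e_3_4, Z_3_5] at R_3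
  have R_4 := hrow 4
  rw [Fin.sum_univ_six, hdP 4, e_4_0, e_4_1, e_4_2, e_4_3, Z_4_5] at R_4
  have S_0_1 := hsym 0 1
  rw [e_0_1, e_1_0] at S_0_1
  have S_0_2 := hsym 0 2
  rw [e_0_2, e_2_0] at S_0_2
  have S_0_3 := hsym 0 3
  rw [e_0_3, e_3_0] at S_0_3
  have S_0_4 := hsym 0 4
  rw [e_0_4, e_4_0] at S_0_4
  have S_1_2 := hsym 1 2
  rw [e_1_2, e_2_1] at S_1_2
  have S_1_3 := hsym 1 3
  rw [e_1_3, e_3_1] at S_1_3
  have S_1_4 := hsym 1 4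
  rw [e_1_4, e_4_1] at S_1_4
  have S_2_3 := hsym 2 3
  rw [e_2_3, e_3_2] at S_2_3
  have S_2_4 := hsym 2 4
  rw [e_2_4, e_4_2] at S_2_4
  have S_3_4 := hsym 3 4
  rw [e_3_4, e_4_3] at S_3_4
  exfalso
  omega

theorem nd_172 (T : Models.NumericalType 6)
    (hG : NTGood T)
    (hmax : ∀ j, T.m j ≤ T.m 0)
    (e_0_1 : T.picMatrix 0 1 = 1)
    (e_0_2 : T.picMatrix 0 2 = 1)
    (e_0_3 : T.picMatrix 0 3 = 1)
    (e_0_4 : T.picMatrix 0 4 = 0)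
    (e_0_5 : T.picMatrix 0 5 = 0)
    (e_1_0 : T.picMatrix 1 0 = 1)
    (e_1_2 : T.picMatrix 1 2 = 0)
    (e_1_3 : T.picMatrix 1 3 = 0)
    (e_1_4 : T.picMatrix 1 4 = 1)
    (e_1_5 : T.picMatrix 1 5 = 0)
    (e_2_0 : T.picMatrix 2 0 = 1)
    (e_2_1 : T.picMatrix 2 1 = 0)
    (e_2_3 : T.picMatrix 2 3 = 0)
    (e_2_4 : T.picMatrix 2 4 = 0)
    (e_2_5 : T.picMatrix 2 5 = 0)
    (e_3_0 : T.picMatrix 3 0 = 1)
    (e_3_1 : T.picMatrix 3 1 = 0)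
    (e_3_2 : T.picMatrix 3 2 = 0)
    (e_3_4 : T.picMatrix 3 4 = 0)
    (e_3_5 : T.picMatrix 3 5 = 0)
    (e_4_0 : T.picMatrix 4 0 = 0)
    (e_4_1 : T.picMatrix 4 1 = 1)
    (e_4_2 : T.picMatrix 4 2 = 0)
    (e_4_3 : T.picMatrix 4 3 = 0)
    (e_4_5 : T.picMatrix 4 5 = 1)
    (e_5_0 : T.picMatrix 5 0 = 0)
    (e_5_1 : T.picMatrix 5 1 = 0)
    (e_5_2 : T.picMatrix 5 2 = 0)
    (e_5_3 : T.picMatrix 5 3 = 0)
    (e_5_4 : T.picMatrix 5 4 = 2)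
    (cl : ∀ a b : Fin 6, a.val < 4 → 6 ≤ b.val → T.picMatrix a b = 0) :
    Goal T := by
  obtain ⟨hg0, hdA, hdP, hnn, hrow, hsym, hpair⟩ := ntgood_data T (by norm_num) hG
  have hm_0 := T.m_pos 0
  have hw_0 := T.w_pos 0
  have hm_1 := T.m_pos 1
  have hw_1 := T.w_pos 1
  have hm_2 := T.m_pos 2
  have hw_2 := T.w_pos 2
  have hm_3 := T.m_pos 3
  have hw_3 := T.w_pos 3
  have hm_4 := T.m_pos 4
  have hw_4 := T.w_pos 4
  have hm_5 := T.m_pos 5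
  have hw_5 := T.w_pos 5
  have hx_1 := hmax 1
  have hx_2 := hmax 2
  have hx_3 := hmax 3
  have hx_4 := hmax 4
  have hx_5 := hmax 5
  have R_0 := hrow 0
  rw [Fin.sum_univ_six, hdP 0, e_0_1, e_0_2, e_0_3, e_0_4, e_0_5] at R_0
  have R_1 := hrow 1
  rw [Fin.sum_univ_six, hdP 1, e_1_0, e_1_2, e_1_3, e_1_4, e_1_5] at R_1
  have R_2 := hrow 2
  rw [Fin.sum_univ_six, hdP 2, e_2_0, e_2_1, e_2_3, e_2_4, e_2_5] at R_2
  have R_3 := hrow 3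
  rw [Fin.sum_univ_six, hdP 3, e_3_0, e_3_1, e_3_2, e_3_4, e_3_5] at R_3
  have R_4 := hrow 4
  rw [Fin.sum_univ_six, hdP 4, e_4_0, e_4_1, e_4_2, e_4_3, e_4_5] at R_4
  have R_5 := hrow 5
  rw [Fin.sum_univ_six, hdP 5, e_5_0, e_5_1, e_5_2, e_5_3, e_5_4] at R_5
  have S_0_1 := hsym 0 1
  rw [e_0_1, e_1_0] at S_0_1
  have S_0_2 := hsym 0 2
  rw [e_0_2, e_2_0] at S_0_2
  have S_0_3 := hsym 0 3
  rw [e_0_3, e_3_0] at S_0_3
  have S_0_4 := hsym 0 4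
  rw [e_0_4, e_4_0] at S_0_4
  have S_0_5 := hsym 0 5
  rw [e_0_5, e_5_0] at S_0_5
  have S_1_2 := hsym 1 2
  rw [e_1_2, e_2_1] at S_1_2
  have S_1_3 := hsym 1 3
  rw [e_1_3, e_3_1] at S_1_3
  have S_1_4 := hsym 1 4
  rw [e_1_4, e_4_1] at S_1_4
  have S_1_5 := hsym 1 5
  rw [e_1_5, e_5_1] at S_1_5
  have S_2_3 := hsym 2 3
  rw [e_2_3, e_3_2] at S_2_3
  have S_2_4 := hsym 2 4
  rw [e_2_4, e_4_2] at S_2_4
  have S_2_5 := hsym 2 5
  rw [e_2_5, e_5_2] at S_2_5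
  have S_3_4 := hsym 3 4
  rw [e_3_4, e_4_3] at S_3_4
  have S_3_5 := hsym 3 5
  rw [e_3_5, e_5_3] at S_3_5
  have S_4_5 := hsym 4 5
  rw [e_4_5, e_5_4] at S_4_5
  have D_0 := hdA 0
  have A_0_1 := nt_a_eq T 0 1
  rw [e_0_1] at A_0_1
  have A_0_2 := nt_a_eq T 0 2
  rw [e_0_2] at A_0_2
  have A_0_3 := nt_a_eq T 0 3
  rw [e_0_3] at A_0_3
  have A_0_4 := nt_a_eq T 0 4
  rw [e_0_4] at A_0_4
  have A_0_5 := nt_a_eq T 0 5
  rw [e_0_5] at A_0_5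
  have D_1 := hdA 1
  have A_1_0 := nt_a_eq T 1 0
  rw [e_1_0] at A_1_0
  have A_1_2 := nt_a_eq T 1 2
  rw [e_1_2] at A_1_2
  have A_1_3 := nt_a_eq T 1 3
  rw [e_1_3] at A_1_3
  have A_1_4 := nt_a_eq T 1 4
  rw [e_1_4] at A_1_4
  have A_1_5 := nt_a_eq T 1 5
  rw [e_1_5] at A_1_5
  have D_2 := hdA 2
  have A_2_0 := nt_a_eq T 2 0
  rw [e_2_0] at A_2_0
  have A_2_1 := nt_a_eq T 2 1
  rw [e_2_1] at A_2_1
  have A_2_3 := nt_a_eq T 2 3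
  rw [e_2_3] at A_2_3
  have A_2_4 := nt_a_eq T 2 4
  rw [e_2_4] at A_2_4
  have A_2_5 := nt_a_eq T 2 5
  rw [e_2_5] at A_2_5
  have D_3 := hdA 3
  have A_3_0 := nt_a_eq T 3 0
  rw [e_3_0] at A_3_0
  have A_3_1 := nt_a_eq T 3 1
  rw [e_3_1] at A_3_1
  have A_3_2 := nt_a_eq T 3 2
  rw [e_3_2] at A_3_2
  have A_3_4 := nt_a_eq T 3 4
  rw [e_3_4] at A_3_4
  have A_3_5 := nt_a_eq T 3 5
  rw [e_3_5] at A_3_5
  have D_4 := hdA 4
  have A_4_0 := nt_a_eq T 4 0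
  rw [e_4_0] at A_4_0
  have A_4_1 := nt_a_eq T 4 1
  rw [e_4_1] at A_4_1
  have A_4_2 := nt_a_eq T 4 2
  rw [e_4_2] at A_4_2
  have A_4_3 := nt_a_eq T 4 3
  rw [e_4_3] at A_4_3
  have A_4_5 := nt_a_eq T 4 5
  rw [e_4_5] at A_4_5
  have D_5 := hdA 5
  have A_5_0 := nt_a_eq T 5 0
  rw [e_5_0] at A_5_0
  have A_5_1 := nt_a_eq T 5 1
  rw [e_5_1] at A_5_1
  have A_5_2 := nt_a_eq T 5 2
  rw [e_5_2] at A_5_2
  have A_5_3 := nt_a_eq T 5 3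
  rw [e_5_3] at A_5_3
  have A_5_4 := nt_a_eq T 5 4
  rw [e_5_4] at A_5_4
  refine goal_of_indices T hg0 5 4 1 0 2 3 (by decide) (T.m 2) (T.w 5) ?_
  unfold Goali
  exact Or.inr (Or.inr (Or.inr (Or.inr (Or.inr (Or.inl ⟨(by have h : (2 : ℤ) * (T.m 5 - (2 * T.m 2)) = 0 := (by linear_combination (6) * R_0 + (4) * R_1 + (5) * R_2 + (3) * R_3 + (2) * R_4); exact eq_of_sub_eq_zero ((mul_eq_zero.mp h).resolve_left (by norm_num))),
      (by linear_combination (2) * R_0 + (1) * R_1 + (2) * R_2 + (1) * R_3),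
      (by have h : (2 : ℤ) * (T.m 1 - (2 * T.m 2)) = 0 := (by linear_combination (2) * R_0 + (3) * R_2 + (1) * R_3); exact eq_of_sub_eq_zero ((mul_eq_zero.mp h).resolve_left (by norm_num))),
      (by linear_combination (1) * R_2),
      rfl,
      (by have h : (2 : ℤ) * (T.m 3 - (T.m 2)) = 0 := (by linear_combination (1) * R_2 + (-1) * R_3); exact eq_of_sub_eq_zero ((mul_eq_zero.mp h).resolve_left (by norm_num))),
      rfl,
      (by linear_combination (1) * S_4_5),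
      (by linear_combination (1) * S_1_4 + (1) * S_4_5),
      (by linear_combination (1) * S_0_1 + (1) * S_1_4 + (1) * S_4_5),
      (by linear_combination (1) * S_0_1 + (-1) * S_0_2 + (1) * S_1_4 + (1) * S_4_5),
      (by linear_combination (1) * S_0_1 + (-1) * S_0_3 + (1) * S_1_4 + (1) * S_4_5),
      (by linear_combination (1) * D_5),
      (by linear_combination (1) * A_5_4),
      (by linear_combination (1) * A_5_1),
      (by linear_combination (1) * A_5_0),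
      (by linear_combination (1) * A_5_2),
      (by linear_combination (1) * A_5_3),
      (by linear_combination (-2) * S_4_5 + (1) * D_4),
      (by linear_combination (1) * S_4_5 + (1) * A_4_1),
      (by linear_combination (1) * A_4_0),
      (by linear_combination (1) * A_4_2),
      (by linear_combination (1) * A_4_3),
      (by linear_combination (-2) * S_1_4 + (-2) * S_4_5 + (1) * D_1),
      (by linear_combination (1) * S_1_4 + (1) * S_4_5 + (1) * A_1_0),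
      (by linear_combination (1) * A_1_2),
      (by linear_combination (1) * A_1_3),
      (by linear_combination (-2) * S_0_1 + (-2) * S_1_4 + (-2) * S_4_5 + (1) * D_0),
      (by linear_combination (1) * S_0_1 + (1) * S_1_4 + (1) * S_4_5 + (1) * A_0_2),
      (by linear_combination (1) * S_0_1 + (1) * S_1_4 + (1) * S_4_5 + (1) * A_0_3),
      (by linear_combination (-2) * S_0_1 + (2) * S_0_2 + (-2) * S_1_4 + (-2) * S_4_5 + (1) * D_2),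
      (by linear_combination (1) * A_2_3),
      (by linear_combination (-2) * S_0_1 + (2) * S_0_3 + (-2) * S_1_4 + (-2) * S_4_5 + (1) * D_3)⟩)))))

theorem nd_173 (T : Models.NumericalType 6)
    (hG : NTGood T)
    (hmax : ∀ j, T.m j ≤ T.m 0)
    (e_0_1 : T.picMatrix 0 1 = 1)
    (e_0_2 : T.picMatrix 0 2 = 1)
    (e_0_3 : T.picMatrix 0 3 = 1)
    (e_0_4 : T.picMatrix 0 4 = 0)
    (e_0_5 : T.picMatrix 0 5 = 0)
    (e_1_0 : T.picMatrix 1 0 = 1)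
    (e_1_2 : T.picMatrix 1 2 = 0)
    (e_1_3 : T.picMatrix 1 3 = 0)
    (e_1_4 : T.picMatrix 1 4 = 1)
    (e_1_5 : T.picMatrix 1 5 = 0)
    (e_2_0 : T.picMatrix 2 0 = 1)
    (e_2_1 : T.picMatrix 2 1 = 0)
    (e_2_3 : T.picMatrix 2 3 = 0)
    (e_2_4 : T.picMatrix 2 4 = 0)
    (e_2_5 : T.picMatrix 2 5 = 0)
    (e_3_0 : T.picMatrix 3 0 = 1)
    (e_3_1 : T.picMatrix 3 1 = 0)
    (e_3_2 : T.picMatrix 3 2 = 0)
    (e_3_4 : T.picMatrix 3 4 = 0)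
    (e_3_5 : T.picMatrix 3 5 = 0)
    (e_4_0 : T.picMatrix 4 0 = 0)
    (e_4_1 : T.picMatrix 4 1 = 1)
    (e_4_2 : T.picMatrix 4 2 = 0)
    (e_4_3 : T.picMatrix 4 3 = 0)
    (e_4_5 : T.picMatrix 4 5 = 2)
    (e_5_0 : T.picMatrix 5 0 = 0)
    (e_5_1 : T.picMatrix 5 1 = 0)
    (e_5_2 : T.picMatrix 5 2 = 0)
    (e_5_3 : T.picMatrix 5 3 = 0)
    (e_5_4 : T.picMatrix 5 4 = 1)
    (cl : ∀ a b : Fin 6, a.val < 4 → 6 ≤ b.val → T.picMatrix a b = 0) :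
    Goal T := by
  obtain ⟨hg0, hdA, hdP, hnn, hrow, hsym, hpair⟩ := ntgood_data T (by norm_num) hG
  have hm_0 := T.m_pos 0
  have hw_0 := T.w_pos 0
  have hm_1 := T.m_pos 1
  have hw_1 := T.w_pos 1
  have hm_2 := T.m_pos 2
  have hw_2 := T.w_pos 2
  have hm_3 := T.m_pos 3
  have hw_3 := T.w_pos 3
  have hm_4 := T.m_pos 4
  have hw_4 := T.w_pos 4
  have hm_5 := T.m_pos 5
  have hw_5 := T.w_pos 5
  have hx_1 := hmax 1
  have hx_2 := hmax 2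
  have hx_3 := hmax 3
  have hx_4 := hmax 4
  have hx_5 := hmax 5
  have R_0 := hrow 0
  rw [Fin.sum_univ_six, hdP 0, e_0_1, e_0_2, e_0_3, e_0_4, e_0_5] at R_0
  have R_1 := hrow 1
  rw [Fin.sum_univ_six, hdP 1, e_1_0, e_1_2, e_1_3, e_1_4, e_1_5] at R_1
  have R_2 := hrow 2
  rw [Fin.sum_univ_six, hdP 2, e_2_0, e_2_1, e_2_3, e_2_4, e_2_5] at R_2
  have R_3 := hrow 3
  rw [Fin.sum_univ_six, hdP 3, e_3_0, e_3_1, e_3_2, e_3_4, e_3_5] at R_3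
  have R_4 := hrow 4
  rw [Fin.sum_univ_six, hdP 4, e_4_0, e_4_1, e_4_2, e_4_3, e_4_5] at R_4
  have R_5 := hrow 5
  rw [Fin.sum_univ_six, hdP 5, e_5_0, e_5_1, e_5_2, e_5_3, e_5_4] at R_5
  have S_0_1 := hsym 0 1
  rw [e_0_1, e_1_0] at S_0_1
  have S_0_2 := hsym 0 2
  rw [e_0_2, e_2_0] at S_0_2
  have S_0_3 := hsym 0 3
  rw [e_0_3, e_3_0] at S_0_3
  have S_0_4 := hsym 0 4
  rw [e_0_4, e_4_0] at S_0_4
  have S_0_5 := hsym 0 5
  rw [e_0_5, e_5_0] at S_0_5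
  have S_1_2 := hsym 1 2
  rw [e_1_2, e_2_1] at S_1_2
  have S_1_3 := hsym 1 3
  rw [e_1_3, e_3_1] at S_1_3
  have S_1_4 := hsym 1 4
  rw [e_1_4, e_4_1] at S_1_4
  have S_1_5 := hsym 1 5
  rw [e_1_5, e_5_1] at S_1_5
  have S_2_3 := hsym 2 3
  rw [e_2_3, e_3_2] at S_2_3
  have S_2_4 := hsym 2 4
  rw [e_2_4, e_4_2] at S_2_4
  have S_2_5 := hsym 2 5
  rw [e_2_5, e_5_2] at S_2_5
  have S_3_4 := hsym 3 4
  rw [e_3_4, e_4_3] at S_3_4
  have S_3_5 := hsym 3 5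
  rw [e_3_5, e_5_3] at S_3_5
  have S_4_5 := hsym 4 5
  rw [e_4_5, e_5_4] at S_4_5
  have D_0 := hdA 0
  have A_0_1 := nt_a_eq T 0 1
  rw [e_0_1] at A_0_1
  have A_0_2 := nt_a_eq T 0 2
  rw [e_0_2] at A_0_2
  have A_0_3 := nt_a_eq T 0 3
  rw [e_0_3] at A_0_3
  have A_0_4 := nt_a_eq T 0 4
  rw [e_0_4] at A_0_4
  have A_0_5 := nt_a_eq T 0 5
  rw [e_0_5] at A_0_5
  have D_1 := hdA 1
  have A_1_0 := nt_a_eq T 1 0
  rw [e_1_0] at A_1_0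
  have A_1_2 := nt_a_eq T 1 2
  rw [e_1_2] at A_1_2
  have A_1_3 := nt_a_eq T 1 3
  rw [e_1_3] at A_1_3
  have A_1_4 := nt_a_eq T 1 4
  rw [e_1_4] at A_1_4
  have A_1_5 := nt_a_eq T 1 5
  rw [e_1_5] at A_1_5
  have D_2 := hdA 2
  have A_2_0 := nt_a_eq T 2 0
  rw [e_2_0] at A_2_0
  have A_2_1 := nt_a_eq T 2 1
  rw [e_2_1] at A_2_1
  have A_2_3 := nt_a_eq T 2 3
  rw [e_2_3] at A_2_3
  have A_2_4 := nt_a_eq T 2 4
  rw [e_2_4] at A_2_4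
  have A_2_5 := nt_a_eq T 2 5
  rw [e_2_5] at A_2_5
  have D_3 := hdA 3
  have A_3_0 := nt_a_eq T 3 0
  rw [e_3_0] at A_3_0
  have A_3_1 := nt_a_eq T 3 1
  rw [e_3_1] at A_3_1
  have A_3_2 := nt_a_eq T 3 2
  rw [e_3_2] at A_3_2
  have A_3_4 := nt_a_eq T 3 4
  rw [e_3_4] at A_3_4
  have A_3_5 := nt_a_eq T 3 5
  rw [e_3_5] at A_3_5
  have D_4 := hdA 4
  have A_4_0 := nt_a_eq T 4 0
  rw [e_4_0] at A_4_0
  have A_4_1 := nt_a_eq T 4 1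
  rw [e_4_1] at A_4_1
  have A_4_2 := nt_a_eq T 4 2
  rw [e_4_2] at A_4_2
  have A_4_3 := nt_a_eq T 4 3
  rw [e_4_3] at A_4_3
  have A_4_5 := nt_a_eq T 4 5
  rw [e_4_5] at A_4_5
  have D_5 := hdA 5
  have A_5_0 := nt_a_eq T 5 0
  rw [e_5_0] at A_5_0
  have A_5_1 := nt_a_eq T 5 1
  rw [e_5_1] at A_5_1
  have A_5_2 := nt_a_eq T 5 2
  rw [e_5_2] at A_5_2
  have A_5_3 := nt_a_eq T 5 3
  rw [e_5_3] at A_5_3
  have A_5_4 := nt_a_eq T 5 4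
  rw [e_5_4] at A_5_4
  refine goal_of_indices T hg0 5 4 1 0 2 3 (by decide) (T.m 5) (T.w 4) ?_
  unfold Goali
  exact Or.inr (Or.inr (Or.inr (Or.inr (Or.inl ⟨rfl,
      (by have h : (2 : ℤ) * (T.m 4 - (2 * T.m 5)) = 0 := (by linear_combination (-2) * R_0 + (-2) * R_1 + (-1) * R_2 + (-1) * R_3 + (-2) * R_4); exact eq_of_sub_eq_zero ((mul_eq_zero.mp h).resolve_left (by norm_num))),
      (by linear_combination (-2) * R_0 + (-2) * R_1 + (-1) * R_2 + (-1) * R_3 + (-1) * R_4),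
      (by have h : (2 : ℤ) * (T.m 0 - (2 * T.m 5)) = 0 := (by linear_combination (-6) * R_0 + (-4) * R_1 + (-3) * R_2 + (-3) * R_3 + (-2) * R_4); exact eq_of_sub_eq_zero ((mul_eq_zero.mp h).resolve_left (by norm_num))),
      (by have h : (4 : ℤ) * (T.m 2 - (T.m 5)) = 0 := (by linear_combination (-6) * R_0 + (-4) * R_1 + (-5) * R_2 + (-3) * R_3 + (-2) * R_4); exact eq_of_sub_eq_zero ((mul_eq_zero.mp h).resolve_left (by norm_num))),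
      (by have h : (4 : ℤ) * (T.m 3 - (T.m 5)) = 0 := (by linear_combination (-6) * R_0 + (-4) * R_1 + (-3) * R_2 + (-5) * R_3 + (-2) * R_4); exact eq_of_sub_eq_zero ((mul_eq_zero.mp h).resolve_left (by norm_num))),
      (by linear_combination (-1) * S_4_5),
      rfl,
      (by linear_combination (1) * S_1_4),
      (by linear_combination (1) * S_0_1 + (1) * S_1_4),
      (by linear_combination (1) * S_0_1 + (-1) * S_0_2 + (1) * S_1_4),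
      (by linear_combination (1) * S_0_1 + (-1) * S_0_3 + (1) * S_1_4),
      (by linear_combination (2) * S_4_5 + (1) * D_5),
      (by linear_combination (-1) * S_4_5 + (1) * A_5_4),
      (by linear_combination (1) * A_5_1),
      (by linear_combination (1) * A_5_0),
      (by linear_combination (1) * A_5_2),
      (by linear_combination (1) * A_5_3),
      (by linear_combination (1) * D_4),
      (by linear_combination (1) * A_4_1),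
      (by linear_combination (1) * A_4_0),
      (by linear_combination (1) * A_4_2),
      (by linear_combination (1) * A_4_3),
      (by linear_combination (-2) * S_1_4 + (1) * D_1),
      (by linear_combination (1) * S_1_4 + (1) * A_1_0),
      (by linear_combination (1) * A_1_2),
      (by linear_combination (1) * A_1_3),
      (by linear_combination (-2) * S_0_1 + (-2) * S_1_4 + (1) * D_0),
      (by linear_combination (1) * S_0_1 + (1) * S_1_4 + (1) * A_0_2),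
      (by linear_combination (1) * S_0_1 + (1) * S_1_4 + (1) * A_0_3),
      (by linear_combination (-2) * S_0_1 + (2) * S_0_2 + (-2) * S_1_4 + (1) * D_2),
      (by linear_combination (1) * A_2_3),
      (by linear_combination (-2) * S_0_1 + (2) * S_0_3 + (-2) * S_1_4 + (1) * D_3)⟩))))

theorem ex_171 (T : Models.NumericalType 6)
    (hG : NTGood T)
    (hmax : ∀ j, T.m j ≤ T.m 0)
    (e_0_1 : T.picMatrix 0 1 = 1)
    (e_0_2 : T.picMatrix 0 2 = 1)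
    (e_0_3 : T.picMatrix 0 3 = 1)
    (e_0_4 : T.picMatrix 0 4 = 0)
    (e_1_0 : T.picMatrix 1 0 = 1)
    (e_1_2 : T.picMatrix 1 2 = 0)
    (e_1_3 : T.picMatrix 1 3 = 0)
    (e_1_4 : T.picMatrix 1 4 = 1)
    (e_2_0 : T.picMatrix 2 0 = 1)
    (e_2_1 : T.picMatrix 2 1 = 0)
    (e_2_3 : T.picMatrix 2 3 = 0)
    (e_2_4 : T.picMatrix 2 4 = 0)
    (e_3_0 : T.picMatrix 3 0 = 1)
    (e_3_1 : T.picMatrix 3 1 = 0)
    (e_3_2 : T.picMatrix 3 2 = 0)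
    (e_3_4 : T.picMatrix 3 4 = 0)
    (e_4_0 : T.picMatrix 4 0 = 0)
    (e_4_1 : T.picMatrix 4 1 = 1)
    (e_4_2 : T.picMatrix 4 2 = 0)
    (e_4_3 : T.picMatrix 4 3 = 0)
    (cl : ∀ a b : Fin 6, a.val < 4 → 6 ≤ b.val → T.picMatrix a b = 0)
    (z : ∀ a : Fin 6, a.val < 4 → T.picMatrix a 5 = 0)
    (hne : T.picMatrix 4 5 ≠ 0) :
    Goal T := by
  have e_0_5 : T.picMatrix 0 5 = 0 := z 0 (by decide)
  have e_5_0 : T.picMatrix 5 0 = 0 := nt_pic_zero_symm T 0 5 e_0_5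
  have e_1_5 : T.picMatrix 1 5 = 0 := z 1 (by decide)
  have e_5_1 : T.picMatrix 5 1 = 0 := nt_pic_zero_symm T 1 5 e_1_5
  have e_2_5 : T.picMatrix 2 5 = 0 := z 2 (by decide)
  have e_5_2 : T.picMatrix 5 2 = 0 := nt_pic_zero_symm T 2 5 e_2_5
  have e_3_5 : T.picMatrix 3 5 = 0 := z 3 (by decide)
  have e_5_3 : T.picMatrix 5 3 = 0 := nt_pic_zero_symm T 3 5 e_3_5
  obtain ⟨hg0, hdA, hdP, hnn, hrow, hsym, hpair⟩ := ntgood_data T (by norm_num) hG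
  have hm_0 := T.m_pos 0
  have hw_0 := T.w_pos 0
  have hm_1 := T.m_pos 1
  have hw_1 := T.w_pos 1
  have hm_2 := T.m_pos 2
  have hw_2 := T.w_pos 2
  have hm_3 := T.m_pos 3
  have hw_3 := T.w_pos 3
  have hm_4 := T.m_pos 4
  have hw_4 := T.w_pos 4
  have hm_5 := T.m_pos 5
  have hw_5 := T.w_pos 5
  have hx_1 := hmax 1
  have hx_2 := hmax 2
  have hx_3 := hmax 3
  have hx_4 := hmax 4
  have hx_5 := hmax 5
  have N_4_5 := mul_nonneg (hnn 4 5 (by decide)) (T.m_pos 5).le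
  have N_5_4 := mul_nonneg (hnn 5 4 (by decide)) (T.m_pos 4).le
  have R_0 := hrow 0
  rw [Fin.sum_univ_six, hdP 0, e_0_1, e_0_2, e_0_3, e_0_4, e_0_5] at R_0
  have R_1 := hrow 1
  rw [Fin.sum_univ_six, hdP 1, e_1_0, e_1_2, e_1_3, e_1_4, e_1_5] at R_1
  have R_2 := hrow 2
  rw [Fin.sum_univ_six, hdP 2, e_2_0, e_2_1, e_2_3, e_2_4, e_2_5] at R_2
  have R_3 := hrow 3
  rw [Fin.sum_univ_six, hdP 3, e_3_0, e_3_1, e_3_2, e_3_4, e_3_5] at R_3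
  have R_4 := hrow 4
  rw [Fin.sum_univ_six, hdP 4, e_4_0, e_4_1, e_4_2, e_4_3] at R_4
  have R_5 := hrow 5
  rw [Fin.sum_univ_six, hdP 5, e_5_0, e_5_1, e_5_2, e_5_3] at R_5
  have S_0_1 := hsym 0 1
  rw [e_0_1, e_1_0] at S_0_1
  have S_0_2 := hsym 0 2
  rw [e_0_2, e_2_0] at S_0_2
  have S_0_3 := hsym 0 3
  rw [e_0_3, e_3_0] at S_0_3
  have S_0_4 := hsym 0 4
  rw [e_0_4, e_4_0] at S_0_4
  have S_0_5 := hsym 0 5
  rw [e_0_5, e_5_0] at S_0_5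
  have S_1_2 := hsym 1 2
  rw [e_1_2, e_2_1] at S_1_2
  have S_1_3 := hsym 1 3
  rw [e_1_3, e_3_1] at S_1_3
  have S_1_4 := hsym 1 4
  rw [e_1_4, e_4_1] at S_1_4
  have S_1_5 := hsym 1 5
  rw [e_1_5, e_5_1] at S_1_5
  have S_2_3 := hsym 2 3
  rw [e_2_3, e_3_2] at S_2_3
  have S_2_4 := hsym 2 4
  rw [e_2_4, e_4_2] at S_2_4
  have S_2_5 := hsym 2 5
  rw [e_2_5, e_5_2] at S_2_5
  have S_3_4 := hsym 3 4
  rw [e_3_4, e_4_3] at S_3_4
  have S_3_5 := hsym 3 5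
  rw [e_3_5, e_5_3] at S_3_5
  have S_4_5 := hsym 4 5
  have Q_4 := hpair 4 5 (by decide)
  generalize e_4_5 : T.picMatrix 4 5 = x_4 at *
  generalize e_5_4 : T.picMatrix 5 4 = y_4 at *
  rcases Q_4 with ⟨rfl, rfl⟩ | ⟨rfl, rfl⟩ | ⟨rfl, rfl⟩ | ⟨rfl, rfl⟩ | ⟨rfl, rfl⟩ | ⟨rfl, rfl⟩ | ⟨rfl, rfl⟩ | ⟨rfl, rfl⟩ | ⟨rfl, rfl⟩
  · exact absurd rfl hne
  · -- (4,5) = (1,1)
    omega
  · -- (4,5) = (1,2)
    exact nd_172 T hG hmax e_0_1 e_0_2 e_0_3 e_0_4 e_0_5 e_1_0 e_1_2 e_1_3 e_1_4 e_1_5 e_2_0 e_2_1 e_2_3 e_2_4 e_2_5 e_3_0 e_3_1 e_3_2 e_3_4 e_3_5 e_4_0 e_4_1 e_4_2 e_4_3 e_4_5 e_5_0 e_5_1 e_5_2 e_5_3 e_5_4 cl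
  · -- (4,5) = (2,1)
    exact nd_173 T hG hmax e_0_1 e_0_2 e_0_3 e_0_4 e_0_5 e_1_0 e_1_2 e_1_3 e_1_4 e_1_5 e_2_0 e_2_1 e_2_3 e_2_4 e_2_5 e_3_0 e_3_1 e_3_2 e_3_4 e_3_5 e_4_0 e_4_1 e_4_2 e_4_3 e_4_5 e_5_0 e_5_1 e_5_2 e_5_3 e_5_4 cl
  · -- (4,5) = (1,3)
    omega
  · -- (4,5) = (3,1)
    omega
  · -- (4,5) = (1,4)
    omega
  · -- (4,5) = (4,1)
    omega
  · -- (4,5) = (2,2)
    omega

theorem nd_169 (T : Models.NumericalType 6)
    (hG : NTGood T)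
    (hmax : ∀ j, T.m j ≤ T.m 0)
    (e_0_1 : T.picMatrix 0 1 = 1)
    (e_0_2 : T.picMatrix 0 2 = 1)
    (e_0_3 : T.picMatrix 0 3 = 1)
    (e_0_4 : T.picMatrix 0 4 = 0)
    (e_1_0 : T.picMatrix 1 0 = 1)
    (e_1_2 : T.picMatrix 1 2 = 0)
    (e_1_3 : T.picMatrix 1 3 = 0)
    (e_1_4 : T.picMatrix 1 4 = 1)
    (e_2_0 : T.picMatrix 2 0 = 1)
    (e_2_1 : T.picMatrix 2 1 = 0)
    (e_2_3 : T.picMatrix 2 3 = 0)
    (e_2_4 : T.picMatrix 2 4 = 0)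
    (e_3_0 : T.picMatrix 3 0 = 1)
    (e_3_1 : T.picMatrix 3 1 = 0)
    (e_3_2 : T.picMatrix 3 2 = 0)
    (e_3_4 : T.picMatrix 3 4 = 0)
    (e_4_0 : T.picMatrix 4 0 = 0)
    (e_4_1 : T.picMatrix 4 1 = 1)
    (e_4_2 : T.picMatrix 4 2 = 0)
    (e_4_3 : T.picMatrix 4 3 = 0)
    (cl : ∀ a b : Fin 6, a.val < 4 → 5 ≤ b.val → T.picMatrix a b = 0) :
    Goal T := by
  by_cases hc : ∀ b : Fin 6, 5 ≤ b.val → T.picMatrix 4 b = 0
  · exact nd_170 T hG hmax e_0_1 e_0_2 e_0_3 e_0_4 e_1_0 e_1_2 e_1_3 e_1_4 e_2_0 e_2_1 e_2_3 e_2_4 e_3_0 e_3_1 e_3_2 e_3_4 e_4_0 e_4_1 e_4_2 e_4_3 (nt_cl_succ T 5 4 4 rfl cl hc)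
  · obtain ⟨τ, hfix, cl', z, hne⟩ := nt_wlog_step T 5 (by norm_num) 4 (by norm_num) 4 (by decide) cl hc
    apply goal_relabel T τ
    refine ex_171 (ntRelabel T τ) (hG.relabel τ) ?_ ?_ ?_ ?_ ?_ ?_ ?_ ?_ ?_ ?_ ?_ ?_ ?_ ?_ ?_ ?_ ?_ ?_ ?_ ?_ ?_ cl' z hne
    · intro j
      show T.m (τ j) ≤ T.m (τ 0)
      rw [hfix 0 (by decide)]
      exact hmax _
    · show T.picMatrix (τ 0) (τ 1) = 1
      rw [hfix 0 (by decide), hfix 1 (by decide)]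
      exact e_0_1
    · show T.picMatrix (τ 0) (τ 2) = 1
      rw [hfix 0 (by decide), hfix 2 (by decide)]
      exact e_0_2
    · show T.picMatrix (τ 0) (τ 3) = 1
      rw [hfix 0 (by decide), hfix 3 (by decide)]
      exact e_0_3
    · show T.picMatrix (τ 0) (τ 4) = 0
      rw [hfix 0 (by decide), hfix 4 (by decide)]
      exact e_0_4
    · show T.picMatrix (τ 1) (τ 0) = 1
      rw [hfix 1 (by decide), hfix 0 (by decide)]
      exact e_1_0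
    · show T.picMatrix (τ 1) (τ 2) = 0
      rw [hfix 1 (by decide), hfix 2 (by decide)]
      exact e_1_2
    · show T.picMatrix (τ 1) (τ 3) = 0
      rw [hfix 1 (by decide), hfix 3 (by decide)]
      exact e_1_3
    · show T.picMatrix (τ 1) (τ 4) = 1
      rw [hfix 1 (by decide), hfix 4 (by decide)]
      exact e_1_4
    · show T.picMatrix (τ 2) (τ 0) = 1
      rw [hfix 2 (by decide), hfix 0 (by decide)]
      exact e_2_0
    · show T.picMatrix (τ 2) (τ 1) = 0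
      rw [hfix 2 (by decide), hfix 1 (by decide)]
      exact e_2_1
    · show T.picMatrix (τ 2) (τ 3) = 0
      rw [hfix 2 (by decide), hfix 3 (by decide)]
      exact e_2_3
    · show T.picMatrix (τ 2) (τ 4) = 0
      rw [hfix 2 (by decide), hfix 4 (by decide)]
      exact e_2_4
    · show T.picMatrix (τ 3) (τ 0) = 1
      rw [hfix 3 (by decide), hfix 0 (by decide)]
      exact e_3_0
    · show T.picMatrix (τ 3) (τ 1) = 0
      rw [hfix 3 (by decide), hfix 1 (by decide)]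
      exact e_3_1
    · show T.picMatrix (τ 3) (τ 2) = 0
      rw [hfix 3 (by decide), hfix 2 (by decide)]
      exact e_3_2
    · show T.picMatrix (τ 3) (τ 4) = 0
      rw [hfix 3 (by decide), hfix 4 (by decide)]
      exact e_3_4
    · show T.picMatrix (τ 4) (τ 0) = 0
      rw [hfix 4 (by decide), hfix 0 (by decide)]
      exact e_4_0
    · show T.picMatrix (τ 4) (τ 1) = 1
      rw [hfix 4 (by decide), hfix 1 (by decide)]
      exact e_4_1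
    · show T.picMatrix (τ 4) (τ 2) = 0
      rw [hfix 4 (by decide), hfix 2 (by decide)]
      exact e_4_2
    · show T.picMatrix (τ 4) (τ 3) = 0
      rw [hfix 4 (by decide), hfix 3 (by decide)]
      exact e_4_3

theorem ex_174 (T : Models.NumericalType 6)
    (hG : NTGood T)
    (hmax : ∀ j, T.m j ≤ T.m 0)
    (e_0_1 : T.picMatrix 0 1 = 1)
    (e_0_2 : T.picMatrix 0 2 = 1)
    (e_0_3 : T.picMatrix 0 3 = 1)
    (e_0_4 : T.picMatrix 0 4 = 0)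
    (e_1_0 : T.picMatrix 1 0 = 1)
    (e_1_2 : T.picMatrix 1 2 = 0)
    (e_1_3 : T.picMatrix 1 3 = 0)
    (e_1_4 : T.picMatrix 1 4 = 1)
    (e_2_0 : T.picMatrix 2 0 = 1)
    (e_2_1 : T.picMatrix 2 1 = 0)
    (e_2_3 : T.picMatrix 2 3 = 0)
    (e_2_4 : T.picMatrix 2 4 = 0)
    (e_3_0 : T.picMatrix 3 0 = 1)
    (e_3_1 : T.picMatrix 3 1 = 0)
    (e_3_2 : T.picMatrix 3 2 = 0)
    (e_3_4 : T.picMatrix 3 4 = 0)
    (e_4_0 : T.picMatrix 4 0 = 0)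
    (e_4_1 : T.picMatrix 4 1 = 1)
    (e_4_2 : T.picMatrix 4 2 = 0)
    (e_4_3 : T.picMatrix 4 3 = 0)
    (cl : ∀ a b : Fin 6, a.val < 3 → 6 ≤ b.val → T.picMatrix a b = 0)
    (z : ∀ a : Fin 6, a.val < 3 → T.picMatrix a 5 = 0)
    (hne : T.picMatrix 3 5 ≠ 0) :
    Goal T := by
  have e_0_5 : T.picMatrix 0 5 = 0 := z 0 (by decide)
  have e_5_0 : T.picMatrix 5 0 = 0 := nt_pic_zero_symm T 0 5 e_0_5
  have e_1_5 : T.picMatrix 1 5 = 0 := z 1 (by decide)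
  have e_5_1 : T.picMatrix 5 1 = 0 := nt_pic_zero_symm T 1 5 e_1_5
  have e_2_5 : T.picMatrix 2 5 = 0 := z 2 (by decide)
  have e_5_2 : T.picMatrix 5 2 = 0 := nt_pic_zero_symm T 2 5 e_2_5
  obtain ⟨hg0, hdA, hdP, hnn, hrow, hsym, hpair⟩ := ntgood_data T (by norm_num) hG
  have hm_0 := T.m_pos 0
  have hw_0 := T.w_pos 0
  have hm_1 := T.m_pos 1
  have hw_1 := T.w_pos 1
  have hm_2 := T.m_pos 2
  have hw_2 := T.w_pos 2
  have hm_3 := T.m_pos 3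
  have hw_3 := T.w_pos 3
  have hm_4 := T.m_pos 4
  have hw_4 := T.w_pos 4
  have hm_5 := T.m_pos 5
  have hw_5 := T.w_pos 5
  have hx_1 := hmax 1
  have hx_2 := hmax 2
  have hx_3 := hmax 3
  have hx_4 := hmax 4
  have hx_5 := hmax 5
  have N_3_5 := mul_nonneg (hnn 3 5 (by decide)) (T.m_pos 5).le
  have N_5_3 := mul_nonneg (hnn 5 3 (by decide)) (T.m_pos 3).le
  have N_4_5 := mul_nonneg (hnn 4 5 (by decide)) (T.m_pos 5).le
  have N_5_4 := mul_nonneg (hnn 5 4 (by decide)) (T.m_pos 4).le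
  have R_0 := hrow 0
  rw [Fin.sum_univ_six, hdP 0, e_0_1, e_0_2, e_0_3, e_0_4, e_0_5] at R_0
  have R_1 := hrow 1
  rw [Fin.sum_univ_six, hdP 1, e_1_0, e_1_2, e_1_3, e_1_4, e_1_5] at R_1
  have R_2 := hrow 2
  rw [Fin.sum_univ_six, hdP 2, e_2_0, e_2_1, e_2_3, e_2_4, e_2_5] at R_2
  have R_3 := hrow 3
  rw [Fin.sum_univ_six, hdP 3, e_3_0, e_3_1, e_3_2, e_3_4] at R_3
  have R_4 := hrow 4
  rw [Fin.sum_univ_six, hdP 4, e_4_0, e_4_1, e_4_2, e_4_3] at R_4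
  have R_5 := hrow 5
  rw [Fin.sum_univ_six, hdP 5, e_5_0, e_5_1, e_5_2] at R_5
  have S_0_1 := hsym 0 1
  rw [e_0_1, e_1_0] at S_0_1
  have S_0_2 := hsym 0 2
  rw [e_0_2, e_2_0] at S_0_2
  have S_0_3 := hsym 0 3
  rw [e_0_3, e_3_0] at S_0_3
  have S_0_4 := hsym 0 4
  rw [e_0_4, e_4_0] at S_0_4
  have S_0_5 := hsym 0 5
  rw [e_0_5, e_5_0] at S_0_5
  have S_1_2 := hsym 1 2
  rw [e_1_2, e_2_1] at S_1_2
  have S_1_3 := hsym 1 3
  rw [e_1_3, e_3_1] at S_1_3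
  have S_1_4 := hsym 1 4
  rw [e_1_4, e_4_1] at S_1_4
  have S_1_5 := hsym 1 5
  rw [e_1_5, e_5_1] at S_1_5
  have S_2_3 := hsym 2 3
  rw [e_2_3, e_3_2] at S_2_3
  have S_2_4 := hsym 2 4
  rw [e_2_4, e_4_2] at S_2_4
  have S_2_5 := hsym 2 5
  rw [e_2_5, e_5_2] at S_2_5
  have S_3_4 := hsym 3 4
  rw [e_3_4, e_4_3] at S_3_4
  have S_3_5 := hsym 3 5
  have S_4_5 := hsym 4 5
  have Q_3 := hpair 3 5 (by decide)
  have Q_4 := hpair 4 5 (by decide)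
  generalize e_3_5 : T.picMatrix 3 5 = x_3 at *
  generalize e_5_3 : T.picMatrix 5 3 = y_3 at *
  generalize e_4_5 : T.picMatrix 4 5 = x_4 at *
  generalize e_5_4 : T.picMatrix 5 4 = y_4 at *
  rcases Q_3 with ⟨rfl, rfl⟩ | ⟨rfl, rfl⟩ | ⟨rfl, rfl⟩ | ⟨rfl, rfl⟩ | ⟨rfl, rfl⟩ | ⟨rfl, rfl⟩ | ⟨rfl, rfl⟩ | ⟨rfl, rfl⟩ | ⟨rfl, rfl⟩
  · exact absurd rfl hne
  · -- (3,5) = (1,1)
    rcases Q_4 with ⟨rfl, rfl⟩ | ⟨rfl, rfl⟩ | ⟨rfl, rfl⟩ | ⟨rfl, rfl⟩ | ⟨rfl, rfl⟩ | ⟨rfl, rfl⟩ | ⟨rfl, rfl⟩ | ⟨rfl, rfl⟩ | ⟨rfl, rfl⟩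
    · -- (4,5) = (0,0)
      omega
    · -- (4,5) = (1,1)
      omega
    · -- (4,5) = (1,2)
      omega
    · -- (4,5) = (2,1)
      omega
    · -- (4,5) = (1,3)
      omega
    · -- (4,5) = (3,1)
      omega
    · -- (4,5) = (1,4)
      omega
    · -- (4,5) = (4,1)
      omega
    · -- (4,5) = (2,2)
      omega
  · omega
  · omega
  · omega
  · omega
  · omega
  · omega
  · omega

theorem nd_168 (T : Models.NumericalType 6)
    (hG : NTGood T)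
    (hmax : ∀ j, T.m j ≤ T.m 0)
    (e_0_1 : T.picMatrix 0 1 = 1)
    (e_0_2 : T.picMatrix 0 2 = 1)
    (e_0_3 : T.picMatrix 0 3 = 1)
    (e_0_4 : T.picMatrix 0 4 = 0)
    (e_1_0 : T.picMatrix 1 0 = 1)
    (e_1_2 : T.picMatrix 1 2 = 0)
    (e_1_3 : T.picMatrix 1 3 = 0)
    (e_1_4 : T.picMatrix 1 4 = 1)
    (e_2_0 : T.picMatrix 2 0 = 1)
    (e_2_1 : T.picMatrix 2 1 = 0)
    (e_2_3 : T.picMatrix 2 3 = 0)
    (e_2_4 : T.picMatrix 2 4 = 0)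
    (e_3_0 : T.picMatrix 3 0 = 1)
    (e_3_1 : T.picMatrix 3 1 = 0)
    (e_3_2 : T.picMatrix 3 2 = 0)
    (e_3_4 : T.picMatrix 3 4 = 0)
    (e_4_0 : T.picMatrix 4 0 = 0)
    (e_4_1 : T.picMatrix 4 1 = 1)
    (e_4_2 : T.picMatrix 4 2 = 0)
    (e_4_3 : T.picMatrix 4 3 = 0)
    (cl : ∀ a b : Fin 6, a.val < 3 → 5 ≤ b.val → T.picMatrix a b = 0) :
    Goal T := by
  by_cases hc : ∀ b : Fin 6, 5 ≤ b.val → T.picMatrix 3 b = 0
  · exact nd_169 T hG hmax e_0_1 e_0_2 e_0_3 e_0_4 e_1_0 e_1_2 e_1_3 e_1_4 e_2_0 e_2_1 e_2_3 e_2_4 e_3_0 e_3_1 e_3_2 e_3_4 e_4_0 e_4_1 e_4_2 e_4_3 (nt_cl_succ T 5 3 3 rfl cl hc)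
  · obtain ⟨τ, hfix, cl', z, hne⟩ := nt_wlog_step T 5 (by norm_num) 3 (by norm_num) 3 (by decide) cl hc
    apply goal_relabel T τ
    refine ex_174 (ntRelabel T τ) (hG.relabel τ) ?_ ?_ ?_ ?_ ?_ ?_ ?_ ?_ ?_ ?_ ?_ ?_ ?_ ?_ ?_ ?_ ?_ ?_ ?_ ?_ ?_ cl' z hne
    · intro j
      show T.m (τ j) ≤ T.m (τ 0)
      rw [hfix 0 (by decide)]
      exact hmax _
    · show T.picMatrix (τ 0) (τ 1) = 1
      rw [hfix 0 (by decide), hfix 1 (by decide)]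
      exact e_0_1
    · show T.picMatrix (τ 0) (τ 2) = 1
      rw [hfix 0 (by decide), hfix 2 (by decide)]
      exact e_0_2
    · show T.picMatrix (τ 0) (τ 3) = 1
      rw [hfix 0 (by decide), hfix 3 (by decide)]
      exact e_0_3
    · show T.picMatrix (τ 0) (τ 4) = 0
      rw [hfix 0 (by decide), hfix 4 (by decide)]
      exact e_0_4
    · show T.picMatrix (τ 1) (τ 0) = 1
      rw [hfix 1 (by decide), hfix 0 (by decide)]
      exact e_1_0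
    · show T.picMatrix (τ 1) (τ 2) = 0
      rw [hfix 1 (by decide), hfix 2 (by decide)]
      exact e_1_2
    · show T.picMatrix (τ 1) (τ 3) = 0
      rw [hfix 1 (by decide), hfix 3 (by decide)]
      exact e_1_3
    · show T.picMatrix (τ 1) (τ 4) = 1
      rw [hfix 1 (by decide), hfix 4 (by decide)]
      exact e_1_4
    · show T.picMatrix (τ 2) (τ 0) = 1
      rw [hfix 2 (by decide), hfix 0 (by decide)]
      exact e_2_0
    · show T.picMatrix (τ 2) (τ 1) = 0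
      rw [hfix 2 (by decide), hfix 1 (by decide)]
      exact e_2_1
    · show T.picMatrix (τ 2) (τ 3) = 0
      rw [hfix 2 (by decide), hfix 3 (by decide)]
      exact e_2_3
    · show T.picMatrix (τ 2) (τ 4) = 0
      rw [hfix 2 (by decide), hfix 4 (by decide)]
      exact e_2_4
    · show T.picMatrix (τ 3) (τ 0) = 1
      rw [hfix 3 (by decide), hfix 0 (by decide)]
      exact e_3_0
    · show T.picMatrix (τ 3) (τ 1) = 0
      rw [hfix 3 (by decide), hfix 1 (by decide)]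
      exact e_3_1
    · show T.picMatrix (τ 3) (τ 2) = 0
      rw [hfix 3 (by decide), hfix 2 (by decide)]
      exact e_3_2
    · show T.picMatrix (τ 3) (τ 4) = 0
      rw [hfix 3 (by decide), hfix 4 (by decide)]
      exact e_3_4
    · show T.picMatrix (τ 4) (τ 0) = 0
      rw [hfix 4 (by decide), hfix 0 (by decide)]
      exact e_4_0
    · show T.picMatrix (τ 4) (τ 1) = 1
      rw [hfix 4 (by decide), hfix 1 (by decide)]
      exact e_4_1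
    · show T.picMatrix (τ 4) (τ 2) = 0
      rw [hfix 4 (by decide), hfix 2 (by decide)]
      exact e_4_2
    · show T.picMatrix (τ 4) (τ 3) = 0
      rw [hfix 4 (by decide), hfix 3 (by decide)]
      exact e_4_3

theorem ex_175 (T : Models.NumericalType 6)
    (hG : NTGood T)
    (hmax : ∀ j, T.m j ≤ T.m 0)
    (e_0_1 : T.picMatrix 0 1 = 1)
    (e_0_2 : T.picMatrix 0 2 = 1)
    (e_0_3 : T.picMatrix 0 3 = 1)
    (e_0_4 : T.picMatrix 0 4 = 0)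
    (e_1_0 : T.picMatrix 1 0 = 1)
    (e_1_2 : T.picMatrix 1 2 = 0)
    (e_1_3 : T.picMatrix 1 3 = 0)
    (e_1_4 : T.picMatrix 1 4 = 1)
    (e_2_0 : T.picMatrix 2 0 = 1)
    (e_2_1 : T.picMatrix 2 1 = 0)
    (e_2_3 : T.picMatrix 2 3 = 0)
    (e_2_4 : T.picMatrix 2 4 = 0)
    (e_3_0 : T.picMatrix 3 0 = 1)
    (e_3_1 : T.picMatrix 3 1 = 0)
    (e_3_2 : T.picMatrix 3 2 = 0)
    (e_3_4 : T.picMatrix 3 4 = 0)
    (e_4_0 : T.picMatrix 4 0 = 0)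
    (e_4_1 : T.picMatrix 4 1 = 1)
    (e_4_2 : T.picMatrix 4 2 = 0)
    (e_4_3 : T.picMatrix 4 3 = 0)
    (cl : ∀ a b : Fin 6, a.val < 2 → 6 ≤ b.val → T.picMatrix a b = 0)
    (z : ∀ a : Fin 6, a.val < 2 → T.picMatrix a 5 = 0)
    (hne : T.picMatrix 2 5 ≠ 0) :
    Goal T := by
  have e_0_5 : T.picMatrix 0 5 = 0 := z 0 (by decide)
  have e_5_0 : T.picMatrix 5 0 = 0 := nt_pic_zero_symm T 0 5 e_0_5
  have e_1_5 : T.picMatrix 1 5 = 0 := z 1 (by decide)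
  have e_5_1 : T.picMatrix 5 1 = 0 := nt_pic_zero_symm T 1 5 e_1_5
  obtain ⟨hg0, hdA, hdP, hnn, hrow, hsym, hpair⟩ := ntgood_data T (by norm_num) hG
  have hm_0 := T.m_pos 0
  have hw_0 := T.w_pos 0
  have hm_1 := T.m_pos 1
  have hw_1 := T.w_pos 1
  have hm_2 := T.m_pos 2
  have hw_2 := T.w_pos 2
  have hm_3 := T.m_pos 3
  have hw_3 := T.w_pos 3
  have hm_4 := T.m_pos 4
  have hw_4 := T.w_pos 4
  have hm_5 := T.m_pos 5
  have hw_5 := T.w_pos 5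
  have hx_1 := hmax 1
  have hx_2 := hmax 2
  have hx_3 := hmax 3
  have hx_4 := hmax 4
  have hx_5 := hmax 5
  have N_2_5 := mul_nonneg (hnn 2 5 (by decide)) (T.m_pos 5).le
  have N_5_2 := mul_nonneg (hnn 5 2 (by decide)) (T.m_pos 2).le
  have N_3_5 := mul_nonneg (hnn 3 5 (by decide)) (T.m_pos 5).le
  have N_5_3 := mul_nonneg (hnn 5 3 (by decide)) (T.m_pos 3).le
  have N_4_5 := mul_nonneg (hnn 4 5 (by decide)) (T.m_pos 5).le
  have N_5_4 := mul_nonneg (hnn 5 4 (by decide)) (T.m_pos 4).le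
  have R_0 := hrow 0
  rw [Fin.sum_univ_six, hdP 0, e_0_1, e_0_2, e_0_3, e_0_4, e_0_5] at R_0
  have R_1 := hrow 1
  rw [Fin.sum_univ_six, hdP 1, e_1_0, e_1_2, e_1_3, e_1_4, e_1_5] at R_1
  have R_2 := hrow 2
  rw [Fin.sum_univ_six, hdP 2, e_2_0, e_2_1, e_2_3, e_2_4] at R_2
  have R_3 := hrow 3
  rw [Fin.sum_univ_six, hdP 3, e_3_0, e_3_1, e_3_2, e_3_4] at R_3
  have R_4 := hrow 4
  rw [Fin.sum_univ_six, hdP 4, e_4_0, e_4_1, e_4_2, e_4_3] at R_4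
  have R_5 := hrow 5
  rw [Fin.sum_univ_six, hdP 5, e_5_0, e_5_1] at R_5
  have S_0_1 := hsym 0 1
  rw [e_0_1, e_1_0] at S_0_1
  have S_0_2 := hsym 0 2
  rw [e_0_2, e_2_0] at S_0_2
  have S_0_3 := hsym 0 3
  rw [e_0_3, e_3_0] at S_0_3
  have S_0_4 := hsym 0 4
  rw [e_0_4, e_4_0] at S_0_4
  have S_0_5 := hsym 0 5
  rw [e_0_5, e_5_0] at S_0_5
  have S_1_2 := hsym 1 2
  rw [e_1_2, e_2_1] at S_1_2
  have S_1_3 := hsym 1 3
  rw [e_1_3, e_3_1] at S_1_3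
  have S_1_4 := hsym 1 4
  rw [e_1_4, e_4_1] at S_1_4
  have S_1_5 := hsym 1 5
  rw [e_1_5, e_5_1] at S_1_5
  have S_2_3 := hsym 2 3
  rw [e_2_3, e_3_2] at S_2_3
  have S_2_4 := hsym 2 4
  rw [e_2_4, e_4_2] at S_2_4
  have S_2_5 := hsym 2 5
  have S_3_4 := hsym 3 4
  rw [e_3_4, e_4_3] at S_3_4
  have S_3_5 := hsym 3 5
  have S_4_5 := hsym 4 5
  have Q_2 := hpair 2 5 (by decide)
  have Q_3 := hpair 3 5 (by decide)
  have Q_4 := hpair 4 5 (by decide)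
  generalize e_2_5 : T.picMatrix 2 5 = x_2 at *
  generalize e_5_2 : T.picMatrix 5 2 = y_2 at *
  generalize e_3_5 : T.picMatrix 3 5 = x_3 at *
  generalize e_5_3 : T.picMatrix 5 3 = y_3 at *
  generalize e_4_5 : T.picMatrix 4 5 = x_4 at *
  generalize e_5_4 : T.picMatrix 5 4 = y_4 at *
  rcases Q_2 with ⟨rfl, rfl⟩ | ⟨rfl, rfl⟩ | ⟨rfl, rfl⟩ | ⟨rfl, rfl⟩ | ⟨rfl, rfl⟩ | ⟨rfl, rfl⟩ | ⟨rfl, rfl⟩ | ⟨rfl, rfl⟩ | ⟨rfl, rfl⟩
  · exact absurd rfl hne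
  · -- (2,5) = (1,1)
    rcases Q_3 with ⟨rfl, rfl⟩ | ⟨rfl, rfl⟩ | ⟨rfl, rfl⟩ | ⟨rfl, rfl⟩ | ⟨rfl, rfl⟩ | ⟨rfl, rfl⟩ | ⟨rfl, rfl⟩ | ⟨rfl, rfl⟩ | ⟨rfl, rfl⟩
    · -- (3,5) = (0,0)
      rcases Q_4 with ⟨rfl, rfl⟩ | ⟨rfl, rfl⟩ | ⟨rfl, rfl⟩ | ⟨rfl, rfl⟩ | ⟨rfl, rfl⟩ | ⟨rfl, rfl⟩ | ⟨rfl, rfl⟩ | ⟨rfl, rfl⟩ | ⟨rfl, rfl⟩
      · -- (4,5) = (0,0)
        omega
      · -- (4,5) = (1,1)
        omega
      · -- (4,5) = (1,2)
        omega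
      · -- (4,5) = (2,1)
        omega
      · -- (4,5) = (1,3)
        omega
      · -- (4,5) = (3,1)
        omega
      · -- (4,5) = (1,4)
        omega
      · -- (4,5) = (4,1)
        omega
      · -- (4,5) = (2,2)
        omega
    · omega
    · omega
    · omega
    · omega
    · omega
    · omega
    · omega
    · omega
  · omega
  · omega
  · omega
  · omega
  · omega
  · omega
  · omega

theorem nd_167 (T : Models.NumericalType 6)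
    (hG : NTGood T)
    (hmax : ∀ j, T.m j ≤ T.m 0)
    (e_0_1 : T.picMatrix 0 1 = 1)
    (e_0_2 : T.picMatrix 0 2 = 1)
    (e_0_3 : T.picMatrix 0 3 = 1)
    (e_0_4 : T.picMatrix 0 4 = 0)
    (e_1_0 : T.picMatrix 1 0 = 1)
    (e_1_2 : T.picMatrix 1 2 = 0)
    (e_1_3 : T.picMatrix 1 3 = 0)
    (e_1_4 : T.picMatrix 1 4 = 1)
    (e_2_0 : T.picMatrix 2 0 = 1)
    (e_2_1 : T.picMatrix 2 1 = 0)
    (e_2_3 : T.picMatrix 2 3 = 0)
    (e_2_4 : T.picMatrix 2 4 = 0)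
    (e_3_0 : T.picMatrix 3 0 = 1)
    (e_3_1 : T.picMatrix 3 1 = 0)
    (e_3_2 : T.picMatrix 3 2 = 0)
    (e_3_4 : T.picMatrix 3 4 = 0)
    (e_4_0 : T.picMatrix 4 0 = 0)
    (e_4_1 : T.picMatrix 4 1 = 1)
    (e_4_2 : T.picMatrix 4 2 = 0)
    (e_4_3 : T.picMatrix 4 3 = 0)
    (cl : ∀ a b : Fin 6, a.val < 2 → 5 ≤ b.val → T.picMatrix a b = 0) :
    Goal T := by
  by_cases hc : ∀ b : Fin 6, 5 ≤ b.val → T.picMatrix 2 b = 0
  · exact nd_168 T hG hmax e_0_1 e_0_2 e_0_3 e_0_4 e_1_0 e_1_2 e_1_3 e_1_4 e_2_0 e_2_1 e_2_3 e_2_4 e_3_0 e_3_1 e_3_2 e_3_4 e_4_0 e_4_1 e_4_2 e_4_3 (nt_cl_succ T 5 2 2 rfl cl hc)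
  · obtain ⟨τ, hfix, cl', z, hne⟩ := nt_wlog_step T 5 (by norm_num) 2 (by norm_num) 2 (by decide) cl hc
    apply goal_relabel T τ
    refine ex_175 (ntRelabel T τ) (hG.relabel τ) ?_ ?_ ?_ ?_ ?_ ?_ ?_ ?_ ?_ ?_ ?_ ?_ ?_ ?_ ?_ ?_ ?_ ?_ ?_ ?_ ?_ cl' z hne
    · intro j
      show T.m (τ j) ≤ T.m (τ 0)
      rw [hfix 0 (by decide)]
      exact hmax _
    · show T.picMatrix (τ 0) (τ 1) = 1
      rw [hfix 0 (by decide), hfix 1 (by decide)]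
      exact e_0_1
    · show T.picMatrix (τ 0) (τ 2) = 1
      rw [hfix 0 (by decide), hfix 2 (by decide)]
      exact e_0_2
    · show T.picMatrix (τ 0) (τ 3) = 1
      rw [hfix 0 (by decide), hfix 3 (by decide)]
      exact e_0_3
    · show T.picMatrix (τ 0) (τ 4) = 0
      rw [hfix 0 (by decide), hfix 4 (by decide)]
      exact e_0_4
    · show T.picMatrix (τ 1) (τ 0) = 1
      rw [hfix 1 (by decide), hfix 0 (by decide)]
      exact e_1_0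
    · show T.picMatrix (τ 1) (τ 2) = 0
      rw [hfix 1 (by decide), hfix 2 (by decide)]
      exact e_1_2
    · show T.picMatrix (τ 1) (τ 3) = 0
      rw [hfix 1 (by decide), hfix 3 (by decide)]
      exact e_1_3
    · show T.picMatrix (τ 1) (τ 4) = 1
      rw [hfix 1 (by decide), hfix 4 (by decide)]
      exact e_1_4
    · show T.picMatrix (τ 2) (τ 0) = 1
      rw [hfix 2 (by decide), hfix 0 (by decide)]
      exact e_2_0
    · show T.picMatrix (τ 2) (τ 1) = 0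
      rw [hfix 2 (by decide), hfix 1 (by decide)]
      exact e_2_1
    · show T.picMatrix (τ 2) (τ 3) = 0
      rw [hfix 2 (by decide), hfix 3 (by decide)]
      exact e_2_3
    · show T.picMatrix (τ 2) (τ 4) = 0
      rw [hfix 2 (by decide), hfix 4 (by decide)]
      exact e_2_4
    · show T.picMatrix (τ 3) (τ 0) = 1
      rw [hfix 3 (by decide), hfix 0 (by decide)]
      exact e_3_0
    · show T.picMatrix (τ 3) (τ 1) = 0
      rw [hfix 3 (by decide), hfix 1 (by decide)]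
      exact e_3_1
    · show T.picMatrix (τ 3) (τ 2) = 0
      rw [hfix 3 (by decide), hfix 2 (by decide)]
      exact e_3_2
    · show T.picMatrix (τ 3) (τ 4) = 0
      rw [hfix 3 (by decide), hfix 4 (by decide)]
      exact e_3_4
    · show T.picMatrix (τ 4) (τ 0) = 0
      rw [hfix 4 (by decide), hfix 0 (by decide)]
      exact e_4_0
    · show T.picMatrix (τ 4) (τ 1) = 1
      rw [hfix 4 (by decide), hfix 1 (by decide)]
      exact e_4_1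
    · show T.picMatrix (τ 4) (τ 2) = 0
      rw [hfix 4 (by decide), hfix 2 (by decide)]
      exact e_4_2
    · show T.picMatrix (τ 4) (τ 3) = 0
      rw [hfix 4 (by decide), hfix 3 (by decide)]
      exact e_4_3

theorem nd_177 (T : Models.NumericalType 6)
    (hG : NTGood T)
    (hmax : ∀ j, T.m j ≤ T.m 0)
    (e_0_1 : T.picMatrix 0 1 = 1)
    (e_0_2 : T.picMatrix 0 2 = 1)
    (e_0_3 : T.picMatrix 0 3 = 1)
    (e_0_4 : T.picMatrix 0 4 = 0)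
    (e_0_5 : T.picMatrix 0 5 = 0)
    (e_1_0 : T.picMatrix 1 0 = 1)
    (e_1_2 : T.picMatrix 1 2 = 0)
    (e_1_3 : T.picMatrix 1 3 = 0)
    (e_1_4 : T.picMatrix 1 4 = 1)
    (e_1_5 : T.picMatrix 1 5 = 1)
    (e_2_0 : T.picMatrix 2 0 = 1)
    (e_2_1 : T.picMatrix 2 1 = 0)
    (e_2_3 : T.picMatrix 2 3 = 0)
    (e_2_4 : T.picMatrix 2 4 = 0)
    (e_2_5 : T.picMatrix 2 5 = 0)
    (e_3_0 : T.picMatrix 3 0 = 1)
    (e_3_1 : T.picMatrix 3 1 = 0)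
    (e_3_2 : T.picMatrix 3 2 = 0)
    (e_3_4 : T.picMatrix 3 4 = 0)
    (e_3_5 : T.picMatrix 3 5 = 0)
    (e_4_0 : T.picMatrix 4 0 = 0)
    (e_4_1 : T.picMatrix 4 1 = 1)
    (e_4_2 : T.picMatrix 4 2 = 0)
    (e_4_3 : T.picMatrix 4 3 = 0)
    (e_4_5 : T.picMatrix 4 5 = 0)
    (e_5_0 : T.picMatrix 5 0 = 0)
    (e_5_1 : T.picMatrix 5 1 = 1)
    (e_5_2 : T.picMatrix 5 2 = 0)
    (e_5_3 : T.picMatrix 5 3 = 0)
    (e_5_4 : T.picMatrix 5 4 = 0)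
    (cl : ∀ a b : Fin 6, a.val < 1 → 6 ≤ b.val → T.picMatrix a b = 0) :
    Goal T := by
  obtain ⟨hg0, hdA, hdP, hnn, hrow, hsym, hpair⟩ := ntgood_data T (by norm_num) hG
  have hm_0 := T.m_pos 0
  have hw_0 := T.w_pos 0
  have hm_1 := T.m_pos 1
  have hw_1 := T.w_pos 1
  have hm_2 := T.m_pos 2
  have hw_2 := T.w_pos 2
  have hm_3 := T.m_pos 3
  have hw_3 := T.w_pos 3
  have hm_4 := T.m_pos 4
  have hw_4 := T.w_pos 4
  have hm_5 := T.m_pos 5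
  have hw_5 := T.w_pos 5
  have hx_1 := hmax 1
  have hx_2 := hmax 2
  have hx_3 := hmax 3
  have hx_4 := hmax 4
  have hx_5 := hmax 5
  have R_0 := hrow 0
  rw [Fin.sum_univ_six, hdP 0, e_0_1, e_0_2, e_0_3, e_0_4, e_0_5] at R_0
  have R_1 := hrow 1
  rw [Fin.sum_univ_six, hdP 1, e_1_0, e_1_2, e_1_3, e_1_4, e_1_5] at R_1
  have R_2 := hrow 2
  rw [Fin.sum_univ_six, hdP 2, e_2_0, e_2_1, e_2_3, e_2_4, e_2_5] at R_2
  have R_3 := hrow 3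
  rw [Fin.sum_univ_six, hdP 3, e_3_0, e_3_1, e_3_2, e_3_4, e_3_5] at R_3
  have R_4 := hrow 4
  rw [Fin.sum_univ_six, hdP 4, e_4_0, e_4_1, e_4_2, e_4_3, e_4_5] at R_4
  have R_5 := hrow 5
  rw [Fin.sum_univ_six, hdP 5, e_5_0, e_5_1, e_5_2, e_5_3, e_5_4] at R_5
  have S_0_1 := hsym 0 1
  rw [e_0_1, e_1_0] at S_0_1
  have S_0_2 := hsym 0 2
  rw [e_0_2, e_2_0] at S_0_2
  have S_0_3 := hsym 0 3
  rw [e_0_3, e_3_0] at S_0_3
  have S_0_4 := hsym 0 4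
  rw [e_0_4, e_4_0] at S_0_4
  have S_0_5 := hsym 0 5
  rw [e_0_5, e_5_0] at S_0_5
  have S_1_2 := hsym 1 2
  rw [e_1_2, e_2_1] at S_1_2
  have S_1_3 := hsym 1 3
  rw [e_1_3, e_3_1] at S_1_3
  have S_1_4 := hsym 1 4
  rw [e_1_4, e_4_1] at S_1_4
  have S_1_5 := hsym 1 5
  rw [e_1_5, e_5_1] at S_1_5
  have S_2_3 := hsym 2 3
  rw [e_2_3, e_3_2] at S_2_3
  have S_2_4 := hsym 2 4
  rw [e_2_4, e_4_2] at S_2_4
  have S_2_5 := hsym 2 5
  rw [e_2_5, e_5_2] at S_2_5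
  have S_3_4 := hsym 3 4
  rw [e_3_4, e_4_3] at S_3_4
  have S_3_5 := hsym 3 5
  rw [e_3_5, e_5_3] at S_3_5
  have S_4_5 := hsym 4 5
  rw [e_4_5, e_5_4] at S_4_5
  have D_0 := hdA 0
  have A_0_1 := nt_a_eq T 0 1
  rw [e_0_1] at A_0_1
  have A_0_2 := nt_a_eq T 0 2
  rw [e_0_2] at A_0_2
  have A_0_3 := nt_a_eq T 0 3
  rw [e_0_3] at A_0_3
  have A_0_4 := nt_a_eq T 0 4
  rw [e_0_4] at A_0_4
  have A_0_5 := nt_a_eq T 0 5
  rw [e_0_5] at A_0_5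
  have D_1 := hdA 1
  have A_1_0 := nt_a_eq T 1 0
  rw [e_1_0] at A_1_0
  have A_1_2 := nt_a_eq T 1 2
  rw [e_1_2] at A_1_2
  have A_1_3 := nt_a_eq T 1 3
  rw [e_1_3] at A_1_3
  have A_1_4 := nt_a_eq T 1 4
  rw [e_1_4] at A_1_4
  have A_1_5 := nt_a_eq T 1 5
  rw [e_1_5] at A_1_5
  have D_2 := hdA 2
  have A_2_0 := nt_a_eq T 2 0
  rw [e_2_0] at A_2_0
  have A_2_1 := nt_a_eq T 2 1
  rw [e_2_1] at A_2_1
  have A_2_3 := nt_a_eq T 2 3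
  rw [e_2_3] at A_2_3
  have A_2_4 := nt_a_eq T 2 4
  rw [e_2_4] at A_2_4
  have A_2_5 := nt_a_eq T 2 5
  rw [e_2_5] at A_2_5
  have D_3 := hdA 3
  have A_3_0 := nt_a_eq T 3 0
  rw [e_3_0] at A_3_0
  have A_3_1 := nt_a_eq T 3 1
  rw [e_3_1] at A_3_1
  have A_3_2 := nt_a_eq T 3 2
  rw [e_3_2] at A_3_2
  have A_3_4 := nt_a_eq T 3 4
  rw [e_3_4] at A_3_4
  have A_3_5 := nt_a_eq T 3 5
  rw [e_3_5] at A_3_5
  have D_4 := hdA 4
  have A_4_0 := nt_a_eq T 4 0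
  rw [e_4_0] at A_4_0
  have A_4_1 := nt_a_eq T 4 1
  rw [e_4_1] at A_4_1
  have A_4_2 := nt_a_eq T 4 2
  rw [e_4_2] at A_4_2
  have A_4_3 := nt_a_eq T 4 3
  rw [e_4_3] at A_4_3
  have A_4_5 := nt_a_eq T 4 5
  rw [e_4_5] at A_4_5
  have D_5 := hdA 5
  have A_5_0 := nt_a_eq T 5 0
  rw [e_5_0] at A_5_0
  have A_5_1 := nt_a_eq T 5 1
  rw [e_5_1] at A_5_1
  have A_5_2 := nt_a_eq T 5 2
  rw [e_5_2] at A_5_2
  have A_5_3 := nt_a_eq T 5 3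
  rw [e_5_3] at A_5_3
  have A_5_4 := nt_a_eq T 5 4
  rw [e_5_4] at A_5_4
  refine goal_of_indices T hg0 2 3 0 1 4 5 (by decide) (T.m 2) (T.w 2) ?_
  unfold Goali
  exact Or.inr (Or.inr (Or.inr (Or.inr (Or.inr (Or.inr (⟨rfl,
      (by have h : (2 : ℤ) * (T.m 3 - (T.m 2)) = 0 := (by linear_combination (1) * R_2 + (-1) * R_3); exact eq_of_sub_eq_zero ((mul_eq_zero.mp h).resolve_left (by norm_num))),
      (by linear_combination (1) * R_2),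
      (by have h : (2 : ℤ) * (T.m 1 - (2 * T.m 2)) = 0 := (by linear_combination (2) * R_0 + (3) * R_2 + (1) * R_3); exact eq_of_sub_eq_zero ((mul_eq_zero.mp h).resolve_left (by norm_num))),
      (by have h : (4 : ℤ) * (T.m 4 - (T.m 2)) = 0 := (by linear_combination (2) * R_0 + (3) * R_2 + (1) * R_3 + (-2) * R_4); exact eq_of_sub_eq_zero ((mul_eq_zero.mp h).resolve_left (by norm_num))),
      (by have h : (4 : ℤ) * (T.m 5 - (T.m 2)) = 0 := (by linear_combination (6) * R_0 + (4) * R_1 + (5) * R_2 + (3) * R_3 + (2) * R_4); exact eq_of_sub_eq_zero ((mul_eq_zero.mp h).resolve_left (by norm_num))),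
      rfl,
      (by linear_combination (1) * S_0_2 + (-1) * S_0_3),
      (by linear_combination (1) * S_0_2),
      (by linear_combination (-1) * S_0_1 + (1) * S_0_2),
      (by linear_combination (-1) * S_0_1 + (1) * S_0_2 + (-1) * S_1_4),
      (by linear_combination (-1) * S_0_1 + (1) * S_0_2 + (-1) * S_1_5),
      (by linear_combination (1) * D_2),
      (by linear_combination (1) * A_2_3),
      (by linear_combination (1) * A_2_0),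
      (by linear_combination (1) * A_2_1),
      (by linear_combination (1) * A_2_4),
      (by linear_combination (1) * A_2_5),
      (by linear_combination (-2) * S_0_2 + (2) * S_0_3 + (1) * D_3),
      (by linear_combination (1) * S_0_2 + (-1) * S_0_3 + (1) * A_3_0),
      (by linear_combination (1) * A_3_1),
      (by linear_combination (1) * A_3_4),
      (by linear_combination (1) * A_3_5),
      (by linear_combination (-2) * S_0_2 + (1) * D_0),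
      (by linear_combination (1) * S_0_2 + (1) * A_0_1),
      (by linear_combination (1) * A_0_4),
      (by linear_combination (1) * A_0_5),
      (by linear_combination (2) * S_0_1 + (-2) * S_0_2 + (1) * D_1),
      (by linear_combination (-1) * S_0_1 + (1) * S_0_2 + (1) * A_1_4),
      (by linear_combination (-1) * S_0_1 + (1) * S_0_2 + (1) * A_1_5),
      (by linear_combination (2) * S_0_1 + (-2) * S_0_2 + (2) * S_1_4 + (1) * D_4),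
      (by linear_combination (1) * A_4_5),
      (by linear_combination (2) * S_0_1 + (-2) * S_0_2 + (2) * S_1_5 + (1) * D_5)⟩))))))

theorem ex_176 (T : Models.NumericalType 6)
    (hG : NTGood T)
    (hmax : ∀ j, T.m j ≤ T.m 0)
    (e_0_1 : T.picMatrix 0 1 = 1)
    (e_0_2 : T.picMatrix 0 2 = 1)
    (e_0_3 : T.picMatrix 0 3 = 1)
    (e_0_4 : T.picMatrix 0 4 = 0)
    (e_1_0 : T.picMatrix 1 0 = 1)
    (e_1_2 : T.picMatrix 1 2 = 0)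
    (e_1_3 : T.picMatrix 1 3 = 0)
    (e_1_4 : T.picMatrix 1 4 = 1)
    (e_2_0 : T.picMatrix 2 0 = 1)
    (e_2_1 : T.picMatrix 2 1 = 0)
    (e_2_3 : T.picMatrix 2 3 = 0)
    (e_2_4 : T.picMatrix 2 4 = 0)
    (e_3_0 : T.picMatrix 3 0 = 1)
    (e_3_1 : T.picMatrix 3 1 = 0)
    (e_3_2 : T.picMatrix 3 2 = 0)
    (e_3_4 : T.picMatrix 3 4 = 0)
    (e_4_0 : T.picMatrix 4 0 = 0)
    (e_4_1 : T.picMatrix 4 1 = 1)
    (e_4_2 : T.picMatrix 4 2 = 0)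
    (e_4_3 : T.picMatrix 4 3 = 0)
    (cl : ∀ a b : Fin 6, a.val < 1 → 6 ≤ b.val → T.picMatrix a b = 0)
    (z : ∀ a : Fin 6, a.val < 1 → T.picMatrix a 5 = 0)
    (hne : T.picMatrix 1 5 ≠ 0) :
    Goal T := by
  have e_0_5 : T.picMatrix 0 5 = 0 := z 0 (by decide)
  have e_5_0 : T.picMatrix 5 0 = 0 := nt_pic_zero_symm T 0 5 e_0_5
  obtain ⟨hg0, hdA, hdP, hnn, hrow, hsym, hpair⟩ := ntgood_data T (by norm_num) hG
  have hm_0 := T.m_pos 0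
  have hw_0 := T.w_pos 0
  have hm_1 := T.m_pos 1
  have hw_1 := T.w_pos 1
  have hm_2 := T.m_pos 2
  have hw_2 := T.w_pos 2
  have hm_3 := T.m_pos 3
  have hw_3 := T.w_pos 3
  have hm_4 := T.m_pos 4
  have hw_4 := T.w_pos 4
  have hm_5 := T.m_pos 5
  have hw_5 := T.w_pos 5
  have hx_1 := hmax 1
  have hx_2 := hmax 2
  have hx_3 := hmax 3
  have hx_4 := hmax 4
  have hx_5 := hmax 5
  have N_1_5 := mul_nonneg (hnn 1 5 (by decide)) (T.m_pos 5).le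
  have N_5_1 := mul_nonneg (hnn 5 1 (by decide)) (T.m_pos 1).le
  have N_2_5 := mul_nonneg (hnn 2 5 (by decide)) (T.m_pos 5).le
  have N_5_2 := mul_nonneg (hnn 5 2 (by decide)) (T.m_pos 2).le
  have N_3_5 := mul_nonneg (hnn 3 5 (by decide)) (T.m_pos 5).le
  have N_5_3 := mul_nonneg (hnn 5 3 (by decide)) (T.m_pos 3).le
  have N_4_5 := mul_nonneg (hnn 4 5 (by decide)) (T.m_pos 5).le
  have N_5_4 := mul_nonneg (hnn 5 4 (by decide)) (T.m_pos 4).le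
  have R_0 := hrow 0
  rw [Fin.sum_univ_six, hdP 0, e_0_1, e_0_2, e_0_3, e_0_4, e_0_5] at R_0
  have R_1 := hrow 1
  rw [Fin.sum_univ_six, hdP 1, e_1_0, e_1_2, e_1_3, e_1_4] at R_1
  have R_2 := hrow 2
  rw [Fin.sum_univ_six, hdP 2, e_2_0, e_2_1, e_2_3, e_2_4] at R_2
  have R_3 := hrow 3
  rw [Fin.sum_univ_six, hdP 3, e_3_0, e_3_1, e_3_2, e_3_4] at R_3
  have R_4 := hrow 4
  rw [Fin.sum_univ_six, hdP 4, e_4_0, e_4_1, e_4_2, e_4_3] at R_4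
  have R_5 := hrow 5
  rw [Fin.sum_univ_six, hdP 5, e_5_0] at R_5
  have S_0_1 := hsym 0 1
  rw [e_0_1, e_1_0] at S_0_1
  have S_0_2 := hsym 0 2
  rw [e_0_2, e_2_0] at S_0_2
  have S_0_3 := hsym 0 3
  rw [e_0_3, e_3_0] at S_0_3
  have S_0_4 := hsym 0 4
  rw [e_0_4, e_4_0] at S_0_4
  have S_0_5 := hsym 0 5
  rw [e_0_5, e_5_0] at S_0_5
  have S_1_2 := hsym 1 2
  rw [e_1_2, e_2_1] at S_1_2
  have S_1_3 := hsym 1 3
  rw [e_1_3, e_3_1] at S_1_3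
  have S_1_4 := hsym 1 4
  rw [e_1_4, e_4_1] at S_1_4
  have S_1_5 := hsym 1 5
  have S_2_3 := hsym 2 3
  rw [e_2_3, e_3_2] at S_2_3
  have S_2_4 := hsym 2 4
  rw [e_2_4, e_4_2] at S_2_4
  have S_2_5 := hsym 2 5
  have S_3_4 := hsym 3 4
  rw [e_3_4, e_4_3] at S_3_4
  have S_3_5 := hsym 3 5
  have S_4_5 := hsym 4 5
  have Q_1 := hpair 1 5 (by decide)
  have Q_2 := hpair 2 5 (by decide)
  have Q_3 := hpair 3 5 (by decide)
  have Q_4 := hpair 4 5 (by decide)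
  generalize e_1_5 : T.picMatrix 1 5 = x_1 at *
  generalize e_5_1 : T.picMatrix 5 1 = y_1 at *
  generalize e_2_5 : T.picMatrix 2 5 = x_2 at *
  generalize e_5_2 : T.picMatrix 5 2 = y_2 at *
  generalize e_3_5 : T.picMatrix 3 5 = x_3 at *
  generalize e_5_3 : T.picMatrix 5 3 = y_3 at *
  generalize e_4_5 : T.picMatrix 4 5 = x_4 at *
  generalize e_5_4 : T.picMatrix 5 4 = y_4 at *
  rcases Q_1 with ⟨rfl, rfl⟩ | ⟨rfl, rfl⟩ | ⟨rfl, rfl⟩ | ⟨rfl, rfl⟩ | ⟨rfl, rfl⟩ | ⟨rfl, rfl⟩ | ⟨rfl, rfl⟩ | ⟨rfl, rfl⟩ | ⟨rfl, rfl⟩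
  · exact absurd rfl hne
  · -- (1,5) = (1,1)
    rcases Q_2 with ⟨rfl, rfl⟩ | ⟨rfl, rfl⟩ | ⟨rfl, rfl⟩ | ⟨rfl, rfl⟩ | ⟨rfl, rfl⟩ | ⟨rfl, rfl⟩ | ⟨rfl, rfl⟩ | ⟨rfl, rfl⟩ | ⟨rfl, rfl⟩
    · -- (2,5) = (0,0)
      rcases Q_3 with ⟨rfl, rfl⟩ | ⟨rfl, rfl⟩ | ⟨rfl, rfl⟩ | ⟨rfl, rfl⟩ | ⟨rfl, rfl⟩ | ⟨rfl, rfl⟩ | ⟨rfl, rfl⟩ | ⟨rfl, rfl⟩ | ⟨rfl, rfl⟩
      · -- (3,5) = (0,0)
        rcases Q_4 with ⟨rfl, rfl⟩ | ⟨rfl, rfl⟩ | ⟨rfl, rfl⟩ | ⟨rfl, rfl⟩ | ⟨rfl, rfl⟩ | ⟨rfl, rfl⟩ | ⟨rfl, rfl⟩ | ⟨rfl, rfl⟩ | ⟨rfl, rfl⟩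
        · -- (4,5) = (0,0)
          exact nd_177 T hG hmax e_0_1 e_0_2 e_0_3 e_0_4 e_0_5 e_1_0 e_1_2 e_1_3 e_1_4 e_1_5 e_2_0 e_2_1 e_2_3 e_2_4 e_2_5 e_3_0 e_3_1 e_3_2 e_3_4 e_3_5 e_4_0 e_4_1 e_4_2 e_4_3 e_4_5 e_5_0 e_5_1 e_5_2 e_5_3 e_5_4 cl
        · -- (4,5) = (1,1)
          omega
        · -- (4,5) = (1,2)
          omega
        · -- (4,5) = (2,1)
          omega
        · -- (4,5) = (1,3)
          omega
        · -- (4,5) = (3,1)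
          omega
        · -- (4,5) = (1,4)
          omega
        · -- (4,5) = (4,1)
          omega
        · -- (4,5) = (2,2)
          omega
      · omega
      · omega
      · omega
      · omega
      · omega
      · omega
      · omega
      · omega
    · omega
    · omega
    · omega
    · omega
    · omega
    · omega
    · omega
    · omega
  · omega
  · omega
  · omega
  · omega
  · omega
  · omega
  · omega

theorem nd_166 (T : Models.NumericalType 6)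
    (hG : NTGood T)
    (hmax : ∀ j, T.m j ≤ T.m 0)
    (e_0_1 : T.picMatrix 0 1 = 1)
    (e_0_2 : T.picMatrix 0 2 = 1)
    (e_0_3 : T.picMatrix 0 3 = 1)
    (e_0_4 : T.picMatrix 0 4 = 0)
    (e_1_0 : T.picMatrix 1 0 = 1)
    (e_1_2 : T.picMatrix 1 2 = 0)
    (e_1_3 : T.picMatrix 1 3 = 0)
    (e_1_4 : T.picMatrix 1 4 = 1)
    (e_2_0 : T.picMatrix 2 0 = 1)
    (e_2_1 : T.picMatrix 2 1 = 0)
    (e_2_3 : T.picMatrix 2 3 = 0)
    (e_2_4 : T.picMatrix 2 4 = 0)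
    (e_3_0 : T.picMatrix 3 0 = 1)
    (e_3_1 : T.picMatrix 3 1 = 0)
    (e_3_2 : T.picMatrix 3 2 = 0)
    (e_3_4 : T.picMatrix 3 4 = 0)
    (e_4_0 : T.picMatrix 4 0 = 0)
    (e_4_1 : T.picMatrix 4 1 = 1)
    (e_4_2 : T.picMatrix 4 2 = 0)
    (e_4_3 : T.picMatrix 4 3 = 0)
    (cl : ∀ a b : Fin 6, a.val < 1 → 5 ≤ b.val → T.picMatrix a b = 0) :
    Goal T := by
  by_cases hc : ∀ b : Fin 6, 5 ≤ b.val → T.picMatrix 1 b = 0
  · exact nd_167 T hG hmax e_0_1 e_0_2 e_0_3 e_0_4 e_1_0 e_1_2 e_1_3 e_1_4 e_2_0 e_2_1 e_2_3 e_2_4 e_3_0 e_3_1 e_3_2 e_3_4 e_4_0 e_4_1 e_4_2 e_4_3 (nt_cl_succ T 5 1 1 rfl cl hc)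
  · obtain ⟨τ, hfix, cl', z, hne⟩ := nt_wlog_step T 5 (by norm_num) 1 (by norm_num) 1 (by decide) cl hc
    apply goal_relabel T τ
    refine ex_176 (ntRelabel T τ) (hG.relabel τ) ?_ ?_ ?_ ?_ ?_ ?_ ?_ ?_ ?_ ?_ ?_ ?_ ?_ ?_ ?_ ?_ ?_ ?_ ?_ ?_ ?_ cl' z hne
    · intro j
      show T.m (τ j) ≤ T.m (τ 0)
      rw [hfix 0 (by decide)]
      exact hmax _
    · show T.picMatrix (τ 0) (τ 1) = 1
      rw [hfix 0 (by decide), hfix 1 (by decide)]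
      exact e_0_1
    · show T.picMatrix (τ 0) (τ 2) = 1
      rw [hfix 0 (by decide), hfix 2 (by decide)]
      exact e_0_2
    · show T.picMatrix (τ 0) (τ 3) = 1
      rw [hfix 0 (by decide), hfix 3 (by decide)]
      exact e_0_3
    · show T.picMatrix (τ 0) (τ 4) = 0
      rw [hfix 0 (by decide), hfix 4 (by decide)]
      exact e_0_4
    · show T.picMatrix (τ 1) (τ 0) = 1
      rw [hfix 1 (by decide), hfix 0 (by decide)]
      exact e_1_0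
    · show T.picMatrix (τ 1) (τ 2) = 0
      rw [hfix 1 (by decide), hfix 2 (by decide)]
      exact e_1_2
    · show T.picMatrix (τ 1) (τ 3) = 0
      rw [hfix 1 (by decide), hfix 3 (by decide)]
      exact e_1_3
    · show T.picMatrix (τ 1) (τ 4) = 1
      rw [hfix 1 (by decide), hfix 4 (by decide)]
      exact e_1_4
    · show T.picMatrix (τ 2) (τ 0) = 1
      rw [hfix 2 (by decide), hfix 0 (by decide)]
      exact e_2_0
    · show T.picMatrix (τ 2) (τ 1) = 0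
      rw [hfix 2 (by decide), hfix 1 (by decide)]
      exact e_2_1
    · show T.picMatrix (τ 2) (τ 3) = 0
      rw [hfix 2 (by decide), hfix 3 (by decide)]
      exact e_2_3
    · show T.picMatrix (τ 2) (τ 4) = 0
      rw [hfix 2 (by decide), hfix 4 (by decide)]
      exact e_2_4
    · show T.picMatrix (τ 3) (τ 0) = 1
      rw [hfix 3 (by decide), hfix 0 (by decide)]
      exact e_3_0
    · show T.picMatrix (τ 3) (τ 1) = 0
      rw [hfix 3 (by decide), hfix 1 (by decide)]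
      exact e_3_1
    · show T.picMatrix (τ 3) (τ 2) = 0
      rw [hfix 3 (by decide), hfix 2 (by decide)]
      exact e_3_2
    · show T.picMatrix (τ 3) (τ 4) = 0
      rw [hfix 3 (by decide), hfix 4 (by decide)]
      exact e_3_4
    · show T.picMatrix (τ 4) (τ 0) = 0
      rw [hfix 4 (by decide), hfix 0 (by decide)]
      exact e_4_0
    · show T.picMatrix (τ 4) (τ 1) = 1
      rw [hfix 4 (by decide), hfix 1 (by decide)]
      exact e_4_1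
    · show T.picMatrix (τ 4) (τ 2) = 0
      rw [hfix 4 (by decide), hfix 2 (by decide)]
      exact e_4_2
    · show T.picMatrix (τ 4) (τ 3) = 0
      rw [hfix 4 (by decide), hfix 3 (by decide)]
      exact e_4_3

theorem nd_182 (T : Models.NumericalType 6)
    (hG : NTGood T)
    (hmax : ∀ j, T.m j ≤ T.m 0)
    (e_0_1 : T.picMatrix 0 1 = 1)
    (e_0_2 : T.picMatrix 0 2 = 1)
    (e_0_3 : T.picMatrix 0 3 = 1)
    (e_0_4 : T.picMatrix 0 4 = 0)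
    (e_1_0 : T.picMatrix 1 0 = 1)
    (e_1_2 : T.picMatrix 1 2 = 0)
    (e_1_3 : T.picMatrix 1 3 = 0)
    (e_1_4 : T.picMatrix 1 4 = 1)
    (e_2_0 : T.picMatrix 2 0 = 1)
    (e_2_1 : T.picMatrix 2 1 = 0)
    (e_2_3 : T.picMatrix 2 3 = 0)
    (e_2_4 : T.picMatrix 2 4 = 0)
    (e_3_0 : T.picMatrix 3 0 = 1)
    (e_3_1 : T.picMatrix 3 1 = 0)
    (e_3_2 : T.picMatrix 3 2 = 0)
    (e_3_4 : T.picMatrix 3 4 = 0)
    (e_4_0 : T.picMatrix 4 0 = 0)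
    (e_4_1 : T.picMatrix 4 1 = 2)
    (e_4_2 : T.picMatrix 4 2 = 0)
    (e_4_3 : T.picMatrix 4 3 = 0)
    (cl : ∀ a b : Fin 6, a.val < 5 → 5 ≤ b.val → T.picMatrix a b = 0) :
    Goal T := by
  exact (nt_closed_false T 5 (by norm_num) (by norm_num) cl).elim

theorem ex_183 (T : Models.NumericalType 6)
    (hG : NTGood T)
    (hmax : ∀ j, T.m j ≤ T.m 0)
    (e_0_1 : T.picMatrix 0 1 = 1)
    (e_0_2 : T.picMatrix 0 2 = 1)
    (e_0_3 : T.picMatrix 0 3 = 1)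
    (e_0_4 : T.picMatrix 0 4 = 0)
    (e_1_0 : T.picMatrix 1 0 = 1)
    (e_1_2 : T.picMatrix 1 2 = 0)
    (e_1_3 : T.picMatrix 1 3 = 0)
    (e_1_4 : T.picMatrix 1 4 = 1)
    (e_2_0 : T.picMatrix 2 0 = 1)
    (e_2_1 : T.picMatrix 2 1 = 0)
    (e_2_3 : T.picMatrix 2 3 = 0)
    (e_2_4 : T.picMatrix 2 4 = 0)
    (e_3_0 : T.picMatrix 3 0 = 1)
    (e_3_1 : T.picMatrix 3 1 = 0)
    (e_3_2 : T.picMatrix 3 2 = 0)
    (e_3_4 : T.picMatrix 3 4 = 0)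
    (e_4_0 : T.picMatrix 4 0 = 0)
    (e_4_1 : T.picMatrix 4 1 = 2)
    (e_4_2 : T.picMatrix 4 2 = 0)
    (e_4_3 : T.picMatrix 4 3 = 0)
    (cl : ∀ a b : Fin 6, a.val < 4 → 6 ≤ b.val → T.picMatrix a b = 0)
    (z : ∀ a : Fin 6, a.val < 4 → T.picMatrix a 5 = 0)
    (hne : T.picMatrix 4 5 ≠ 0) :
    Goal T := by
  have e_0_5 : T.picMatrix 0 5 = 0 := z 0 (by decide)
  have e_5_0 : T.picMatrix 5 0 = 0 := nt_pic_zero_symm T 0 5 e_0_5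
  have e_1_5 : T.picMatrix 1 5 = 0 := z 1 (by decide)
  have e_5_1 : T.picMatrix 5 1 = 0 := nt_pic_zero_symm T 1 5 e_1_5
  have e_2_5 : T.picMatrix 2 5 = 0 := z 2 (by decide)
  have e_5_2 : T.picMatrix 5 2 = 0 := nt_pic_zero_symm T 2 5 e_2_5
  have e_3_5 : T.picMatrix 3 5 = 0 := z 3 (by decide)
  have e_5_3 : T.picMatrix 5 3 = 0 := nt_pic_zero_symm T 3 5 e_3_5
  obtain ⟨hg0, hdA, hdP, hnn, hrow, hsym, hpair⟩ := ntgood_data T (by norm_num) hG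
  have hm_0 := T.m_pos 0
  have hw_0 := T.w_pos 0
  have hm_1 := T.m_pos 1
  have hw_1 := T.w_pos 1
  have hm_2 := T.m_pos 2
  have hw_2 := T.w_pos 2
  have hm_3 := T.m_pos 3
  have hw_3 := T.w_pos 3
  have hm_4 := T.m_pos 4
  have hw_4 := T.w_pos 4
  have hm_5 := T.m_pos 5
  have hw_5 := T.w_pos 5
  have hx_1 := hmax 1
  have hx_2 := hmax 2
  have hx_3 := hmax 3
  have hx_4 := hmax 4
  have hx_5 := hmax 5
  have N_4_5 := mul_nonneg (hnn 4 5 (by decide)) (T.m_pos 5).le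
  have N_5_4 := mul_nonneg (hnn 5 4 (by decide)) (T.m_pos 4).le
  have R_0 := hrow 0
  rw [Fin.sum_univ_six, hdP 0, e_0_1, e_0_2, e_0_3, e_0_4, e_0_5] at R_0
  have R_1 := hrow 1
  rw [Fin.sum_univ_six, hdP 1, e_1_0, e_1_2, e_1_3, e_1_4, e_1_5] at R_1
  have R_2 := hrow 2
  rw [Fin.sum_univ_six, hdP 2, e_2_0, e_2_1, e_2_3, e_2_4, e_2_5] at R_2
  have R_3 := hrow 3
  rw [Fin.sum_univ_six, hdP 3, e_3_0, e_3_1, e_3_2, e_3_4, e_3_5] at R_3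
  have R_4 := hrow 4
  rw [Fin.sum_univ_six, hdP 4, e_4_0, e_4_1, e_4_2, e_4_3] at R_4
  have R_5 := hrow 5
  rw [Fin.sum_univ_six, hdP 5, e_5_0, e_5_1, e_5_2, e_5_3] at R_5
  have S_0_1 := hsym 0 1
  rw [e_0_1, e_1_0] at S_0_1
  have S_0_2 := hsym 0 2
  rw [e_0_2, e_2_0] at S_0_2
  have S_0_3 := hsym 0 3
  rw [e_0_3, e_3_0] at S_0_3
  have S_0_4 := hsym 0 4
  rw [e_0_4, e_4_0] at S_0_4
  have S_0_5 := hsym 0 5
  rw [e_0_5, e_5_0] at S_0_5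
  have S_1_2 := hsym 1 2
  rw [e_1_2, e_2_1] at S_1_2
  have S_1_3 := hsym 1 3
  rw [e_1_3, e_3_1] at S_1_3
  have S_1_4 := hsym 1 4
  rw [e_1_4, e_4_1] at S_1_4
  have S_1_5 := hsym 1 5
  rw [e_1_5, e_5_1] at S_1_5
  have S_2_3 := hsym 2 3
  rw [e_2_3, e_3_2] at S_2_3
  have S_2_4 := hsym 2 4
  rw [e_2_4, e_4_2] at S_2_4
  have S_2_5 := hsym 2 5
  rw [e_2_5, e_5_2] at S_2_5
  have S_3_4 := hsym 3 4
  rw [e_3_4, e_4_3] at S_3_4
  have S_3_5 := hsym 3 5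
  rw [e_3_5, e_5_3] at S_3_5
  have S_4_5 := hsym 4 5
  have Q_4 := hpair 4 5 (by decide)
  generalize e_4_5 : T.picMatrix 4 5 = x_4 at *
  generalize e_5_4 : T.picMatrix 5 4 = y_4 at *
  rcases Q_4 with ⟨rfl, rfl⟩ | ⟨rfl, rfl⟩ | ⟨rfl, rfl⟩ | ⟨rfl, rfl⟩ | ⟨rfl, rfl⟩ | ⟨rfl, rfl⟩ | ⟨rfl, rfl⟩ | ⟨rfl, rfl⟩ | ⟨rfl, rfl⟩
  · exact absurd rfl hne
  · -- (4,5) = (1,1)
    omega
  · -- (4,5) = (1,2)
    omega
  · -- (4,5) = (2,1)
    omega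
  · -- (4,5) = (1,3)
    omega
  · -- (4,5) = (3,1)
    omega
  · -- (4,5) = (1,4)
    omega
  · -- (4,5) = (4,1)
    omega
  · -- (4,5) = (2,2)
    omega

theorem nd_181 (T : Models.NumericalType 6)
    (hG : NTGood T)
    (hmax : ∀ j, T.m j ≤ T.m 0)
    (e_0_1 : T.picMatrix 0 1 = 1)
    (e_0_2 : T.picMatrix 0 2 = 1)
    (e_0_3 : T.picMatrix 0 3 = 1)
    (e_0_4 : T.picMatrix 0 4 = 0)
    (e_1_0 : T.picMatrix 1 0 = 1)
    (e_1_2 : T.picMatrix 1 2 = 0)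
    (e_1_3 : T.picMatrix 1 3 = 0)
    (e_1_4 : T.picMatrix 1 4 = 1)
    (e_2_0 : T.picMatrix 2 0 = 1)
    (e_2_1 : T.picMatrix 2 1 = 0)
    (e_2_3 : T.picMatrix 2 3 = 0)
    (e_2_4 : T.picMatrix 2 4 = 0)
    (e_3_0 : T.picMatrix 3 0 = 1)
    (e_3_1 : T.picMatrix 3 1 = 0)
    (e_3_2 : T.picMatrix 3 2 = 0)
    (e_3_4 : T.picMatrix 3 4 = 0)
    (e_4_0 : T.picMatrix 4 0 = 0)
    (e_4_1 : T.picMatrix 4 1 = 2)
    (e_4_2 : T.picMatrix 4 2 = 0)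
    (e_4_3 : T.picMatrix 4 3 = 0)
    (cl : ∀ a b : Fin 6, a.val < 4 → 5 ≤ b.val → T.picMatrix a b = 0) :
    Goal T := by
  by_cases hc : ∀ b : Fin 6, 5 ≤ b.val → T.picMatrix 4 b = 0
  · exact nd_182 T hG hmax e_0_1 e_0_2 e_0_3 e_0_4 e_1_0 e_1_2 e_1_3 e_1_4 e_2_0 e_2_1 e_2_3 e_2_4 e_3_0 e_3_1 e_3_2 e_3_4 e_4_0 e_4_1 e_4_2 e_4_3 (nt_cl_succ T 5 4 4 rfl cl hc)
  · obtain ⟨τ, hfix, cl', z, hne⟩ := nt_wlog_step T 5 (by norm_num) 4 (by norm_num) 4 (by decide) cl hc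
    apply goal_relabel T τ
    refine ex_183 (ntRelabel T τ) (hG.relabel τ) ?_ ?_ ?_ ?_ ?_ ?_ ?_ ?_ ?_ ?_ ?_ ?_ ?_ ?_ ?_ ?_ ?_ ?_ ?_ ?_ ?_ cl' z hne
    · intro j
      show T.m (τ j) ≤ T.m (τ 0)
      rw [hfix 0 (by decide)]
      exact hmax _
    · show T.picMatrix (τ 0) (τ 1) = 1
      rw [hfix 0 (by decide), hfix 1 (by decide)]
      exact e_0_1
    · show T.picMatrix (τ 0) (τ 2) = 1
      rw [hfix 0 (by decide), hfix 2 (by decide)]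
      exact e_0_2
    · show T.picMatrix (τ 0) (τ 3) = 1
      rw [hfix 0 (by decide), hfix 3 (by decide)]
      exact e_0_3
    · show T.picMatrix (τ 0) (τ 4) = 0
      rw [hfix 0 (by decide), hfix 4 (by decide)]
      exact e_0_4
    · show T.picMatrix (τ 1) (τ 0) = 1
      rw [hfix 1 (by decide), hfix 0 (by decide)]
      exact e_1_0
    · show T.picMatrix (τ 1) (τ 2) = 0
      rw [hfix 1 (by decide), hfix 2 (by decide)]
      exact e_1_2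
    · show T.picMatrix (τ 1) (τ 3) = 0
      rw [hfix 1 (by decide), hfix 3 (by decide)]
      exact e_1_3
    · show T.picMatrix (τ 1) (τ 4) = 1
      rw [hfix 1 (by decide), hfix 4 (by decide)]
      exact e_1_4
    · show T.picMatrix (τ 2) (τ 0) = 1
      rw [hfix 2 (by decide), hfix 0 (by decide)]
      exact e_2_0
    · show T.picMatrix (τ 2) (τ 1) = 0
      rw [hfix 2 (by decide), hfix 1 (by decide)]
      exact e_2_1
    · show T.picMatrix (τ 2) (τ 3) = 0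
      rw [hfix 2 (by decide), hfix 3 (by decide)]
      exact e_2_3
    · show T.picMatrix (τ 2) (τ 4) = 0
      rw [hfix 2 (by decide), hfix 4 (by decide)]
      exact e_2_4
    · show T.picMatrix (τ 3) (τ 0) = 1
      rw [hfix 3 (by decide), hfix 0 (by decide)]
      exact e_3_0
    · show T.picMatrix (τ 3) (τ 1) = 0
      rw [hfix 3 (by decide), hfix 1 (by decide)]
      exact e_3_1
    · show T.picMatrix (τ 3) (τ 2) = 0
      rw [hfix 3 (by decide), hfix 2 (by decide)]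
      exact e_3_2
    · show T.picMatrix (τ 3) (τ 4) = 0
      rw [hfix 3 (by decide), hfix 4 (by decide)]
      exact e_3_4
    · show T.picMatrix (τ 4) (τ 0) = 0
      rw [hfix 4 (by decide), hfix 0 (by decide)]
      exact e_4_0
    · show T.picMatrix (τ 4) (τ 1) = 2
      rw [hfix 4 (by decide), hfix 1 (by decide)]
      exact e_4_1
    · show T.picMatrix (τ 4) (τ 2) = 0
      rw [hfix 4 (by decide), hfix 2 (by decide)]
      exact e_4_2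
    · show T.picMatrix (τ 4) (τ 3) = 0
      rw [hfix 4 (by decide), hfix 3 (by decide)]
      exact e_4_3

theorem ex_184 (T : Models.NumericalType 6)
    (hG : NTGood T)
    (hmax : ∀ j, T.m j ≤ T.m 0)
    (e_0_1 : T.picMatrix 0 1 = 1)
    (e_0_2 : T.picMatrix 0 2 = 1)
    (e_0_3 : T.picMatrix 0 3 = 1)
    (e_0_4 : T.picMatrix 0 4 = 0)
    (e_1_0 : T.picMatrix 1 0 = 1)
    (e_1_2 : T.picMatrix 1 2 = 0)
    (e_1_3 : T.picMatrix 1 3 = 0)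
    (e_1_4 : T.picMatrix 1 4 = 1)
    (e_2_0 : T.picMatrix 2 0 = 1)
    (e_2_1 : T.picMatrix 2 1 = 0)
    (e_2_3 : T.picMatrix 2 3 = 0)
    (e_2_4 : T.picMatrix 2 4 = 0)
    (e_3_0 : T.picMatrix 3 0 = 1)
    (e_3_1 : T.picMatrix 3 1 = 0)
    (e_3_2 : T.picMatrix 3 2 = 0)
    (e_3_4 : T.picMatrix 3 4 = 0)
    (e_4_0 : T.picMatrix 4 0 = 0)
    (e_4_1 : T.picMatrix 4 1 = 2)
    (e_4_2 : T.picMatrix 4 2 = 0)
    (e_4_3 : T.picMatrix 4 3 = 0)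
    (cl : ∀ a b : Fin 6, a.val < 3 → 6 ≤ b.val → T.picMatrix a b = 0)
    (z : ∀ a : Fin 6, a.val < 3 → T.picMatrix a 5 = 0)
    (hne : T.picMatrix 3 5 ≠ 0) :
    Goal T := by
  have e_0_5 : T.picMatrix 0 5 = 0 := z 0 (by decide)
  have e_5_0 : T.picMatrix 5 0 = 0 := nt_pic_zero_symm T 0 5 e_0_5
  have e_1_5 : T.picMatrix 1 5 = 0 := z 1 (by decide)
  have e_5_1 : T.picMatrix 5 1 = 0 := nt_pic_zero_symm T 1 5 e_1_5
  have e_2_5 : T.picMatrix 2 5 = 0 := z 2 (by decide)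
  have e_5_2 : T.picMatrix 5 2 = 0 := nt_pic_zero_symm T 2 5 e_2_5
  obtain ⟨hg0, hdA, hdP, hnn, hrow, hsym, hpair⟩ := ntgood_data T (by norm_num) hG
  have hm_0 := T.m_pos 0
  have hw_0 := T.w_pos 0
  have hm_1 := T.m_pos 1
  have hw_1 := T.w_pos 1
  have hm_2 := T.m_pos 2
  have hw_2 := T.w_pos 2
  have hm_3 := T.m_pos 3
  have hw_3 := T.w_pos 3
  have hm_4 := T.m_pos 4
  have hw_4 := T.w_pos 4
  have hm_5 := T.m_pos 5
  have hw_5 := T.w_pos 5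
  have hx_1 := hmax 1
  have hx_2 := hmax 2
  have hx_3 := hmax 3
  have hx_4 := hmax 4
  have hx_5 := hmax 5
  have N_3_5 := mul_nonneg (hnn 3 5 (by decide)) (T.m_pos 5).le
  have N_5_3 := mul_nonneg (hnn 5 3 (by decide)) (T.m_pos 3).le
  have N_4_5 := mul_nonneg (hnn 4 5 (by decide)) (T.m_pos 5).le
  have N_5_4 := mul_nonneg (hnn 5 4 (by decide)) (T.m_pos 4).le
  have R_0 := hrow 0
  rw [Fin.sum_univ_six, hdP 0, e_0_1, e_0_2, e_0_3, e_0_4, e_0_5] at R_0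
  have R_1 := hrow 1
  rw [Fin.sum_univ_six, hdP 1, e_1_0, e_1_2, e_1_3, e_1_4, e_1_5] at R_1
  have R_2 := hrow 2
  rw [Fin.sum_univ_six, hdP 2, e_2_0, e_2_1, e_2_3, e_2_4, e_2_5] at R_2
  have R_3 := hrow 3
  rw [Fin.sum_univ_six, hdP 3, e_3_0, e_3_1, e_3_2, e_3_4] at R_3
  have R_4 := hrow 4
  rw [Fin.sum_univ_six, hdP 4, e_4_0, e_4_1, e_4_2, e_4_3] at R_4
  have R_5 := hrow 5
  rw [Fin.sum_univ_six, hdP 5, e_5_0, e_5_1, e_5_2] at R_5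
  have S_0_1 := hsym 0 1
  rw [e_0_1, e_1_0] at S_0_1
  have S_0_2 := hsym 0 2
  rw [e_0_2, e_2_0] at S_0_2
  have S_0_3 := hsym 0 3
  rw [e_0_3, e_3_0] at S_0_3
  have S_0_4 := hsym 0 4
  rw [e_0_4, e_4_0] at S_0_4
  have S_0_5 := hsym 0 5
  rw [e_0_5, e_5_0] at S_0_5
  have S_1_2 := hsym 1 2
  rw [e_1_2, e_2_1] at S_1_2
  have S_1_3 := hsym 1 3
  rw [e_1_3, e_3_1] at S_1_3
  have S_1_4 := hsym 1 4
  rw [e_1_4, e_4_1] at S_1_4
  have S_1_5 := hsym 1 5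
  rw [e_1_5, e_5_1] at S_1_5
  have S_2_3 := hsym 2 3
  rw [e_2_3, e_3_2] at S_2_3
  have S_2_4 := hsym 2 4
  rw [e_2_4, e_4_2] at S_2_4
  have S_2_5 := hsym 2 5
  rw [e_2_5, e_5_2] at S_2_5
  have S_3_4 := hsym 3 4
  rw [e_3_4, e_4_3] at S_3_4
  have S_3_5 := hsym 3 5
  have S_4_5 := hsym 4 5
  have Q_3 := hpair 3 5 (by decide)
  have Q_4 := hpair 4 5 (by decide)
  generalize e_3_5 : T.picMatrix 3 5 = x_3 at *
  generalize e_5_3 : T.picMatrix 5 3 = y_3 at *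
  generalize e_4_5 : T.picMatrix 4 5 = x_4 at *
  generalize e_5_4 : T.picMatrix 5 4 = y_4 at *
  rcases Q_3 with ⟨rfl, rfl⟩ | ⟨rfl, rfl⟩ | ⟨rfl, rfl⟩ | ⟨rfl, rfl⟩ | ⟨rfl, rfl⟩ | ⟨rfl, rfl⟩ | ⟨rfl, rfl⟩ | ⟨rfl, rfl⟩ | ⟨rfl, rfl⟩
  · exact absurd rfl hne
  · omega
  · omega
  · omega
  · omega
  · omega
  · omega
  · omega
  · omega

theorem nd_180 (T : Models.NumericalType 6)
    (hG : NTGood T)
    (hmax : ∀ j, T.m j ≤ T.m 0)
    (e_0_1 : T.picMatrix 0 1 = 1)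
    (e_0_2 : T.picMatrix 0 2 = 1)
    (e_0_3 : T.picMatrix 0 3 = 1)
    (e_0_4 : T.picMatrix 0 4 = 0)
    (e_1_0 : T.picMatrix 1 0 = 1)
    (e_1_2 : T.picMatrix 1 2 = 0)
    (e_1_3 : T.picMatrix 1 3 = 0)
    (e_1_4 : T.picMatrix 1 4 = 1)
    (e_2_0 : T.picMatrix 2 0 = 1)
    (e_2_1 : T.picMatrix 2 1 = 0)
    (e_2_3 : T.picMatrix 2 3 = 0)
    (e_2_4 : T.picMatrix 2 4 = 0)
    (e_3_0 : T.picMatrix 3 0 = 1)
    (e_3_1 : T.picMatrix 3 1 = 0)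
    (e_3_2 : T.picMatrix 3 2 = 0)
    (e_3_4 : T.picMatrix 3 4 = 0)
    (e_4_0 : T.picMatrix 4 0 = 0)
    (e_4_1 : T.picMatrix 4 1 = 2)
    (e_4_2 : T.picMatrix 4 2 = 0)
    (e_4_3 : T.picMatrix 4 3 = 0)
    (cl : ∀ a b : Fin 6, a.val < 3 → 5 ≤ b.val → T.picMatrix a b = 0) :
    Goal T := by
  by_cases hc : ∀ b : Fin 6, 5 ≤ b.val → T.picMatrix 3 b = 0
  · exact nd_181 T hG hmax e_0_1 e_0_2 e_0_3 e_0_4 e_1_0 e_1_2 e_1_3 e_1_4 e_2_0 e_2_1 e_2_3 e_2_4 e_3_0 e_3_1 e_3_2 e_3_4 e_4_0 e_4_1 e_4_2 e_4_3 (nt_cl_succ T 5 3 3 rfl cl hc)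
  · obtain ⟨τ, hfix, cl', z, hne⟩ := nt_wlog_step T 5 (by norm_num) 3 (by norm_num) 3 (by decide) cl hc
    apply goal_relabel T τ
    refine ex_184 (ntRelabel T τ) (hG.relabel τ) ?_ ?_ ?_ ?_ ?_ ?_ ?_ ?_ ?_ ?_ ?_ ?_ ?_ ?_ ?_ ?_ ?_ ?_ ?_ ?_ ?_ cl' z hne
    · intro j
      show T.m (τ j) ≤ T.m (τ 0)
      rw [hfix 0 (by decide)]
      exact hmax _
    · show T.picMatrix (τ 0) (τ 1) = 1
      rw [hfix 0 (by decide), hfix 1 (by decide)]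
      exact e_0_1
    · show T.picMatrix (τ 0) (τ 2) = 1
      rw [hfix 0 (by decide), hfix 2 (by decide)]
      exact e_0_2
    · show T.picMatrix (τ 0) (τ 3) = 1
      rw [hfix 0 (by decide), hfix 3 (by decide)]
      exact e_0_3
    · show T.picMatrix (τ 0) (τ 4) = 0
      rw [hfix 0 (by decide), hfix 4 (by decide)]
      exact e_0_4
    · show T.picMatrix (τ 1) (τ 0) = 1
      rw [hfix 1 (by decide), hfix 0 (by decide)]
      exact e_1_0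
    · show T.picMatrix (τ 1) (τ 2) = 0
      rw [hfix 1 (by decide), hfix 2 (by decide)]
      exact e_1_2
    · show T.picMatrix (τ 1) (τ 3) = 0
      rw [hfix 1 (by decide), hfix 3 (by decide)]
      exact e_1_3
    · show T.picMatrix (τ 1) (τ 4) = 1
      rw [hfix 1 (by decide), hfix 4 (by decide)]
      exact e_1_4
    · show T.picMatrix (τ 2) (τ 0) = 1
      rw [hfix 2 (by decide), hfix 0 (by decide)]
      exact e_2_0
    · show T.picMatrix (τ 2) (τ 1) = 0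
      rw [hfix 2 (by decide), hfix 1 (by decide)]
      exact e_2_1
    · show T.picMatrix (τ 2) (τ 3) = 0
      rw [hfix 2 (by decide), hfix 3 (by decide)]
      exact e_2_3
    · show T.picMatrix (τ 2) (τ 4) = 0
      rw [hfix 2 (by decide), hfix 4 (by decide)]
      exact e_2_4
    · show T.picMatrix (τ 3) (τ 0) = 1
      rw [hfix 3 (by decide), hfix 0 (by decide)]
      exact e_3_0
    · show T.picMatrix (τ 3) (τ 1) = 0
      rw [hfix 3 (by decide), hfix 1 (by decide)]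
      exact e_3_1
    · show T.picMatrix (τ 3) (τ 2) = 0
      rw [hfix 3 (by decide), hfix 2 (by decide)]
      exact e_3_2
    · show T.picMatrix (τ 3) (τ 4) = 0
      rw [hfix 3 (by decide), hfix 4 (by decide)]
      exact e_3_4
    · show T.picMatrix (τ 4) (τ 0) = 0
      rw [hfix 4 (by decide), hfix 0 (by decide)]
      exact e_4_0
    · show T.picMatrix (τ 4) (τ 1) = 2
      rw [hfix 4 (by decide), hfix 1 (by decide)]
      exact e_4_1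
    · show T.picMatrix (τ 4) (τ 2) = 0
      rw [hfix 4 (by decide), hfix 2 (by decide)]
      exact e_4_2
    · show T.picMatrix (τ 4) (τ 3) = 0
      rw [hfix 4 (by decide), hfix 3 (by decide)]
      exact e_4_3

theorem ex_185 (T : Models.NumericalType 6)
    (hG : NTGood T)
    (hmax : ∀ j, T.m j ≤ T.m 0)
    (e_0_1 : T.picMatrix 0 1 = 1)
    (e_0_2 : T.picMatrix 0 2 = 1)
    (e_0_3 : T.picMatrix 0 3 = 1)
    (e_0_4 : T.picMatrix 0 4 = 0)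
    (e_1_0 : T.picMatrix 1 0 = 1)
    (e_1_2 : T.picMatrix 1 2 = 0)
    (e_1_3 : T.picMatrix 1 3 = 0)
    (e_1_4 : T.picMatrix 1 4 = 1)
    (e_2_0 : T.picMatrix 2 0 = 1)
    (e_2_1 : T.picMatrix 2 1 = 0)
    (e_2_3 : T.picMatrix 2 3 = 0)
    (e_2_4 : T.picMatrix 2 4 = 0)
    (e_3_0 : T.picMatrix 3 0 = 1)
    (e_3_1 : T.picMatrix 3 1 = 0)
    (e_3_2 : T.picMatrix 3 2 = 0)
    (e_3_4 : T.picMatrix 3 4 = 0)
    (e_4_0 : T.picMatrix 4 0 = 0)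
    (e_4_1 : T.picMatrix 4 1 = 2)
    (e_4_2 : T.picMatrix 4 2 = 0)
    (e_4_3 : T.picMatrix 4 3 = 0)
    (cl : ∀ a b : Fin 6, a.val < 2 → 6 ≤ b.val → T.picMatrix a b = 0)
    (z : ∀ a : Fin 6, a.val < 2 → T.picMatrix a 5 = 0)
    (hne : T.picMatrix 2 5 ≠ 0) :
    Goal T := by
  have e_0_5 : T.picMatrix 0 5 = 0 := z 0 (by decide)
  have e_5_0 : T.picMatrix 5 0 = 0 := nt_pic_zero_symm T 0 5 e_0_5
  have e_1_5 : T.picMatrix 1 5 = 0 := z 1 (by decide)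
  have e_5_1 : T.picMatrix 5 1 = 0 := nt_pic_zero_symm T 1 5 e_1_5
  obtain ⟨hg0, hdA, hdP, hnn, hrow, hsym, hpair⟩ := ntgood_data T (by norm_num) hG
  have hm_0 := T.m_pos 0
  have hw_0 := T.w_pos 0
  have hm_1 := T.m_pos 1
  have hw_1 := T.w_pos 1
  have hm_2 := T.m_pos 2
  have hw_2 := T.w_pos 2
  have hm_3 := T.m_pos 3
  have hw_3 := T.w_pos 3
  have hm_4 := T.m_pos 4
  have hw_4 := T.w_pos 4
  have hm_5 := T.m_pos 5
  have hw_5 := T.w_pos 5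
  have hx_1 := hmax 1
  have hx_2 := hmax 2
  have hx_3 := hmax 3
  have hx_4 := hmax 4
  have hx_5 := hmax 5
  have N_2_5 := mul_nonneg (hnn 2 5 (by decide)) (T.m_pos 5).le
  have N_5_2 := mul_nonneg (hnn 5 2 (by decide)) (T.m_pos 2).le
  have N_3_5 := mul_nonneg (hnn 3 5 (by decide)) (T.m_pos 5).le
  have N_5_3 := mul_nonneg (hnn 5 3 (by decide)) (T.m_pos 3).le
  have N_4_5 := mul_nonneg (hnn 4 5 (by decide)) (T.m_pos 5).le
  have N_5_4 := mul_nonneg (hnn 5 4 (by decide)) (T.m_pos 4).le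
  have R_0 := hrow 0
  rw [Fin.sum_univ_six, hdP 0, e_0_1, e_0_2, e_0_3, e_0_4, e_0_5] at R_0
  have R_1 := hrow 1
  rw [Fin.sum_univ_six, hdP 1, e_1_0, e_1_2, e_1_3, e_1_4, e_1_5] at R_1
  have R_2 := hrow 2
  rw [Fin.sum_univ_six, hdP 2, e_2_0, e_2_1, e_2_3, e_2_4] at R_2
  have R_3 := hrow 3
  rw [Fin.sum_univ_six, hdP 3, e_3_0, e_3_1, e_3_2, e_3_4] at R_3
  have R_4 := hrow 4
  rw [Fin.sum_univ_six, hdP 4, e_4_0, e_4_1, e_4_2, e_4_3] at R_4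
  have R_5 := hrow 5
  rw [Fin.sum_univ_six, hdP 5, e_5_0, e_5_1] at R_5
  have S_0_1 := hsym 0 1
  rw [e_0_1, e_1_0] at S_0_1
  have S_0_2 := hsym 0 2
  rw [e_0_2, e_2_0] at S_0_2
  have S_0_3 := hsym 0 3
  rw [e_0_3, e_3_0] at S_0_3
  have S_0_4 := hsym 0 4
  rw [e_0_4, e_4_0] at S_0_4
  have S_0_5 := hsym 0 5
  rw [e_0_5, e_5_0] at S_0_5
  have S_1_2 := hsym 1 2
  rw [e_1_2, e_2_1] at S_1_2
  have S_1_3 := hsym 1 3
  rw [e_1_3, e_3_1] at S_1_3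
  have S_1_4 := hsym 1 4
  rw [e_1_4, e_4_1] at S_1_4
  have S_1_5 := hsym 1 5
  rw [e_1_5, e_5_1] at S_1_5
  have S_2_3 := hsym 2 3
  rw [e_2_3, e_3_2] at S_2_3
  have S_2_4 := hsym 2 4
  rw [e_2_4, e_4_2] at S_2_4
  have S_2_5 := hsym 2 5
  have S_3_4 := hsym 3 4
  rw [e_3_4, e_4_3] at S_3_4
  have S_3_5 := hsym 3 5
  have S_4_5 := hsym 4 5
  have Q_2 := hpair 2 5 (by decide)
  have Q_3 := hpair 3 5 (by decide)
  have Q_4 := hpair 4 5 (by decide)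
  generalize e_2_5 : T.picMatrix 2 5 = x_2 at *
  generalize e_5_2 : T.picMatrix 5 2 = y_2 at *
  generalize e_3_5 : T.picMatrix 3 5 = x_3 at *
  generalize e_5_3 : T.picMatrix 5 3 = y_3 at *
  generalize e_4_5 : T.picMatrix 4 5 = x_4 at *
  generalize e_5_4 : T.picMatrix 5 4 = y_4 at *
  rcases Q_2 with ⟨rfl, rfl⟩ | ⟨rfl, rfl⟩ | ⟨rfl, rfl⟩ | ⟨rfl, rfl⟩ | ⟨rfl, rfl⟩ | ⟨rfl, rfl⟩ | ⟨rfl, rfl⟩ | ⟨rfl, rfl⟩ | ⟨rfl, rfl⟩
  · exact absurd rfl hne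
  · omega
  · omega
  · omega
  · omega
  · omega
  · omega
  · omega
  · omega

theorem nd_179 (T : Models.NumericalType 6)
    (hG : NTGood T)
    (hmax : ∀ j, T.m j ≤ T.m 0)
    (e_0_1 : T.picMatrix 0 1 = 1)
    (e_0_2 : T.picMatrix 0 2 = 1)
    (e_0_3 : T.picMatrix 0 3 = 1)
    (e_0_4 : T.picMatrix 0 4 = 0)
    (e_1_0 : T.picMatrix 1 0 = 1)
    (e_1_2 : T.picMatrix 1 2 = 0)
    (e_1_3 : T.picMatrix 1 3 = 0)
    (e_1_4 : T.picMatrix 1 4 = 1)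
    (e_2_0 : T.picMatrix 2 0 = 1)
    (e_2_1 : T.picMatrix 2 1 = 0)
    (e_2_3 : T.picMatrix 2 3 = 0)
    (e_2_4 : T.picMatrix 2 4 = 0)
    (e_3_0 : T.picMatrix 3 0 = 1)
    (e_3_1 : T.picMatrix 3 1 = 0)
    (e_3_2 : T.picMatrix 3 2 = 0)
    (e_3_4 : T.picMatrix 3 4 = 0)
    (e_4_0 : T.picMatrix 4 0 = 0)
    (e_4_1 : T.picMatrix 4 1 = 2)
    (e_4_2 : T.picMatrix 4 2 = 0)
    (e_4_3 : T.picMatrix 4 3 = 0)
    (cl : ∀ a b : Fin 6, a.val < 2 → 5 ≤ b.val → T.picMatrix a b = 0) :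
    Goal T := by
  by_cases hc : ∀ b : Fin 6, 5 ≤ b.val → T.picMatrix 2 b = 0
  · exact nd_180 T hG hmax e_0_1 e_0_2 e_0_3 e_0_4 e_1_0 e_1_2 e_1_3 e_1_4 e_2_0 e_2_1 e_2_3 e_2_4 e_3_0 e_3_1 e_3_2 e_3_4 e_4_0 e_4_1 e_4_2 e_4_3 (nt_cl_succ T 5 2 2 rfl cl hc)
  · obtain ⟨τ, hfix, cl', z, hne⟩ := nt_wlog_step T 5 (by norm_num) 2 (by norm_num) 2 (by decide) cl hc
    apply goal_relabel T τ
    refine ex_185 (ntRelabel T τ) (hG.relabel τ) ?_ ?_ ?_ ?_ ?_ ?_ ?_ ?_ ?_ ?_ ?_ ?_ ?_ ?_ ?_ ?_ ?_ ?_ ?_ ?_ ?_ cl' z hne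
    · intro j
      show T.m (τ j) ≤ T.m (τ 0)
      rw [hfix 0 (by decide)]
      exact hmax _
    · show T.picMatrix (τ 0) (τ 1) = 1
      rw [hfix 0 (by decide), hfix 1 (by decide)]
      exact e_0_1
    · show T.picMatrix (τ 0) (τ 2) = 1
      rw [hfix 0 (by decide), hfix 2 (by decide)]
      exact e_0_2
    · show T.picMatrix (τ 0) (τ 3) = 1
      rw [hfix 0 (by decide), hfix 3 (by decide)]
      exact e_0_3
    · show T.picMatrix (τ 0) (τ 4) = 0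
      rw [hfix 0 (by decide), hfix 4 (by decide)]
      exact e_0_4
    · show T.picMatrix (τ 1) (τ 0) = 1
      rw [hfix 1 (by decide), hfix 0 (by decide)]
      exact e_1_0
    · show T.picMatrix (τ 1) (τ 2) = 0
      rw [hfix 1 (by decide), hfix 2 (by decide)]
      exact e_1_2
    · show T.picMatrix (τ 1) (τ 3) = 0
      rw [hfix 1 (by decide), hfix 3 (by decide)]
      exact e_1_3
    · show T.picMatrix (τ 1) (τ 4) = 1
      rw [hfix 1 (by decide), hfix 4 (by decide)]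
      exact e_1_4
    · show T.picMatrix (τ 2) (τ 0) = 1
      rw [hfix 2 (by decide), hfix 0 (by decide)]
      exact e_2_0
    · show T.picMatrix (τ 2) (τ 1) = 0
      rw [hfix 2 (by decide), hfix 1 (by decide)]
      exact e_2_1
    · show T.picMatrix (τ 2) (τ 3) = 0
      rw [hfix 2 (by decide), hfix 3 (by decide)]
      exact e_2_3
    · show T.picMatrix (τ 2) (τ 4) = 0
      rw [hfix 2 (by decide), hfix 4 (by decide)]
      exact e_2_4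
    · show T.picMatrix (τ 3) (τ 0) = 1
      rw [hfix 3 (by decide), hfix 0 (by decide)]
      exact e_3_0
    · show T.picMatrix (τ 3) (τ 1) = 0
      rw [hfix 3 (by decide), hfix 1 (by decide)]
      exact e_3_1
    · show T.picMatrix (τ 3) (τ 2) = 0
      rw [hfix 3 (by decide), hfix 2 (by decide)]
      exact e_3_2
    · show T.picMatrix (τ 3) (τ 4) = 0
      rw [hfix 3 (by decide), hfix 4 (by decide)]
      exact e_3_4
    · show T.picMatrix (τ 4) (τ 0) = 0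
      rw [hfix 4 (by decide), hfix 0 (by decide)]
      exact e_4_0
    · show T.picMatrix (τ 4) (τ 1) = 2
      rw [hfix 4 (by decide), hfix 1 (by decide)]
      exact e_4_1
    · show T.picMatrix (τ 4) (τ 2) = 0
      rw [hfix 4 (by decide), hfix 2 (by decide)]
      exact e_4_2
    · show T.picMatrix (τ 4) (τ 3) = 0
      rw [hfix 4 (by decide), hfix 3 (by decide)]
      exact e_4_3

theorem ex_186 (T : Models.NumericalType 6)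
    (hG : NTGood T)
    (hmax : ∀ j, T.m j ≤ T.m 0)
    (e_0_1 : T.picMatrix 0 1 = 1)
    (e_0_2 : T.picMatrix 0 2 = 1)
    (e_0_3 : T.picMatrix 0 3 = 1)
    (e_0_4 : T.picMatrix 0 4 = 0)
    (e_1_0 : T.picMatrix 1 0 = 1)
    (e_1_2 : T.picMatrix 1 2 = 0)
    (e_1_3 : T.picMatrix 1 3 = 0)
    (e_1_4 : T.picMatrix 1 4 = 1)
    (e_2_0 : T.picMatrix 2 0 = 1)
    (e_2_1 : T.picMatrix 2 1 = 0)
    (e_2_3 : T.picMatrix 2 3 = 0)
    (e_2_4 : T.picMatrix 2 4 = 0)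
    (e_3_0 : T.picMatrix 3 0 = 1)
    (e_3_1 : T.picMatrix 3 1 = 0)
    (e_3_2 : T.picMatrix 3 2 = 0)
    (e_3_4 : T.picMatrix 3 4 = 0)
    (e_4_0 : T.picMatrix 4 0 = 0)
    (e_4_1 : T.picMatrix 4 1 = 2)
    (e_4_2 : T.picMatrix 4 2 = 0)
    (e_4_3 : T.picMatrix 4 3 = 0)
    (cl : ∀ a b : Fin 6, a.val < 1 → 6 ≤ b.val → T.picMatrix a b = 0)
    (z : ∀ a : Fin 6, a.val < 1 → T.picMatrix a 5 = 0)
    (hne : T.picMatrix 1 5 ≠ 0) :
    Goal T := by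
  have e_0_5 : T.picMatrix 0 5 = 0 := z 0 (by decide)
  have e_5_0 : T.picMatrix 5 0 = 0 := nt_pic_zero_symm T 0 5 e_0_5
  obtain ⟨hg0, hdA, hdP, hnn, hrow, hsym, hpair⟩ := ntgood_data T (by norm_num) hG
  have hm_0 := T.m_pos 0
  have hw_0 := T.w_pos 0
  have hm_1 := T.m_pos 1
  have hw_1 := T.w_pos 1
  have hm_2 := T.m_pos 2
  have hw_2 := T.w_pos 2
  have hm_3 := T.m_pos 3
  have hw_3 := T.w_pos 3
  have hm_4 := T.m_pos 4
  have hw_4 := T.w_pos 4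
  have hm_5 := T.m_pos 5
  have hw_5 := T.w_pos 5
  have hx_1 := hmax 1
  have hx_2 := hmax 2
  have hx_3 := hmax 3
  have hx_4 := hmax 4
  have hx_5 := hmax 5
  have N_1_5 := mul_nonneg (hnn 1 5 (by decide)) (T.m_pos 5).le
  have N_5_1 := mul_nonneg (hnn 5 1 (by decide)) (T.m_pos 1).le
  have N_2_5 := mul_nonneg (hnn 2 5 (by decide)) (T.m_pos 5).le
  have N_5_2 := mul_nonneg (hnn 5 2 (by decide)) (T.m_pos 2).le
  have N_3_5 := mul_nonneg (hnn 3 5 (by decide)) (T.m_pos 5).le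
  have N_5_3 := mul_nonneg (hnn 5 3 (by decide)) (T.m_pos 3).le
  have N_4_5 := mul_nonneg (hnn 4 5 (by decide)) (T.m_pos 5).le
  have N_5_4 := mul_nonneg (hnn 5 4 (by decide)) (T.m_pos 4).le
  have R_0 := hrow 0
  rw [Fin.sum_univ_six, hdP 0, e_0_1, e_0_2, e_0_3, e_0_4, e_0_5] at R_0
  have R_1 := hrow 1
  rw [Fin.sum_univ_six, hdP 1, e_1_0, e_1_2, e_1_3, e_1_4] at R_1
  have R_2 := hrow 2
  rw [Fin.sum_univ_six, hdP 2, e_2_0, e_2_1, e_2_3, e_2_4] at R_2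
  have R_3 := hrow 3
  rw [Fin.sum_univ_six, hdP 3, e_3_0, e_3_1, e_3_2, e_3_4] at R_3
  have R_4 := hrow 4
  rw [Fin.sum_univ_six, hdP 4, e_4_0, e_4_1, e_4_2, e_4_3] at R_4
  have R_5 := hrow 5
  rw [Fin.sum_univ_six, hdP 5, e_5_0] at R_5
  have S_0_1 := hsym 0 1
  rw [e_0_1, e_1_0] at S_0_1
  have S_0_2 := hsym 0 2
  rw [e_0_2, e_2_0] at S_0_2
  have S_0_3 := hsym 0 3
  rw [e_0_3, e_3_0] at S_0_3
  have S_0_4 := hsym 0 4
  rw [e_0_4, e_4_0] at S_0_4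
  have S_0_5 := hsym 0 5
  rw [e_0_5, e_5_0] at S_0_5
  have S_1_2 := hsym 1 2
  rw [e_1_2, e_2_1] at S_1_2
  have S_1_3 := hsym 1 3
  rw [e_1_3, e_3_1] at S_1_3
  have S_1_4 := hsym 1 4
  rw [e_1_4, e_4_1] at S_1_4
  have S_1_5 := hsym 1 5
  have S_2_3 := hsym 2 3
  rw [e_2_3, e_3_2] at S_2_3
  have S_2_4 := hsym 2 4
  rw [e_2_4, e_4_2] at S_2_4
  have S_2_5 := hsym 2 5
  have S_3_4 := hsym 3 4
  rw [e_3_4, e_4_3] at S_3_4
  have S_3_5 := hsym 3 5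
  have S_4_5 := hsym 4 5
  have Q_1 := hpair 1 5 (by decide)
  have Q_2 := hpair 2 5 (by decide)
  have Q_3 := hpair 3 5 (by decide)
  have Q_4 := hpair 4 5 (by decide)
  generalize e_1_5 : T.picMatrix 1 5 = x_1 at *
  generalize e_5_1 : T.picMatrix 5 1 = y_1 at *
  generalize e_2_5 : T.picMatrix 2 5 = x_2 at *
  generalize e_5_2 : T.picMatrix 5 2 = y_2 at *
  generalize e_3_5 : T.picMatrix 3 5 = x_3 at *
  generalize e_5_3 : T.picMatrix 5 3 = y_3 at *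
  generalize e_4_5 : T.picMatrix 4 5 = x_4 at *
  generalize e_5_4 : T.picMatrix 5 4 = y_4 at *
  rcases Q_1 with ⟨rfl, rfl⟩ | ⟨rfl, rfl⟩ | ⟨rfl, rfl⟩ | ⟨rfl, rfl⟩ | ⟨rfl, rfl⟩ | ⟨rfl, rfl⟩ | ⟨rfl, rfl⟩ | ⟨rfl, rfl⟩ | ⟨rfl, rfl⟩
  · exact absurd rfl hne
  · omega
  · omega
  · omega
  · omega
  · omega
  · omega
  · omega
  · omega

theorem nd_178 (T : Models.NumericalType 6)
    (hG : NTGood T)
    (hmax : ∀ j, T.m j ≤ T.m 0)
    (e_0_1 : T.picMatrix 0 1 = 1)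
    (e_0_2 : T.picMatrix 0 2 = 1)
    (e_0_3 : T.picMatrix 0 3 = 1)
    (e_0_4 : T.picMatrix 0 4 = 0)
    (e_1_0 : T.picMatrix 1 0 = 1)
    (e_1_2 : T.picMatrix 1 2 = 0)
    (e_1_3 : T.picMatrix 1 3 = 0)
    (e_1_4 : T.picMatrix 1 4 = 1)
    (e_2_0 : T.picMatrix 2 0 = 1)
    (e_2_1 : T.picMatrix 2 1 = 0)
    (e_2_3 : T.picMatrix 2 3 = 0)
    (e_2_4 : T.picMatrix 2 4 = 0)
    (e_3_0 : T.picMatrix 3 0 = 1)
    (e_3_1 : T.picMatrix 3 1 = 0)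
    (e_3_2 : T.picMatrix 3 2 = 0)
    (e_3_4 : T.picMatrix 3 4 = 0)
    (e_4_0 : T.picMatrix 4 0 = 0)
    (e_4_1 : T.picMatrix 4 1 = 2)
    (e_4_2 : T.picMatrix 4 2 = 0)
    (e_4_3 : T.picMatrix 4 3 = 0)
    (cl : ∀ a b : Fin 6, a.val < 1 → 5 ≤ b.val → T.picMatrix a b = 0) :
    Goal T := by
  by_cases hc : ∀ b : Fin 6, 5 ≤ b.val → T.picMatrix 1 b = 0
  · exact nd_179 T hG hmax e_0_1 e_0_2 e_0_3 e_0_4 e_1_0 e_1_2 e_1_3 e_1_4 e_2_0 e_2_1 e_2_3 e_2_4 e_3_0 e_3_1 e_3_2 e_3_4 e_4_0 e_4_1 e_4_2 e_4_3 (nt_cl_succ T 5 1 1 rfl cl hc)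
  · obtain ⟨τ, hfix, cl', z, hne⟩ := nt_wlog_step T 5 (by norm_num) 1 (by norm_num) 1 (by decide) cl hc
    apply goal_relabel T τ
    refine ex_186 (ntRelabel T τ) (hG.relabel τ) ?_ ?_ ?_ ?_ ?_ ?_ ?_ ?_ ?_ ?_ ?_ ?_ ?_ ?_ ?_ ?_ ?_ ?_ ?_ ?_ ?_ cl' z hne
    · intro j
      show T.m (τ j) ≤ T.m (τ 0)
      rw [hfix 0 (by decide)]
      exact hmax _
    · show T.picMatrix (τ 0) (τ 1) = 1
      rw [hfix 0 (by decide), hfix 1 (by decide)]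
      exact e_0_1
    · show T.picMatrix (τ 0) (τ 2) = 1
      rw [hfix 0 (by decide), hfix 2 (by decide)]
      exact e_0_2
    · show T.picMatrix (τ 0) (τ 3) = 1
      rw [hfix 0 (by decide), hfix 3 (by decide)]
      exact e_0_3
    · show T.picMatrix (τ 0) (τ 4) = 0
      rw [hfix 0 (by decide), hfix 4 (by decide)]
      exact e_0_4
    · show T.picMatrix (τ 1) (τ 0) = 1
      rw [hfix 1 (by decide), hfix 0 (by decide)]
      exact e_1_0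
    · show T.picMatrix (τ 1) (τ 2) = 0
      rw [hfix 1 (by decide), hfix 2 (by decide)]
      exact e_1_2
    · show T.picMatrix (τ 1) (τ 3) = 0
      rw [hfix 1 (by decide), hfix 3 (by decide)]
      exact e_1_3
    · show T.picMatrix (τ 1) (τ 4) = 1
      rw [hfix 1 (by decide), hfix 4 (by decide)]
      exact e_1_4
    · show T.picMatrix (τ 2) (τ 0) = 1
      rw [hfix 2 (by decide), hfix 0 (by decide)]
      exact e_2_0
    · show T.picMatrix (τ 2) (τ 1) = 0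
      rw [hfix 2 (by decide), hfix 1 (by decide)]
      exact e_2_1
    · show T.picMatrix (τ 2) (τ 3) = 0
      rw [hfix 2 (by decide), hfix 3 (by decide)]
      exact e_2_3
    · show T.picMatrix (τ 2) (τ 4) = 0
      rw [hfix 2 (by decide), hfix 4 (by decide)]
      exact e_2_4
    · show T.picMatrix (τ 3) (τ 0) = 1
      rw [hfix 3 (by decide), hfix 0 (by decide)]
      exact e_3_0
    · show T.picMatrix (τ 3) (τ 1) = 0
      rw [hfix 3 (by decide), hfix 1 (by decide)]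
      exact e_3_1
    · show T.picMatrix (τ 3) (τ 2) = 0
      rw [hfix 3 (by decide), hfix 2 (by decide)]
      exact e_3_2
    · show T.picMatrix (τ 3) (τ 4) = 0
      rw [hfix 3 (by decide), hfix 4 (by decide)]
      exact e_3_4
    · show T.picMatrix (τ 4) (τ 0) = 0
      rw [hfix 4 (by decide), hfix 0 (by decide)]
      exact e_4_0
    · show T.picMatrix (τ 4) (τ 1) = 2
      rw [hfix 4 (by decide), hfix 1 (by decide)]
      exact e_4_1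
    · show T.picMatrix (τ 4) (τ 2) = 0
      rw [hfix 4 (by decide), hfix 2 (by decide)]
      exact e_4_2
    · show T.picMatrix (τ 4) (τ 3) = 0
      rw [hfix 4 (by decide), hfix 3 (by decide)]
      exact e_4_3

theorem nd_191 (T : Models.NumericalType 6)
    (hG : NTGood T)
    (hmax : ∀ j, T.m j ≤ T.m 0)
    (e_0_1 : T.picMatrix 0 1 = 1)
    (e_0_2 : T.picMatrix 0 2 = 1)
    (e_0_3 : T.picMatrix 0 3 = 1)
    (e_0_4 : T.picMatrix 0 4 = 0)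
    (e_1_0 : T.picMatrix 1 0 = 1)
    (e_1_2 : T.picMatrix 1 2 = 0)
    (e_1_3 : T.picMatrix 1 3 = 0)
    (e_1_4 : T.picMatrix 1 4 = 2)
    (e_2_0 : T.picMatrix 2 0 = 1)
    (e_2_1 : T.picMatrix 2 1 = 0)
    (e_2_3 : T.picMatrix 2 3 = 0)
    (e_2_4 : T.picMatrix 2 4 = 0)
    (e_3_0 : T.picMatrix 3 0 = 1)
    (e_3_1 : T.picMatrix 3 1 = 0)
    (e_3_2 : T.picMatrix 3 2 = 0)
    (e_3_4 : T.picMatrix 3 4 = 0)
    (e_4_0 : T.picMatrix 4 0 = 0)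
    (e_4_1 : T.picMatrix 4 1 = 1)
    (e_4_2 : T.picMatrix 4 2 = 0)
    (e_4_3 : T.picMatrix 4 3 = 0)
    (cl : ∀ a b : Fin 6, a.val < 5 → 5 ≤ b.val → T.picMatrix a b = 0) :
    Goal T := by
  exact (nt_closed_false T 5 (by norm_num) (by norm_num) cl).elim

theorem ex_192 (T : Models.NumericalType 6)
    (hG : NTGood T)
    (hmax : ∀ j, T.m j ≤ T.m 0)
    (e_0_1 : T.picMatrix 0 1 = 1)
    (e_0_2 : T.picMatrix 0 2 = 1)
    (e_0_3 : T.picMatrix 0 3 = 1)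
    (e_0_4 : T.picMatrix 0 4 = 0)
    (e_1_0 : T.picMatrix 1 0 = 1)
    (e_1_2 : T.picMatrix 1 2 = 0)
    (e_1_3 : T.picMatrix 1 3 = 0)
    (e_1_4 : T.picMatrix 1 4 = 2)
    (e_2_0 : T.picMatrix 2 0 = 1)
    (e_2_1 : T.picMatrix 2 1 = 0)
    (e_2_3 : T.picMatrix 2 3 = 0)
    (e_2_4 : T.picMatrix 2 4 = 0)
    (e_3_0 : T.picMatrix 3 0 = 1)
    (e_3_1 : T.picMatrix 3 1 = 0)
    (e_3_2 : T.picMatrix 3 2 = 0)
    (e_3_4 : T.picMatrix 3 4 = 0)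
    (e_4_0 : T.picMatrix 4 0 = 0)
    (e_4_1 : T.picMatrix 4 1 = 1)
    (e_4_2 : T.picMatrix 4 2 = 0)
    (e_4_3 : T.picMatrix 4 3 = 0)
    (cl : ∀ a b : Fin 6, a.val < 4 → 6 ≤ b.val → T.picMatrix a b = 0)
    (z : ∀ a : Fin 6, a.val < 4 → T.picMatrix a 5 = 0)
    (hne : T.picMatrix 4 5 ≠ 0) :
    Goal T := by
  have e_0_5 : T.picMatrix 0 5 = 0 := z 0 (by decide)
  have e_5_0 : T.picMatrix 5 0 = 0 := nt_pic_zero_symm T 0 5 e_0_5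
  have e_1_5 : T.picMatrix 1 5 = 0 := z 1 (by decide)
  have e_5_1 : T.picMatrix 5 1 = 0 := nt_pic_zero_symm T 1 5 e_1_5
  have e_2_5 : T.picMatrix 2 5 = 0 := z 2 (by decide)
  have e_5_2 : T.picMatrix 5 2 = 0 := nt_pic_zero_symm T 2 5 e_2_5
  have e_3_5 : T.picMatrix 3 5 = 0 := z 3 (by decide)
  have e_5_3 : T.picMatrix 5 3 = 0 := nt_pic_zero_symm T 3 5 e_3_5
  obtain ⟨hg0, hdA, hdP, hnn, hrow, hsym, hpair⟩ := ntgood_data T (by norm_num) hG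
  have hm_0 := T.m_pos 0
  have hw_0 := T.w_pos 0
  have hm_1 := T.m_pos 1
  have hw_1 := T.w_pos 1
  have hm_2 := T.m_pos 2
  have hw_2 := T.w_pos 2
  have hm_3 := T.m_pos 3
  have hw_3 := T.w_pos 3
  have hm_4 := T.m_pos 4
  have hw_4 := T.w_pos 4
  have hm_5 := T.m_pos 5
  have hw_5 := T.w_pos 5
  have hx_1 := hmax 1
  have hx_2 := hmax 2
  have hx_3 := hmax 3
  have hx_4 := hmax 4
  have hx_5 := hmax 5
  have N_4_5 := mul_nonneg (hnn 4 5 (by decide)) (T.m_pos 5).le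
  have N_5_4 := mul_nonneg (hnn 5 4 (by decide)) (T.m_pos 4).le
  have R_0 := hrow 0
  rw [Fin.sum_univ_six, hdP 0, e_0_1, e_0_2, e_0_3, e_0_4, e_0_5] at R_0
  have R_1 := hrow 1
  rw [Fin.sum_univ_six, hdP 1, e_1_0, e_1_2, e_1_3, e_1_4, e_1_5] at R_1
  have R_2 := hrow 2
  rw [Fin.sum_univ_six, hdP 2, e_2_0, e_2_1, e_2_3, e_2_4, e_2_5] at R_2
  have R_3 := hrow 3
  rw [Fin.sum_univ_six, hdP 3, e_3_0, e_3_1, e_3_2, e_3_4, e_3_5] at R_3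
  have R_4 := hrow 4
  rw [Fin.sum_univ_six, hdP 4, e_4_0, e_4_1, e_4_2, e_4_3] at R_4
  have R_5 := hrow 5
  rw [Fin.sum_univ_six, hdP 5, e_5_0, e_5_1, e_5_2, e_5_3] at R_5
  have S_0_1 := hsym 0 1
  rw [e_0_1, e_1_0] at S_0_1
  have S_0_2 := hsym 0 2
  rw [e_0_2, e_2_0] at S_0_2
  have S_0_3 := hsym 0 3
  rw [e_0_3, e_3_0] at S_0_3
  have S_0_4 := hsym 0 4
  rw [e_0_4, e_4_0] at S_0_4
  have S_0_5 := hsym 0 5
  rw [e_0_5, e_5_0] at S_0_5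
  have S_1_2 := hsym 1 2
  rw [e_1_2, e_2_1] at S_1_2
  have S_1_3 := hsym 1 3
  rw [e_1_3, e_3_1] at S_1_3
  have S_1_4 := hsym 1 4
  rw [e_1_4, e_4_1] at S_1_4
  have S_1_5 := hsym 1 5
  rw [e_1_5, e_5_1] at S_1_5
  have S_2_3 := hsym 2 3
  rw [e_2_3, e_3_2] at S_2_3
  have S_2_4 := hsym 2 4
  rw [e_2_4, e_4_2] at S_2_4
  have S_2_5 := hsym 2 5
  rw [e_2_5, e_5_2] at S_2_5
  have S_3_4 := hsym 3 4
  rw [e_3_4, e_4_3] at S_3_4
  have S_3_5 := hsym 3 5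
  rw [e_3_5, e_5_3] at S_3_5
  have S_4_5 := hsym 4 5
  have Q_4 := hpair 4 5 (by decide)
  generalize e_4_5 : T.picMatrix 4 5 = x_4 at *
  generalize e_5_4 : T.picMatrix 5 4 = y_4 at *
  rcases Q_4 with ⟨rfl, rfl⟩ | ⟨rfl, rfl⟩ | ⟨rfl, rfl⟩ | ⟨rfl, rfl⟩ | ⟨rfl, rfl⟩ | ⟨rfl, rfl⟩ | ⟨rfl, rfl⟩ | ⟨rfl, rfl⟩ | ⟨rfl, rfl⟩
  · exact absurd rfl hne
  · -- (4,5) = (1,1)
    omega
  · -- (4,5) = (1,2)
    omega
  · -- (4,5) = (2,1)
    omega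
  · -- (4,5) = (1,3)
    omega
  · -- (4,5) = (3,1)
    omega
  · -- (4,5) = (1,4)
    omega
  · -- (4,5) = (4,1)
    omega
  · -- (4,5) = (2,2)
    omega

theorem nd_190 (T : Models.NumericalType 6)
    (hG : NTGood T)
    (hmax : ∀ j, T.m j ≤ T.m 0)
    (e_0_1 : T.picMatrix 0 1 = 1)
    (e_0_2 : T.picMatrix 0 2 = 1)
    (e_0_3 : T.picMatrix 0 3 = 1)
    (e_0_4 : T.picMatrix 0 4 = 0)
    (e_1_0 : T.picMatrix 1 0 = 1)
    (e_1_2 : T.picMatrix 1 2 = 0)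
    (e_1_3 : T.picMatrix 1 3 = 0)
    (e_1_4 : T.picMatrix 1 4 = 2)
    (e_2_0 : T.picMatrix 2 0 = 1)
    (e_2_1 : T.picMatrix 2 1 = 0)
    (e_2_3 : T.picMatrix 2 3 = 0)
    (e_2_4 : T.picMatrix 2 4 = 0)
    (e_3_0 : T.picMatrix 3 0 = 1)
    (e_3_1 : T.picMatrix 3 1 = 0)
    (e_3_2 : T.picMatrix 3 2 = 0)
    (e_3_4 : T.picMatrix 3 4 = 0)
    (e_4_0 : T.picMatrix 4 0 = 0)
    (e_4_1 : T.picMatrix 4 1 = 1)
    (e_4_2 : T.picMatrix 4 2 = 0)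
    (e_4_3 : T.picMatrix 4 3 = 0)
    (cl : ∀ a b : Fin 6, a.val < 4 → 5 ≤ b.val → T.picMatrix a b = 0) :
    Goal T := by
  by_cases hc : ∀ b : Fin 6, 5 ≤ b.val → T.picMatrix 4 b = 0
  · exact nd_191 T hG hmax e_0_1 e_0_2 e_0_3 e_0_4 e_1_0 e_1_2 e_1_3 e_1_4 e_2_0 e_2_1 e_2_3 e_2_4 e_3_0 e_3_1 e_3_2 e_3_4 e_4_0 e_4_1 e_4_2 e_4_3 (nt_cl_succ T 5 4 4 rfl cl hc)
  · obtain ⟨τ, hfix, cl', z, hne⟩ := nt_wlog_step T 5 (by norm_num) 4 (by norm_num) 4 (by decide) cl hc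
    apply goal_relabel T τ
    refine ex_192 (ntRelabel T τ) (hG.relabel τ) ?_ ?_ ?_ ?_ ?_ ?_ ?_ ?_ ?_ ?_ ?_ ?_ ?_ ?_ ?_ ?_ ?_ ?_ ?_ ?_ ?_ cl' z hne
    · intro j
      show T.m (τ j) ≤ T.m (τ 0)
      rw [hfix 0 (by decide)]
      exact hmax _
    · show T.picMatrix (τ 0) (τ 1) = 1
      rw [hfix 0 (by decide), hfix 1 (by decide)]
      exact e_0_1
    · show T.picMatrix (τ 0) (τ 2) = 1
      rw [hfix 0 (by decide), hfix 2 (by decide)]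
      exact e_0_2
    · show T.picMatrix (τ 0) (τ 3) = 1
      rw [hfix 0 (by decide), hfix 3 (by decide)]
      exact e_0_3
    · show T.picMatrix (τ 0) (τ 4) = 0
      rw [hfix 0 (by decide), hfix 4 (by decide)]
      exact e_0_4
    · show T.picMatrix (τ 1) (τ 0) = 1
      rw [hfix 1 (by decide), hfix 0 (by decide)]
      exact e_1_0
    · show T.picMatrix (τ 1) (τ 2) = 0
      rw [hfix 1 (by decide), hfix 2 (by decide)]
      exact e_1_2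
    · show T.picMatrix (τ 1) (τ 3) = 0
      rw [hfix 1 (by decide), hfix 3 (by decide)]
      exact e_1_3
    · show T.picMatrix (τ 1) (τ 4) = 2
      rw [hfix 1 (by decide), hfix 4 (by decide)]
      exact e_1_4
    · show T.picMatrix (τ 2) (τ 0) = 1
      rw [hfix 2 (by decide), hfix 0 (by decide)]
      exact e_2_0
    · show T.picMatrix (τ 2) (τ 1) = 0
      rw [hfix 2 (by decide), hfix 1 (by decide)]
      exact e_2_1
    · show T.picMatrix (τ 2) (τ 3) = 0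
      rw [hfix 2 (by decide), hfix 3 (by decide)]
      exact e_2_3
    · show T.picMatrix (τ 2) (τ 4) = 0
      rw [hfix 2 (by decide), hfix 4 (by decide)]
      exact e_2_4
    · show T.picMatrix (τ 3) (τ 0) = 1
      rw [hfix 3 (by decide), hfix 0 (by decide)]
      exact e_3_0
    · show T.picMatrix (τ 3) (τ 1) = 0
      rw [hfix 3 (by decide), hfix 1 (by decide)]
      exact e_3_1
    · show T.picMatrix (τ 3) (τ 2) = 0
      rw [hfix 3 (by decide), hfix 2 (by decide)]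
      exact e_3_2
    · show T.picMatrix (τ 3) (τ 4) = 0
      rw [hfix 3 (by decide), hfix 4 (by decide)]
      exact e_3_4
    · show T.picMatrix (τ 4) (τ 0) = 0
      rw [hfix 4 (by decide), hfix 0 (by decide)]
      exact e_4_0
    · show T.picMatrix (τ 4) (τ 1) = 1
      rw [hfix 4 (by decide), hfix 1 (by decide)]
      exact e_4_1
    · show T.picMatrix (τ 4) (τ 2) = 0
      rw [hfix 4 (by decide), hfix 2 (by decide)]
      exact e_4_2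
    · show T.picMatrix (τ 4) (τ 3) = 0
      rw [hfix 4 (by decide), hfix 3 (by decide)]
      exact e_4_3

theorem ex_193 (T : Models.NumericalType 6)
    (hG : NTGood T)
    (hmax : ∀ j, T.m j ≤ T.m 0)
    (e_0_1 : T.picMatrix 0 1 = 1)
    (e_0_2 : T.picMatrix 0 2 = 1)
    (e_0_3 : T.picMatrix 0 3 = 1)
    (e_0_4 : T.picMatrix 0 4 = 0)
    (e_1_0 : T.picMatrix 1 0 = 1)
    (e_1_2 : T.picMatrix 1 2 = 0)
    (e_1_3 : T.picMatrix 1 3 = 0)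
    (e_1_4 : T.picMatrix 1 4 = 2)
    (e_2_0 : T.picMatrix 2 0 = 1)
    (e_2_1 : T.picMatrix 2 1 = 0)
    (e_2_3 : T.picMatrix 2 3 = 0)
    (e_2_4 : T.picMatrix 2 4 = 0)
    (e_3_0 : T.picMatrix 3 0 = 1)
    (e_3_1 : T.picMatrix 3 1 = 0)
    (e_3_2 : T.picMatrix 3 2 = 0)
    (e_3_4 : T.picMatrix 3 4 = 0)
    (e_4_0 : T.picMatrix 4 0 = 0)
    (e_4_1 : T.picMatrix 4 1 = 1)
    (e_4_2 : T.picMatrix 4 2 = 0)
    (e_4_3 : T.picMatrix 4 3 = 0)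
    (cl : ∀ a b : Fin 6, a.val < 3 → 6 ≤ b.val → T.picMatrix a b = 0)
    (z : ∀ a : Fin 6, a.val < 3 → T.picMatrix a 5 = 0)
    (hne : T.picMatrix 3 5 ≠ 0) :
    Goal T := by
  have e_0_5 : T.picMatrix 0 5 = 0 := z 0 (by decide)
  have e_5_0 : T.picMatrix 5 0 = 0 := nt_pic_zero_symm T 0 5 e_0_5
  have e_1_5 : T.picMatrix 1 5 = 0 := z 1 (by decide)
  have e_5_1 : T.picMatrix 5 1 = 0 := nt_pic_zero_symm T 1 5 e_1_5
  have e_2_5 : T.picMatrix 2 5 = 0 := z 2 (by decide)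
  have e_5_2 : T.picMatrix 5 2 = 0 := nt_pic_zero_symm T 2 5 e_2_5
  obtain ⟨hg0, hdA, hdP, hnn, hrow, hsym, hpair⟩ := ntgood_data T (by norm_num) hG
  have hm_0 := T.m_pos 0
  have hw_0 := T.w_pos 0
  have hm_1 := T.m_pos 1
  have hw_1 := T.w_pos 1
  have hm_2 := T.m_pos 2
  have hw_2 := T.w_pos 2
  have hm_3 := T.m_pos 3
  have hw_3 := T.w_pos 3
  have hm_4 := T.m_pos 4
  have hw_4 := T.w_pos 4
  have hm_5 := T.m_pos 5
  have hw_5 := T.w_pos 5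
  have hx_1 := hmax 1
  have hx_2 := hmax 2
  have hx_3 := hmax 3
  have hx_4 := hmax 4
  have hx_5 := hmax 5
  have N_3_5 := mul_nonneg (hnn 3 5 (by decide)) (T.m_pos 5).le
  have N_5_3 := mul_nonneg (hnn 5 3 (by decide)) (T.m_pos 3).le
  have N_4_5 := mul_nonneg (hnn 4 5 (by decide)) (T.m_pos 5).le
  have N_5_4 := mul_nonneg (hnn 5 4 (by decide)) (T.m_pos 4).le
  have R_0 := hrow 0
  rw [Fin.sum_univ_six, hdP 0, e_0_1, e_0_2, e_0_3, e_0_4, e_0_5] at R_0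
  have R_1 := hrow 1
  rw [Fin.sum_univ_six, hdP 1, e_1_0, e_1_2, e_1_3, e_1_4, e_1_5] at R_1
  have R_2 := hrow 2
  rw [Fin.sum_univ_six, hdP 2, e_2_0, e_2_1, e_2_3, e_2_4, e_2_5] at R_2
  have R_3 := hrow 3
  rw [Fin.sum_univ_six, hdP 3, e_3_0, e_3_1, e_3_2, e_3_4] at R_3
  have R_4 := hrow 4
  rw [Fin.sum_univ_six, hdP 4, e_4_0, e_4_1, e_4_2, e_4_3] at R_4
  have R_5 := hrow 5
  rw [Fin.sum_univ_six, hdP 5, e_5_0, e_5_1, e_5_2] at R_5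
  have S_0_1 := hsym 0 1
  rw [e_0_1, e_1_0] at S_0_1
  have S_0_2 := hsym 0 2
  rw [e_0_2, e_2_0] at S_0_2
  have S_0_3 := hsym 0 3
  rw [e_0_3, e_3_0] at S_0_3
  have S_0_4 := hsym 0 4
  rw [e_0_4, e_4_0] at S_0_4
  have S_0_5 := hsym 0 5
  rw [e_0_5, e_5_0] at S_0_5
  have S_1_2 := hsym 1 2
  rw [e_1_2, e_2_1] at S_1_2
  have S_1_3 := hsym 1 3
  rw [e_1_3, e_3_1] at S_1_3
  have S_1_4 := hsym 1 4
  rw [e_1_4, e_4_1] at S_1_4
  have S_1_5 := hsym 1 5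
  rw [e_1_5, e_5_1] at S_1_5
  have S_2_3 := hsym 2 3
  rw [e_2_3, e_3_2] at S_2_3
  have S_2_4 := hsym 2 4
  rw [e_2_4, e_4_2] at S_2_4
  have S_2_5 := hsym 2 5
  rw [e_2_5, e_5_2] at S_2_5
  have S_3_4 := hsym 3 4
  rw [e_3_4, e_4_3] at S_3_4
  have S_3_5 := hsym 3 5
  have S_4_5 := hsym 4 5
  have Q_3 := hpair 3 5 (by decide)
  have Q_4 := hpair 4 5 (by decide)
  generalize e_3_5 : T.picMatrix 3 5 = x_3 at *
  generalize e_5_3 : T.picMatrix 5 3 = y_3 at *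
  generalize e_4_5 : T.picMatrix 4 5 = x_4 at *
  generalize e_5_4 : T.picMatrix 5 4 = y_4 at *
  rcases Q_3 with ⟨rfl, rfl⟩ | ⟨rfl, rfl⟩ | ⟨rfl, rfl⟩ | ⟨rfl, rfl⟩ | ⟨rfl, rfl⟩ | ⟨rfl, rfl⟩ | ⟨rfl, rfl⟩ | ⟨rfl, rfl⟩ | ⟨rfl, rfl⟩
  · exact absurd rfl hne
  · omega
  · omega
  · omega
  · omega
  · omega
  · omega
  · omega
  · omega

theorem nd_189 (T : Models.NumericalType 6)
    (hG : NTGood T)
    (hmax : ∀ j, T.m j ≤ T.m 0)
    (e_0_1 : T.picMatrix 0 1 = 1)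
    (e_0_2 : T.picMatrix 0 2 = 1)
    (e_0_3 : T.picMatrix 0 3 = 1)
    (e_0_4 : T.picMatrix 0 4 = 0)
    (e_1_0 : T.picMatrix 1 0 = 1)
    (e_1_2 : T.picMatrix 1 2 = 0)
    (e_1_3 : T.picMatrix 1 3 = 0)
    (e_1_4 : T.picMatrix 1 4 = 2)
    (e_2_0 : T.picMatrix 2 0 = 1)
    (e_2_1 : T.picMatrix 2 1 = 0)
    (e_2_3 : T.picMatrix 2 3 = 0)
    (e_2_4 : T.picMatrix 2 4 = 0)
    (e_3_0 : T.picMatrix 3 0 = 1)
    (e_3_1 : T.picMatrix 3 1 = 0)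
    (e_3_2 : T.picMatrix 3 2 = 0)
    (e_3_4 : T.picMatrix 3 4 = 0)
    (e_4_0 : T.picMatrix 4 0 = 0)
    (e_4_1 : T.picMatrix 4 1 = 1)
    (e_4_2 : T.picMatrix 4 2 = 0)
    (e_4_3 : T.picMatrix 4 3 = 0)
    (cl : ∀ a b : Fin 6, a.val < 3 → 5 ≤ b.val → T.picMatrix a b = 0) :
    Goal T := by
  by_cases hc : ∀ b : Fin 6, 5 ≤ b.val → T.picMatrix 3 b = 0
  · exact nd_190 T hG hmax e_0_1 e_0_2 e_0_3 e_0_4 e_1_0 e_1_2 e_1_3 e_1_4 e_2_0 e_2_1 e_2_3 e_2_4 e_3_0 e_3_1 e_3_2 e_3_4 e_4_0 e_4_1 e_4_2 e_4_3 (nt_cl_succ T 5 3 3 rfl cl hc)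
  · obtain ⟨τ, hfix, cl', z, hne⟩ := nt_wlog_step T 5 (by norm_num) 3 (by norm_num) 3 (by decide) cl hc
    apply goal_relabel T τ
    refine ex_193 (ntRelabel T τ) (hG.relabel τ) ?_ ?_ ?_ ?_ ?_ ?_ ?_ ?_ ?_ ?_ ?_ ?_ ?_ ?_ ?_ ?_ ?_ ?_ ?_ ?_ ?_ cl' z hne
    · intro j
      show T.m (τ j) ≤ T.m (τ 0)
      rw [hfix 0 (by decide)]
      exact hmax _
    · show T.picMatrix (τ 0) (τ 1) = 1
      rw [hfix 0 (by decide), hfix 1 (by decide)]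
      exact e_0_1
    · show T.picMatrix (τ 0) (τ 2) = 1
      rw [hfix 0 (by decide), hfix 2 (by decide)]
      exact e_0_2
    · show T.picMatrix (τ 0) (τ 3) = 1
      rw [hfix 0 (by decide), hfix 3 (by decide)]
      exact e_0_3
    · show T.picMatrix (τ 0) (τ 4) = 0
      rw [hfix 0 (by decide), hfix 4 (by decide)]
      exact e_0_4
    · show T.picMatrix (τ 1) (τ 0) = 1
      rw [hfix 1 (by decide), hfix 0 (by decide)]
      exact e_1_0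
    · show T.picMatrix (τ 1) (τ 2) = 0
      rw [hfix 1 (by decide), hfix 2 (by decide)]
      exact e_1_2
    · show T.picMatrix (τ 1) (τ 3) = 0
      rw [hfix 1 (by decide), hfix 3 (by decide)]
      exact e_1_3
    · show T.picMatrix (τ 1) (τ 4) = 2
      rw [hfix 1 (by decide), hfix 4 (by decide)]
      exact e_1_4
    · show T.picMatrix (τ 2) (τ 0) = 1
      rw [hfix 2 (by decide), hfix 0 (by decide)]
      exact e_2_0
    · show T.picMatrix (τ 2) (τ 1) = 0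
      rw [hfix 2 (by decide), hfix 1 (by decide)]
      exact e_2_1
    · show T.picMatrix (τ 2) (τ 3) = 0
      rw [hfix 2 (by decide), hfix 3 (by decide)]
      exact e_2_3
    · show T.picMatrix (τ 2) (τ 4) = 0
      rw [hfix 2 (by decide), hfix 4 (by decide)]
      exact e_2_4
    · show T.picMatrix (τ 3) (τ 0) = 1
      rw [hfix 3 (by decide), hfix 0 (by decide)]
      exact e_3_0
    · show T.picMatrix (τ 3) (τ 1) = 0
      rw [hfix 3 (by decide), hfix 1 (by decide)]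
      exact e_3_1
    · show T.picMatrix (τ 3) (τ 2) = 0
      rw [hfix 3 (by decide), hfix 2 (by decide)]
      exact e_3_2
    · show T.picMatrix (τ 3) (τ 4) = 0
      rw [hfix 3 (by decide), hfix 4 (by decide)]
      exact e_3_4
    · show T.picMatrix (τ 4) (τ 0) = 0
      rw [hfix 4 (by decide), hfix 0 (by decide)]
      exact e_4_0
    · show T.picMatrix (τ 4) (τ 1) = 1
      rw [hfix 4 (by decide), hfix 1 (by decide)]
      exact e_4_1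
    · show T.picMatrix (τ 4) (τ 2) = 0
      rw [hfix 4 (by decide), hfix 2 (by decide)]
      exact e_4_2
    · show T.picMatrix (τ 4) (τ 3) = 0
      rw [hfix 4 (by decide), hfix 3 (by decide)]
      exact e_4_3

theorem ex_194 (T : Models.NumericalType 6)
    (hG : NTGood T)
    (hmax : ∀ j, T.m j ≤ T.m 0)
    (e_0_1 : T.picMatrix 0 1 = 1)
    (e_0_2 : T.picMatrix 0 2 = 1)
    (e_0_3 : T.picMatrix 0 3 = 1)
    (e_0_4 : T.picMatrix 0 4 = 0)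
    (e_1_0 : T.picMatrix 1 0 = 1)
    (e_1_2 : T.picMatrix 1 2 = 0)
    (e_1_3 : T.picMatrix 1 3 = 0)
    (e_1_4 : T.picMatrix 1 4 = 2)
    (e_2_0 : T.picMatrix 2 0 = 1)
    (e_2_1 : T.picMatrix 2 1 = 0)
    (e_2_3 : T.picMatrix 2 3 = 0)
    (e_2_4 : T.picMatrix 2 4 = 0)
    (e_3_0 : T.picMatrix 3 0 = 1)
    (e_3_1 : T.picMatrix 3 1 = 0)
    (e_3_2 : T.picMatrix 3 2 = 0)
    (e_3_4 : T.picMatrix 3 4 = 0)
    (e_4_0 : T.picMatrix 4 0 = 0)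
    (e_4_1 : T.picMatrix 4 1 = 1)
    (e_4_2 : T.picMatrix 4 2 = 0)
    (e_4_3 : T.picMatrix 4 3 = 0)
    (cl : ∀ a b : Fin 6, a.val < 2 → 6 ≤ b.val → T.picMatrix a b = 0)
    (z : ∀ a : Fin 6, a.val < 2 → T.picMatrix a 5 = 0)
    (hne : T.picMatrix 2 5 ≠ 0) :
    Goal T := by
  have e_0_5 : T.picMatrix 0 5 = 0 := z 0 (by decide)
  have e_5_0 : T.picMatrix 5 0 = 0 := nt_pic_zero_symm T 0 5 e_0_5
  have e_1_5 : T.picMatrix 1 5 = 0 := z 1 (by decide)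
  have e_5_1 : T.picMatrix 5 1 = 0 := nt_pic_zero_symm T 1 5 e_1_5
  obtain ⟨hg0, hdA, hdP, hnn, hrow, hsym, hpair⟩ := ntgood_data T (by norm_num) hG
  have hm_0 := T.m_pos 0
  have hw_0 := T.w_pos 0
  have hm_1 := T.m_pos 1
  have hw_1 := T.w_pos 1
  have hm_2 := T.m_pos 2
  have hw_2 := T.w_pos 2
  have hm_3 := T.m_pos 3
  have hw_3 := T.w_pos 3
  have hm_4 := T.m_pos 4
  have hw_4 := T.w_pos 4
  have hm_5 := T.m_pos 5
  have hw_5 := T.w_pos 5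
  have hx_1 := hmax 1
  have hx_2 := hmax 2
  have hx_3 := hmax 3
  have hx_4 := hmax 4
  have hx_5 := hmax 5
  have N_2_5 := mul_nonneg (hnn 2 5 (by decide)) (T.m_pos 5).le
  have N_5_2 := mul_nonneg (hnn 5 2 (by decide)) (T.m_pos 2).le
  have N_3_5 := mul_nonneg (hnn 3 5 (by decide)) (T.m_pos 5).le
  have N_5_3 := mul_nonneg (hnn 5 3 (by decide)) (T.m_pos 3).le
  have N_4_5 := mul_nonneg (hnn 4 5 (by decide)) (T.m_pos 5).le
  have N_5_4 := mul_nonneg (hnn 5 4 (by decide)) (T.m_pos 4).le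
  have R_0 := hrow 0
  rw [Fin.sum_univ_six, hdP 0, e_0_1, e_0_2, e_0_3, e_0_4, e_0_5] at R_0
  have R_1 := hrow 1
  rw [Fin.sum_univ_six, hdP 1, e_1_0, e_1_2, e_1_3, e_1_4, e_1_5] at R_1
  have R_2 := hrow 2
  rw [Fin.sum_univ_six, hdP 2, e_2_0, e_2_1, e_2_3, e_2_4] at R_2
  have R_3 := hrow 3
  rw [Fin.sum_univ_six, hdP 3, e_3_0, e_3_1, e_3_2, e_3_4] at R_3
  have R_4 := hrow 4
  rw [Fin.sum_univ_six, hdP 4, e_4_0, e_4_1, e_4_2, e_4_3] at R_4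
  have R_5 := hrow 5
  rw [Fin.sum_univ_six, hdP 5, e_5_0, e_5_1] at R_5
  have S_0_1 := hsym 0 1
  rw [e_0_1, e_1_0] at S_0_1
  have S_0_2 := hsym 0 2
  rw [e_0_2, e_2_0] at S_0_2
  have S_0_3 := hsym 0 3
  rw [e_0_3, e_3_0] at S_0_3
  have S_0_4 := hsym 0 4
  rw [e_0_4, e_4_0] at S_0_4
  have S_0_5 := hsym 0 5
  rw [e_0_5, e_5_0] at S_0_5
  have S_1_2 := hsym 1 2
  rw [e_1_2, e_2_1] at S_1_2
  have S_1_3 := hsym 1 3
  rw [e_1_3, e_3_1] at S_1_3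
  have S_1_4 := hsym 1 4
  rw [e_1_4, e_4_1] at S_1_4
  have S_1_5 := hsym 1 5
  rw [e_1_5, e_5_1] at S_1_5
  have S_2_3 := hsym 2 3
  rw [e_2_3, e_3_2] at S_2_3
  have S_2_4 := hsym 2 4
  rw [e_2_4, e_4_2] at S_2_4
  have S_2_5 := hsym 2 5
  have S_3_4 := hsym 3 4
  rw [e_3_4, e_4_3] at S_3_4
  have S_3_5 := hsym 3 5
  have S_4_5 := hsym 4 5
  have Q_2 := hpair 2 5 (by decide)
  have Q_3 := hpair 3 5 (by decide)
  have Q_4 := hpair 4 5 (by decide)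
  generalize e_2_5 : T.picMatrix 2 5 = x_2 at *
  generalize e_5_2 : T.picMatrix 5 2 = y_2 at *
  generalize e_3_5 : T.picMatrix 3 5 = x_3 at *
  generalize e_5_3 : T.picMatrix 5 3 = y_3 at *
  generalize e_4_5 : T.picMatrix 4 5 = x_4 at *
  generalize e_5_4 : T.picMatrix 5 4 = y_4 at *
  rcases Q_2 with ⟨rfl, rfl⟩ | ⟨rfl, rfl⟩ | ⟨rfl, rfl⟩ | ⟨rfl, rfl⟩ | ⟨rfl, rfl⟩ | ⟨rfl, rfl⟩ | ⟨rfl, rfl⟩ | ⟨rfl, rfl⟩ | ⟨rfl, rfl⟩
  · exact absurd rfl hne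
  · omega
  · omega
  · omega
  · omega
  · omega
  · omega
  · omega
  · omega

theorem nd_188 (T : Models.NumericalType 6)
    (hG : NTGood T)
    (hmax : ∀ j, T.m j ≤ T.m 0)
    (e_0_1 : T.picMatrix 0 1 = 1)
    (e_0_2 : T.picMatrix 0 2 = 1)
    (e_0_3 : T.picMatrix 0 3 = 1)
    (e_0_4 : T.picMatrix 0 4 = 0)
    (e_1_0 : T.picMatrix 1 0 = 1)
    (e_1_2 : T.picMatrix 1 2 = 0)
    (e_1_3 : T.picMatrix 1 3 = 0)
    (e_1_4 : T.picMatrix 1 4 = 2)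
    (e_2_0 : T.picMatrix 2 0 = 1)
    (e_2_1 : T.picMatrix 2 1 = 0)
    (e_2_3 : T.picMatrix 2 3 = 0)
    (e_2_4 : T.picMatrix 2 4 = 0)
    (e_3_0 : T.picMatrix 3 0 = 1)
    (e_3_1 : T.picMatrix 3 1 = 0)
    (e_3_2 : T.picMatrix 3 2 = 0)
    (e_3_4 : T.picMatrix 3 4 = 0)
    (e_4_0 : T.picMatrix 4 0 = 0)
    (e_4_1 : T.picMatrix 4 1 = 1)
    (e_4_2 : T.picMatrix 4 2 = 0)
    (e_4_3 : T.picMatrix 4 3 = 0)
    (cl : ∀ a b : Fin 6, a.val < 2 → 5 ≤ b.val → T.picMatrix a b = 0) :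
    Goal T := by
  by_cases hc : ∀ b : Fin 6, 5 ≤ b.val → T.picMatrix 2 b = 0
  · exact nd_189 T hG hmax e_0_1 e_0_2 e_0_3 e_0_4 e_1_0 e_1_2 e_1_3 e_1_4 e_2_0 e_2_1 e_2_3 e_2_4 e_3_0 e_3_1 e_3_2 e_3_4 e_4_0 e_4_1 e_4_2 e_4_3 (nt_cl_succ T 5 2 2 rfl cl hc)
  · obtain ⟨τ, hfix, cl', z, hne⟩ := nt_wlog_step T 5 (by norm_num) 2 (by norm_num) 2 (by decide) cl hc
    apply goal_relabel T τ
    refine ex_194 (ntRelabel T τ) (hG.relabel τ) ?_ ?_ ?_ ?_ ?_ ?_ ?_ ?_ ?_ ?_ ?_ ?_ ?_ ?_ ?_ ?_ ?_ ?_ ?_ ?_ ?_ cl' z hne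
    · intro j
      show T.m (τ j) ≤ T.m (τ 0)
      rw [hfix 0 (by decide)]
      exact hmax _
    · show T.picMatrix (τ 0) (τ 1) = 1
      rw [hfix 0 (by decide), hfix 1 (by decide)]
      exact e_0_1
    · show T.picMatrix (τ 0) (τ 2) = 1
      rw [hfix 0 (by decide), hfix 2 (by decide)]
      exact e_0_2
    · show T.picMatrix (τ 0) (τ 3) = 1
      rw [hfix 0 (by decide), hfix 3 (by decide)]
      exact e_0_3
    · show T.picMatrix (τ 0) (τ 4) = 0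
      rw [hfix 0 (by decide), hfix 4 (by decide)]
      exact e_0_4
    · show T.picMatrix (τ 1) (τ 0) = 1
      rw [hfix 1 (by decide), hfix 0 (by decide)]
      exact e_1_0
    · show T.picMatrix (τ 1) (τ 2) = 0
      rw [hfix 1 (by decide), hfix 2 (by decide)]
      exact e_1_2
    · show T.picMatrix (τ 1) (τ 3) = 0
      rw [hfix 1 (by decide), hfix 3 (by decide)]
      exact e_1_3
    · show T.picMatrix (τ 1) (τ 4) = 2
      rw [hfix 1 (by decide), hfix 4 (by decide)]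
      exact e_1_4
    · show T.picMatrix (τ 2) (τ 0) = 1
      rw [hfix 2 (by decide), hfix 0 (by decide)]
      exact e_2_0
    · show T.picMatrix (τ 2) (τ 1) = 0
      rw [hfix 2 (by decide), hfix 1 (by decide)]
      exact e_2_1
    · show T.picMatrix (τ 2) (τ 3) = 0
      rw [hfix 2 (by decide), hfix 3 (by decide)]
      exact e_2_3
    · show T.picMatrix (τ 2) (τ 4) = 0
      rw [hfix 2 (by decide), hfix 4 (by decide)]
      exact e_2_4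
    · show T.picMatrix (τ 3) (τ 0) = 1
      rw [hfix 3 (by decide), hfix 0 (by decide)]
      exact e_3_0
    · show T.picMatrix (τ 3) (τ 1) = 0
      rw [hfix 3 (by decide), hfix 1 (by decide)]
      exact e_3_1
    · show T.picMatrix (τ 3) (τ 2) = 0
      rw [hfix 3 (by decide), hfix 2 (by decide)]
      exact e_3_2
    · show T.picMatrix (τ 3) (τ 4) = 0
      rw [hfix 3 (by decide), hfix 4 (by decide)]
      exact e_3_4
    · show T.picMatrix (τ 4) (τ 0) = 0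
      rw [hfix 4 (by decide), hfix 0 (by decide)]
      exact e_4_0
    · show T.picMatrix (τ 4) (τ 1) = 1
      rw [hfix 4 (by decide), hfix 1 (by decide)]
      exact e_4_1
    · show T.picMatrix (τ 4) (τ 2) = 0
      rw [hfix 4 (by decide), hfix 2 (by decide)]
      exact e_4_2
    · show T.picMatrix (τ 4) (τ 3) = 0
      rw [hfix 4 (by decide), hfix 3 (by decide)]
      exact e_4_3

theorem ex_195 (T : Models.NumericalType 6)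
    (hG : NTGood T)
    (hmax : ∀ j, T.m j ≤ T.m 0)
    (e_0_1 : T.picMatrix 0 1 = 1)
    (e_0_2 : T.picMatrix 0 2 = 1)
    (e_0_3 : T.picMatrix 0 3 = 1)
    (e_0_4 : T.picMatrix 0 4 = 0)
    (e_1_0 : T.picMatrix 1 0 = 1)
    (e_1_2 : T.picMatrix 1 2 = 0)
    (e_1_3 : T.picMatrix 1 3 = 0)
    (e_1_4 : T.picMatrix 1 4 = 2)
    (e_2_0 : T.picMatrix 2 0 = 1)
    (e_2_1 : T.picMatrix 2 1 = 0)
    (e_2_3 : T.picMatrix 2 3 = 0)
    (e_2_4 : T.picMatrix 2 4 = 0)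
    (e_3_0 : T.picMatrix 3 0 = 1)
    (e_3_1 : T.picMatrix 3 1 = 0)
    (e_3_2 : T.picMatrix 3 2 = 0)
    (e_3_4 : T.picMatrix 3 4 = 0)
    (e_4_0 : T.picMatrix 4 0 = 0)
    (e_4_1 : T.picMatrix 4 1 = 1)
    (e_4_2 : T.picMatrix 4 2 = 0)
    (e_4_3 : T.picMatrix 4 3 = 0)
    (cl : ∀ a b : Fin 6, a.val < 1 → 6 ≤ b.val → T.picMatrix a b = 0)
    (z : ∀ a : Fin 6, a.val < 1 → T.picMatrix a 5 = 0)
    (hne : T.picMatrix 1 5 ≠ 0) :
    Goal T := by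
  have e_0_5 : T.picMatrix 0 5 = 0 := z 0 (by decide)
  have e_5_0 : T.picMatrix 5 0 = 0 := nt_pic_zero_symm T 0 5 e_0_5
  obtain ⟨hg0, hdA, hdP, hnn, hrow, hsym, hpair⟩ := ntgood_data T (by norm_num) hG
  have hm_0 := T.m_pos 0
  have hw_0 := T.w_pos 0
  have hm_1 := T.m_pos 1
  have hw_1 := T.w_pos 1
  have hm_2 := T.m_pos 2
  have hw_2 := T.w_pos 2
  have hm_3 := T.m_pos 3
  have hw_3 := T.w_pos 3
  have hm_4 := T.m_pos 4
  have hw_4 := T.w_pos 4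
  have hm_5 := T.m_pos 5
  have hw_5 := T.w_pos 5
  have hx_1 := hmax 1
  have hx_2 := hmax 2
  have hx_3 := hmax 3
  have hx_4 := hmax 4
  have hx_5 := hmax 5
  have N_1_5 := mul_nonneg (hnn 1 5 (by decide)) (T.m_pos 5).le
  have N_5_1 := mul_nonneg (hnn 5 1 (by decide)) (T.m_pos 1).le
  have N_2_5 := mul_nonneg (hnn 2 5 (by decide)) (T.m_pos 5).le
  have N_5_2 := mul_nonneg (hnn 5 2 (by decide)) (T.m_pos 2).le
  have N_3_5 := mul_nonneg (hnn 3 5 (by decide)) (T.m_pos 5).le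
  have N_5_3 := mul_nonneg (hnn 5 3 (by decide)) (T.m_pos 3).le
  have N_4_5 := mul_nonneg (hnn 4 5 (by decide)) (T.m_pos 5).le
  have N_5_4 := mul_nonneg (hnn 5 4 (by decide)) (T.m_pos 4).le
  have R_0 := hrow 0
  rw [Fin.sum_univ_six, hdP 0, e_0_1, e_0_2, e_0_3, e_0_4, e_0_5] at R_0
  have R_1 := hrow 1
  rw [Fin.sum_univ_six, hdP 1, e_1_0, e_1_2, e_1_3, e_1_4] at R_1
  have R_2 := hrow 2
  rw [Fin.sum_univ_six, hdP 2, e_2_0, e_2_1, e_2_3, e_2_4] at R_2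
  have R_3 := hrow 3
  rw [Fin.sum_univ_six, hdP 3, e_3_0, e_3_1, e_3_2, e_3_4] at R_3
  have R_4 := hrow 4
  rw [Fin.sum_univ_six, hdP 4, e_4_0, e_4_1, e_4_2, e_4_3] at R_4
  have R_5 := hrow 5
  rw [Fin.sum_univ_six, hdP 5, e_5_0] at R_5
  have S_0_1 := hsym 0 1
  rw [e_0_1, e_1_0] at S_0_1
  have S_0_2 := hsym 0 2
  rw [e_0_2, e_2_0] at S_0_2
  have S_0_3 := hsym 0 3
  rw [e_0_3, e_3_0] at S_0_3
  have S_0_4 := hsym 0 4
  rw [e_0_4, e_4_0] at S_0_4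
  have S_0_5 := hsym 0 5
  rw [e_0_5, e_5_0] at S_0_5
  have S_1_2 := hsym 1 2
  rw [e_1_2, e_2_1] at S_1_2
  have S_1_3 := hsym 1 3
  rw [e_1_3, e_3_1] at S_1_3
  have S_1_4 := hsym 1 4
  rw [e_1_4, e_4_1] at S_1_4
  have S_1_5 := hsym 1 5
  have S_2_3 := hsym 2 3
  rw [e_2_3, e_3_2] at S_2_3
  have S_2_4 := hsym 2 4
  rw [e_2_4, e_4_2] at S_2_4
  have S_2_5 := hsym 2 5
  have S_3_4 := hsym 3 4
  rw [e_3_4, e_4_3] at S_3_4
  have S_3_5 := hsym 3 5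
  have S_4_5 := hsym 4 5
  have Q_1 := hpair 1 5 (by decide)
  have Q_2 := hpair 2 5 (by decide)
  have Q_3 := hpair 3 5 (by decide)
  have Q_4 := hpair 4 5 (by decide)
  generalize e_1_5 : T.picMatrix 1 5 = x_1 at *
  generalize e_5_1 : T.picMatrix 5 1 = y_1 at *
  generalize e_2_5 : T.picMatrix 2 5 = x_2 at *
  generalize e_5_2 : T.picMatrix 5 2 = y_2 at *
  generalize e_3_5 : T.picMatrix 3 5 = x_3 at *
  generalize e_5_3 : T.picMatrix 5 3 = y_3 at *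
  generalize e_4_5 : T.picMatrix 4 5 = x_4 at *
  generalize e_5_4 : T.picMatrix 5 4 = y_4 at *
  rcases Q_1 with ⟨rfl, rfl⟩ | ⟨rfl, rfl⟩ | ⟨rfl, rfl⟩ | ⟨rfl, rfl⟩ | ⟨rfl, rfl⟩ | ⟨rfl, rfl⟩ | ⟨rfl, rfl⟩ | ⟨rfl, rfl⟩ | ⟨rfl, rfl⟩
  · exact absurd rfl hne
  · omega
  · omega
  · omega
  · omega
  · omega
  · omega
  · omega
  · omega

theorem nd_187 (T : Models.NumericalType 6)
    (hG : NTGood T)
    (hmax : ∀ j, T.m j ≤ T.m 0)
    (e_0_1 : T.picMatrix 0 1 = 1)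
    (e_0_2 : T.picMatrix 0 2 = 1)
    (e_0_3 : T.picMatrix 0 3 = 1)
    (e_0_4 : T.picMatrix 0 4 = 0)
    (e_1_0 : T.picMatrix 1 0 = 1)
    (e_1_2 : T.picMatrix 1 2 = 0)
    (e_1_3 : T.picMatrix 1 3 = 0)
    (e_1_4 : T.picMatrix 1 4 = 2)
    (e_2_0 : T.picMatrix 2 0 = 1)
    (e_2_1 : T.picMatrix 2 1 = 0)
    (e_2_3 : T.picMatrix 2 3 = 0)
    (e_2_4 : T.picMatrix 2 4 = 0)
    (e_3_0 : T.picMatrix 3 0 = 1)
    (e_3_1 : T.picMatrix 3 1 = 0)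
    (e_3_2 : T.picMatrix 3 2 = 0)
    (e_3_4 : T.picMatrix 3 4 = 0)
    (e_4_0 : T.picMatrix 4 0 = 0)
    (e_4_1 : T.picMatrix 4 1 = 1)
    (e_4_2 : T.picMatrix 4 2 = 0)
    (e_4_3 : T.picMatrix 4 3 = 0)
    (cl : ∀ a b : Fin 6, a.val < 1 → 5 ≤ b.val → T.picMatrix a b = 0) :
    Goal T := by
  by_cases hc : ∀ b : Fin 6, 5 ≤ b.val → T.picMatrix 1 b = 0
  · exact nd_188 T hG hmax e_0_1 e_0_2 e_0_3 e_0_4 e_1_0 e_1_2 e_1_3 e_1_4 e_2_0 e_2_1 e_2_3 e_2_4 e_3_0 e_3_1 e_3_2 e_3_4 e_4_0 e_4_1 e_4_2 e_4_3 (nt_cl_succ T 5 1 1 rfl cl hc)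
  · obtain ⟨τ, hfix, cl', z, hne⟩ := nt_wlog_step T 5 (by norm_num) 1 (by norm_num) 1 (by decide) cl hc
    apply goal_relabel T τ
    refine ex_195 (ntRelabel T τ) (hG.relabel τ) ?_ ?_ ?_ ?_ ?_ ?_ ?_ ?_ ?_ ?_ ?_ ?_ ?_ ?_ ?_ ?_ ?_ ?_ ?_ ?_ ?_ cl' z hne
    · intro j
      show T.m (τ j) ≤ T.m (τ 0)
      rw [hfix 0 (by decide)]
      exact hmax _
    · show T.picMatrix (τ 0) (τ 1) = 1
      rw [hfix 0 (by decide), hfix 1 (by decide)]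
      exact e_0_1
    · show T.picMatrix (τ 0) (τ 2) = 1
      rw [hfix 0 (by decide), hfix 2 (by decide)]
      exact e_0_2
    · show T.picMatrix (τ 0) (τ 3) = 1
      rw [hfix 0 (by decide), hfix 3 (by decide)]
      exact e_0_3
    · show T.picMatrix (τ 0) (τ 4) = 0
      rw [hfix 0 (by decide), hfix 4 (by decide)]
      exact e_0_4
    · show T.picMatrix (τ 1) (τ 0) = 1
      rw [hfix 1 (by decide), hfix 0 (by decide)]
      exact e_1_0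
    · show T.picMatrix (τ 1) (τ 2) = 0
      rw [hfix 1 (by decide), hfix 2 (by decide)]
      exact e_1_2
    · show T.picMatrix (τ 1) (τ 3) = 0
      rw [hfix 1 (by decide), hfix 3 (by decide)]
      exact e_1_3
    · show T.picMatrix (τ 1) (τ 4) = 2
      rw [hfix 1 (by decide), hfix 4 (by decide)]
      exact e_1_4
    · show T.picMatrix (τ 2) (τ 0) = 1
      rw [hfix 2 (by decide), hfix 0 (by decide)]
      exact e_2_0
    · show T.picMatrix (τ 2) (τ 1) = 0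
      rw [hfix 2 (by decide), hfix 1 (by decide)]
      exact e_2_1
    · show T.picMatrix (τ 2) (τ 3) = 0
      rw [hfix 2 (by decide), hfix 3 (by decide)]
      exact e_2_3
    · show T.picMatrix (τ 2) (τ 4) = 0
      rw [hfix 2 (by decide), hfix 4 (by decide)]
      exact e_2_4
    · show T.picMatrix (τ 3) (τ 0) = 1
      rw [hfix 3 (by decide), hfix 0 (by decide)]
      exact e_3_0
    · show T.picMatrix (τ 3) (τ 1) = 0
      rw [hfix 3 (by decide), hfix 1 (by decide)]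
      exact e_3_1
    · show T.picMatrix (τ 3) (τ 2) = 0
      rw [hfix 3 (by decide), hfix 2 (by decide)]
      exact e_3_2
    · show T.picMatrix (τ 3) (τ 4) = 0
      rw [hfix 3 (by decide), hfix 4 (by decide)]
      exact e_3_4
    · show T.picMatrix (τ 4) (τ 0) = 0
      rw [hfix 4 (by decide), hfix 0 (by decide)]
      exact e_4_0
    · show T.picMatrix (τ 4) (τ 1) = 1
      rw [hfix 4 (by decide), hfix 1 (by decide)]
      exact e_4_1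
    · show T.picMatrix (τ 4) (τ 2) = 0
      rw [hfix 4 (by decide), hfix 2 (by decide)]
      exact e_4_2
    · show T.picMatrix (τ 4) (τ 3) = 0
      rw [hfix 4 (by decide), hfix 3 (by decide)]
      exact e_4_3

theorem ex_165 (T : Models.NumericalType 6)
    (hG : NTGood T)
    (hmax : ∀ j, T.m j ≤ T.m 0)
    (e_0_1 : T.picMatrix 0 1 = 1)
    (e_0_2 : T.picMatrix 0 2 = 1)
    (e_0_3 : T.picMatrix 0 3 = 1)
    (e_1_0 : T.picMatrix 1 0 = 1)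
    (e_1_2 : T.picMatrix 1 2 = 0)
    (e_1_3 : T.picMatrix 1 3 = 0)
    (e_2_0 : T.picMatrix 2 0 = 1)
    (e_2_1 : T.picMatrix 2 1 = 0)
    (e_2_3 : T.picMatrix 2 3 = 0)
    (e_3_0 : T.picMatrix 3 0 = 1)
    (e_3_1 : T.picMatrix 3 1 = 0)
    (e_3_2 : T.picMatrix 3 2 = 0)
    (cl : ∀ a b : Fin 6, a.val < 1 → 5 ≤ b.val → T.picMatrix a b = 0)
    (z : ∀ a : Fin 6, a.val < 1 → T.picMatrix a 4 = 0)
    (hne : T.picMatrix 1 4 ≠ 0) :
    Goal T := by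
  have e_0_4 : T.picMatrix 0 4 = 0 := z 0 (by decide)
  have e_4_0 : T.picMatrix 4 0 = 0 := nt_pic_zero_symm T 0 4 e_0_4
  obtain ⟨hg0, hdA, hdP, hnn, hrow, hsym, hpair⟩ := ntgood_data T (by norm_num) hG
  have hm_0 := T.m_pos 0
  have hw_0 := T.w_pos 0
  have hm_1 := T.m_pos 1
  have hw_1 := T.w_pos 1
  have hm_2 := T.m_pos 2
  have hw_2 := T.w_pos 2
  have hm_3 := T.m_pos 3
  have hw_3 := T.w_pos 3
  have hm_4 := T.m_pos 4
  have hw_4 := T.w_pos 4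
  have hx_1 := hmax 1
  have hx_2 := hmax 2
  have hx_3 := hmax 3
  have hx_4 := hmax 4
  have Z_0_5 := cl 0 5 (by decide) (by decide)
  have N_1_5 := mul_nonneg (hnn 1 5 (by decide)) (T.m_pos 5).le
  have N_2_5 := mul_nonneg (hnn 2 5 (by decide)) (T.m_pos 5).le
  have N_3_5 := mul_nonneg (hnn 3 5 (by decide)) (T.m_pos 5).le
  have N_4_5 := mul_nonneg (hnn 4 5 (by decide)) (T.m_pos 5).le
  have N_1_4 := mul_nonneg (hnn 1 4 (by decide)) (T.m_pos 4).le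
  have N_4_1 := mul_nonneg (hnn 4 1 (by decide)) (T.m_pos 1).le
  have N_2_4 := mul_nonneg (hnn 2 4 (by decide)) (T.m_pos 4).le
  have N_4_2 := mul_nonneg (hnn 4 2 (by decide)) (T.m_pos 2).le
  have N_3_4 := mul_nonneg (hnn 3 4 (by decide)) (T.m_pos 4).le
  have N_4_3 := mul_nonneg (hnn 4 3 (by decide)) (T.m_pos 3).le
  have R_0 := hrow 0
  rw [Fin.sum_univ_six, hdP 0, e_0_1, e_0_2, e_0_3, e_0_4, Z_0_5] at R_0
  have R_1 := hrow 1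
  rw [Fin.sum_univ_six, hdP 1, e_1_0, e_1_2, e_1_3] at R_1
  have R_2 := hrow 2
  rw [Fin.sum_univ_six, hdP 2, e_2_0, e_2_1, e_2_3] at R_2
  have R_3 := hrow 3
  rw [Fin.sum_univ_six, hdP 3, e_3_0, e_3_1, e_3_2] at R_3
  have R_4 := hrow 4
  rw [Fin.sum_univ_six, hdP 4, e_4_0] at R_4
  have S_0_1 := hsym 0 1
  rw [e_0_1, e_1_0] at S_0_1
  have S_0_2 := hsym 0 2
  rw [e_0_2, e_2_0] at S_0_2
  have S_0_3 := hsym 0 3
  rw [e_0_3, e_3_0] at S_0_3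
  have S_0_4 := hsym 0 4
  rw [e_0_4, e_4_0] at S_0_4
  have S_1_2 := hsym 1 2
  rw [e_1_2, e_2_1] at S_1_2
  have S_1_3 := hsym 1 3
  rw [e_1_3, e_3_1] at S_1_3
  have S_1_4 := hsym 1 4
  have S_2_3 := hsym 2 3
  rw [e_2_3, e_3_2] at S_2_3
  have S_2_4 := hsym 2 4
  have S_3_4 := hsym 3 4
  have Q_1 := hpair 1 4 (by decide)
  have Q_2 := hpair 2 4 (by decide)
  have Q_3 := hpair 3 4 (by decide)
  generalize e_1_4 : T.picMatrix 1 4 = x_1 at *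
  generalize e_4_1 : T.picMatrix 4 1 = y_1 at *
  generalize e_2_4 : T.picMatrix 2 4 = x_2 at *
  generalize e_4_2 : T.picMatrix 4 2 = y_2 at *
  generalize e_3_4 : T.picMatrix 3 4 = x_3 at *
  generalize e_4_3 : T.picMatrix 4 3 = y_3 at *
  rcases Q_1 with ⟨rfl, rfl⟩ | ⟨rfl, rfl⟩ | ⟨rfl, rfl⟩ | ⟨rfl, rfl⟩ | ⟨rfl, rfl⟩ | ⟨rfl, rfl⟩ | ⟨rfl, rfl⟩ | ⟨rfl, rfl⟩ | ⟨rfl, rfl⟩
  · exact absurd rfl hne
  · -- (1,4) = (1,1)
    rcases Q_2 with ⟨rfl, rfl⟩ | ⟨rfl, rfl⟩ | ⟨rfl, rfl⟩ | ⟨rfl, rfl⟩ | ⟨rfl, rfl⟩ | ⟨rfl, rfl⟩ | ⟨rfl, rfl⟩ | ⟨rfl, rfl⟩ | ⟨rfl, rfl⟩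
    · -- (2,4) = (0,0)
      rcases Q_3 with ⟨rfl, rfl⟩ | ⟨rfl, rfl⟩ | ⟨rfl, rfl⟩ | ⟨rfl, rfl⟩ | ⟨rfl, rfl⟩ | ⟨rfl, rfl⟩ | ⟨rfl, rfl⟩ | ⟨rfl, rfl⟩ | ⟨rfl, rfl⟩
      · -- (3,4) = (0,0)
        exact nd_166 T hG hmax e_0_1 e_0_2 e_0_3 e_0_4 e_1_0 e_1_2 e_1_3 e_1_4 e_2_0 e_2_1 e_2_3 e_2_4 e_3_0 e_3_1 e_3_2 e_3_4 e_4_0 e_4_1 e_4_2 e_4_3 cl
      · -- (3,4) = (1,1)
        omega
      · -- (3,4) = (1,2)
        omega
      · -- (3,4) = (2,1)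
        omega
      · -- (3,4) = (1,3)
        omega
      · -- (3,4) = (3,1)
        omega
      · -- (3,4) = (1,4)
        omega
      · -- (3,4) = (4,1)
        omega
      · -- (3,4) = (2,2)
        omega
    · omega
    · omega
    · omega
    · omega
    · omega
    · omega
    · omega
    · omega
  · -- (1,4) = (1,2)
    rcases Q_2 with ⟨rfl, rfl⟩ | ⟨rfl, rfl⟩ | ⟨rfl, rfl⟩ | ⟨rfl, rfl⟩ | ⟨rfl, rfl⟩ | ⟨rfl, rfl⟩ | ⟨rfl, rfl⟩ | ⟨rfl, rfl⟩ | ⟨rfl, rfl⟩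
    · -- (2,4) = (0,0)
      rcases Q_3 with ⟨rfl, rfl⟩ | ⟨rfl, rfl⟩ | ⟨rfl, rfl⟩ | ⟨rfl, rfl⟩ | ⟨rfl, rfl⟩ | ⟨rfl, rfl⟩ | ⟨rfl, rfl⟩ | ⟨rfl, rfl⟩ | ⟨rfl, rfl⟩
      · -- (3,4) = (0,0)
        exact nd_178 T hG hmax e_0_1 e_0_2 e_0_3 e_0_4 e_1_0 e_1_2 e_1_3 e_1_4 e_2_0 e_2_1 e_2_3 e_2_4 e_3_0 e_3_1 e_3_2 e_3_4 e_4_0 e_4_1 e_4_2 e_4_3 cl
      · -- (3,4) = (1,1)
        omega
      · -- (3,4) = (1,2)
        omega
      · -- (3,4) = (2,1)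
        omega
      · -- (3,4) = (1,3)
        omega
      · -- (3,4) = (3,1)
        omega
      · -- (3,4) = (1,4)
        omega
      · -- (3,4) = (4,1)
        omega
      · -- (3,4) = (2,2)
        omega
    · omega
    · omega
    · omega
    · omega
    · omega
    · omega
    · omega
    · omega
  · -- (1,4) = (2,1)
    rcases Q_2 with ⟨rfl, rfl⟩ | ⟨rfl, rfl⟩ | ⟨rfl, rfl⟩ | ⟨rfl, rfl⟩ | ⟨rfl, rfl⟩ | ⟨rfl, rfl⟩ | ⟨rfl, rfl⟩ | ⟨rfl, rfl⟩ | ⟨rfl, rfl⟩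
    · -- (2,4) = (0,0)
      rcases Q_3 with ⟨rfl, rfl⟩ | ⟨rfl, rfl⟩ | ⟨rfl, rfl⟩ | ⟨rfl, rfl⟩ | ⟨rfl, rfl⟩ | ⟨rfl, rfl⟩ | ⟨rfl, rfl⟩ | ⟨rfl, rfl⟩ | ⟨rfl, rfl⟩
      · -- (3,4) = (0,0)
        exact nd_187 T hG hmax e_0_1 e_0_2 e_0_3 e_0_4 e_1_0 e_1_2 e_1_3 e_1_4 e_2_0 e_2_1 e_2_3 e_2_4 e_3_0 e_3_1 e_3_2 e_3_4 e_4_0 e_4_1 e_4_2 e_4_3 cl
      · -- (3,4) = (1,1)
        omega
      · -- (3,4) = (1,2)
        omega
      · -- (3,4) = (2,1)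
        omega
      · -- (3,4) = (1,3)
        omega
      · -- (3,4) = (3,1)
        omega
      · -- (3,4) = (1,4)
        omega
      · -- (3,4) = (4,1)
        omega
      · -- (3,4) = (2,2)
        omega
    · omega
    · omega
    · omega
    · omega
    · omega
    · omega
    · omega
    · omega
  · omega
  · omega
  · omega
  · omega
  · omega

theorem nd_117 (T : Models.NumericalType 6)
    (hG : NTGood T)
    (hmax : ∀ j, T.m j ≤ T.m 0)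
    (e_0_1 : T.picMatrix 0 1 = 1)
    (e_0_2 : T.picMatrix 0 2 = 1)
    (e_0_3 : T.picMatrix 0 3 = 1)
    (e_1_0 : T.picMatrix 1 0 = 1)
    (e_1_2 : T.picMatrix 1 2 = 0)
    (e_1_3 : T.picMatrix 1 3 = 0)
    (e_2_0 : T.picMatrix 2 0 = 1)
    (e_2_1 : T.picMatrix 2 1 = 0)
    (e_2_3 : T.picMatrix 2 3 = 0)
    (e_3_0 : T.picMatrix 3 0 = 1)
    (e_3_1 : T.picMatrix 3 1 = 0)
    (e_3_2 : T.picMatrix 3 2 = 0)
    (cl : ∀ a b : Fin 6, a.val < 1 → 4 ≤ b.val → T.picMatrix a b = 0) :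
    Goal T := by
  by_cases hc : ∀ b : Fin 6, 4 ≤ b.val → T.picMatrix 1 b = 0
  · exact nd_118 T hG hmax e_0_1 e_0_2 e_0_3 e_1_0 e_1_2 e_1_3 e_2_0 e_2_1 e_2_3 e_3_0 e_3_1 e_3_2 (nt_cl_succ T 4 1 1 rfl cl hc)
  · obtain ⟨τ, hfix, cl', z, hne⟩ := nt_wlog_step T 4 (by norm_num) 1 (by norm_num) 1 (by decide) cl hc
    apply goal_relabel T τ
    refine ex_165 (ntRelabel T τ) (hG.relabel τ) ?_ ?_ ?_ ?_ ?_ ?_ ?_ ?_ ?_ ?_ ?_ ?_ ?_ cl' z hne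
    · intro j
      show T.m (τ j) ≤ T.m (τ 0)
      rw [hfix 0 (by decide)]
      exact hmax _
    · show T.picMatrix (τ 0) (τ 1) = 1
      rw [hfix 0 (by decide), hfix 1 (by decide)]
      exact e_0_1
    · show T.picMatrix (τ 0) (τ 2) = 1
      rw [hfix 0 (by decide), hfix 2 (by decide)]
      exact e_0_2
    · show T.picMatrix (τ 0) (τ 3) = 1
      rw [hfix 0 (by decide), hfix 3 (by decide)]
      exact e_0_3
    · show T.picMatrix (τ 1) (τ 0) = 1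
      rw [hfix 1 (by decide), hfix 0 (by decide)]
      exact e_1_0
    · show T.picMatrix (τ 1) (τ 2) = 0
      rw [hfix 1 (by decide), hfix 2 (by decide)]
      exact e_1_2
    · show T.picMatrix (τ 1) (τ 3) = 0
      rw [hfix 1 (by decide), hfix 3 (by decide)]
      exact e_1_3
    · show T.picMatrix (τ 2) (τ 0) = 1
      rw [hfix 2 (by decide), hfix 0 (by decide)]
      exact e_2_0
    · show T.picMatrix (τ 2) (τ 1) = 0
      rw [hfix 2 (by decide), hfix 1 (by decide)]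
      exact e_2_1
    · show T.picMatrix (τ 2) (τ 3) = 0
      rw [hfix 2 (by decide), hfix 3 (by decide)]
      exact e_2_3
    · show T.picMatrix (τ 3) (τ 0) = 1
      rw [hfix 3 (by decide), hfix 0 (by decide)]
      exact e_3_0
    · show T.picMatrix (τ 3) (τ 1) = 0
      rw [hfix 3 (by decide), hfix 1 (by decide)]
      exact e_3_1
    · show T.picMatrix (τ 3) (τ 2) = 0
      rw [hfix 3 (by decide), hfix 2 (by decide)]
      exact e_3_2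

theorem nd_202 (T : Models.NumericalType 6)
    (hG : NTGood T)
    (hmax : ∀ j, T.m j ≤ T.m 0)
    (e_0_1 : T.picMatrix 0 1 = 1)
    (e_0_2 : T.picMatrix 0 2 = 1)
    (e_0_3 : T.picMatrix 0 3 = 1)
    (e_0_4 : T.picMatrix 0 4 = 1)
    (e_1_0 : T.picMatrix 1 0 = 1)
    (e_1_2 : T.picMatrix 1 2 = 0)
    (e_1_3 : T.picMatrix 1 3 = 0)
    (e_1_4 : T.picMatrix 1 4 = 0)
    (e_2_0 : T.picMatrix 2 0 = 1)
    (e_2_1 : T.picMatrix 2 1 = 0)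
    (e_2_3 : T.picMatrix 2 3 = 0)
    (e_2_4 : T.picMatrix 2 4 = 0)
    (e_3_0 : T.picMatrix 3 0 = 1)
    (e_3_1 : T.picMatrix 3 1 = 0)
    (e_3_2 : T.picMatrix 3 2 = 0)
    (e_3_4 : T.picMatrix 3 4 = 0)
    (e_4_0 : T.picMatrix 4 0 = 1)
    (e_4_1 : T.picMatrix 4 1 = 0)
    (e_4_2 : T.picMatrix 4 2 = 0)
    (e_4_3 : T.picMatrix 4 3 = 0)
    (cl : ∀ a b : Fin 6, a.val < 5 → 5 ≤ b.val → T.picMatrix a b = 0) :
    Goal T := by
  exact (nt_closed_false T 5 (by norm_num) (by norm_num) cl).elim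

theorem ex_203 (T : Models.NumericalType 6)
    (hG : NTGood T)
    (hmax : ∀ j, T.m j ≤ T.m 0)
    (e_0_1 : T.picMatrix 0 1 = 1)
    (e_0_2 : T.picMatrix 0 2 = 1)
    (e_0_3 : T.picMatrix 0 3 = 1)
    (e_0_4 : T.picMatrix 0 4 = 1)
    (e_1_0 : T.picMatrix 1 0 = 1)
    (e_1_2 : T.picMatrix 1 2 = 0)
    (e_1_3 : T.picMatrix 1 3 = 0)
    (e_1_4 : T.picMatrix 1 4 = 0)
    (e_2_0 : T.picMatrix 2 0 = 1)
    (e_2_1 : T.picMatrix 2 1 = 0)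
    (e_2_3 : T.picMatrix 2 3 = 0)
    (e_2_4 : T.picMatrix 2 4 = 0)
    (e_3_0 : T.picMatrix 3 0 = 1)
    (e_3_1 : T.picMatrix 3 1 = 0)
    (e_3_2 : T.picMatrix 3 2 = 0)
    (e_3_4 : T.picMatrix 3 4 = 0)
    (e_4_0 : T.picMatrix 4 0 = 1)
    (e_4_1 : T.picMatrix 4 1 = 0)
    (e_4_2 : T.picMatrix 4 2 = 0)
    (e_4_3 : T.picMatrix 4 3 = 0)
    (cl : ∀ a b : Fin 6, a.val < 4 → 6 ≤ b.val → T.picMatrix a b = 0)
    (z : ∀ a : Fin 6, a.val < 4 → T.picMatrix a 5 = 0)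
    (hne : T.picMatrix 4 5 ≠ 0) :
    Goal T := by
  have e_0_5 : T.picMatrix 0 5 = 0 := z 0 (by decide)
  have e_5_0 : T.picMatrix 5 0 = 0 := nt_pic_zero_symm T 0 5 e_0_5
  have e_1_5 : T.picMatrix 1 5 = 0 := z 1 (by decide)
  have e_5_1 : T.picMatrix 5 1 = 0 := nt_pic_zero_symm T 1 5 e_1_5
  have e_2_5 : T.picMatrix 2 5 = 0 := z 2 (by decide)
  have e_5_2 : T.picMatrix 5 2 = 0 := nt_pic_zero_symm T 2 5 e_2_5
  have e_3_5 : T.picMatrix 3 5 = 0 := z 3 (by decide)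
  have e_5_3 : T.picMatrix 5 3 = 0 := nt_pic_zero_symm T 3 5 e_3_5
  obtain ⟨hg0, hdA, hdP, hnn, hrow, hsym, hpair⟩ := ntgood_data T (by norm_num) hG
  have hm_0 := T.m_pos 0
  have hw_0 := T.w_pos 0
  have hm_1 := T.m_pos 1
  have hw_1 := T.w_pos 1
  have hm_2 := T.m_pos 2
  have hw_2 := T.w_pos 2
  have hm_3 := T.m_pos 3
  have hw_3 := T.w_pos 3
  have hm_4 := T.m_pos 4
  have hw_4 := T.w_pos 4
  have hm_5 := T.m_pos 5
  have hw_5 := T.w_pos 5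
  have hx_1 := hmax 1
  have hx_2 := hmax 2
  have hx_3 := hmax 3
  have hx_4 := hmax 4
  have hx_5 := hmax 5
  have N_4_5 := mul_nonneg (hnn 4 5 (by decide)) (T.m_pos 5).le
  have N_5_4 := mul_nonneg (hnn 5 4 (by decide)) (T.m_pos 4).le
  have R_0 := hrow 0
  rw [Fin.sum_univ_six, hdP 0, e_0_1, e_0_2, e_0_3, e_0_4, e_0_5] at R_0
  have R_1 := hrow 1
  rw [Fin.sum_univ_six, hdP 1, e_1_0, e_1_2, e_1_3, e_1_4, e_1_5] at R_1
  have R_2 := hrow 2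
  rw [Fin.sum_univ_six, hdP 2, e_2_0, e_2_1, e_2_3, e_2_4, e_2_5] at R_2
  have R_3 := hrow 3
  rw [Fin.sum_univ_six, hdP 3, e_3_0, e_3_1, e_3_2, e_3_4, e_3_5] at R_3
  have R_4 := hrow 4
  rw [Fin.sum_univ_six, hdP 4, e_4_0, e_4_1, e_4_2, e_4_3] at R_4
  have R_5 := hrow 5
  rw [Fin.sum_univ_six, hdP 5, e_5_0, e_5_1, e_5_2, e_5_3] at R_5
  have S_0_1 := hsym 0 1
  rw [e_0_1, e_1_0] at S_0_1
  have S_0_2 := hsym 0 2
  rw [e_0_2, e_2_0] at S_0_2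
  have S_0_3 := hsym 0 3
  rw [e_0_3, e_3_0] at S_0_3
  have S_0_4 := hsym 0 4
  rw [e_0_4, e_4_0] at S_0_4
  have S_0_5 := hsym 0 5
  rw [e_0_5, e_5_0] at S_0_5
  have S_1_2 := hsym 1 2
  rw [e_1_2, e_2_1] at S_1_2
  have S_1_3 := hsym 1 3
  rw [e_1_3, e_3_1] at S_1_3
  have S_1_4 := hsym 1 4
  rw [e_1_4, e_4_1] at S_1_4
  have S_1_5 := hsym 1 5
  rw [e_1_5, e_5_1] at S_1_5
  have S_2_3 := hsym 2 3
  rw [e_2_3, e_3_2] at S_2_3
  have S_2_4 := hsym 2 4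
  rw [e_2_4, e_4_2] at S_2_4
  have S_2_5 := hsym 2 5
  rw [e_2_5, e_5_2] at S_2_5
  have S_3_4 := hsym 3 4
  rw [e_3_4, e_4_3] at S_3_4
  have S_3_5 := hsym 3 5
  rw [e_3_5, e_5_3] at S_3_5
  have S_4_5 := hsym 4 5
  have Q_4 := hpair 4 5 (by decide)
  generalize e_4_5 : T.picMatrix 4 5 = x_4 at *
  generalize e_5_4 : T.picMatrix 5 4 = y_4 at *
  rcases Q_4 with ⟨rfl, rfl⟩ | ⟨rfl, rfl⟩ | ⟨rfl, rfl⟩ | ⟨rfl, rfl⟩ | ⟨rfl, rfl⟩ | ⟨rfl, rfl⟩ | ⟨rfl, rfl⟩ | ⟨rfl, rfl⟩ | ⟨rfl, rfl⟩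
  · exact absurd rfl hne
  · -- (4,5) = (1,1)
    omega
  · -- (4,5) = (1,2)
    omega
  · -- (4,5) = (2,1)
    omega
  · -- (4,5) = (1,3)
    omega
  · -- (4,5) = (3,1)
    omega
  · -- (4,5) = (1,4)
    omega
  · -- (4,5) = (4,1)
    omega
  · -- (4,5) = (2,2)
    omega

theorem nd_201 (T : Models.NumericalType 6)
    (hG : NTGood T)
    (hmax : ∀ j, T.m j ≤ T.m 0)
    (e_0_1 : T.picMatrix 0 1 = 1)
    (e_0_2 : T.picMatrix 0 2 = 1)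
    (e_0_3 : T.picMatrix 0 3 = 1)
    (e_0_4 : T.picMatrix 0 4 = 1)
    (e_1_0 : T.picMatrix 1 0 = 1)
    (e_1_2 : T.picMatrix 1 2 = 0)
    (e_1_3 : T.picMatrix 1 3 = 0)
    (e_1_4 : T.picMatrix 1 4 = 0)
    (e_2_0 : T.picMatrix 2 0 = 1)
    (e_2_1 : T.picMatrix 2 1 = 0)
    (e_2_3 : T.picMatrix 2 3 = 0)
    (e_2_4 : T.picMatrix 2 4 = 0)
    (e_3_0 : T.picMatrix 3 0 = 1)
    (e_3_1 : T.picMatrix 3 1 = 0)
    (e_3_2 : T.picMatrix 3 2 = 0)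
    (e_3_4 : T.picMatrix 3 4 = 0)
    (e_4_0 : T.picMatrix 4 0 = 1)
    (e_4_1 : T.picMatrix 4 1 = 0)
    (e_4_2 : T.picMatrix 4 2 = 0)
    (e_4_3 : T.picMatrix 4 3 = 0)
    (cl : ∀ a b : Fin 6, a.val < 4 → 5 ≤ b.val → T.picMatrix a b = 0) :
    Goal T := by
  by_cases hc : ∀ b : Fin 6, 5 ≤ b.val → T.picMatrix 4 b = 0
  · exact nd_202 T hG hmax e_0_1 e_0_2 e_0_3 e_0_4 e_1_0 e_1_2 e_1_3 e_1_4 e_2_0 e_2_1 e_2_3 e_2_4 e_3_0 e_3_1 e_3_2 e_3_4 e_4_0 e_4_1 e_4_2 e_4_3 (nt_cl_succ T 5 4 4 rfl cl hc)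
  · obtain ⟨τ, hfix, cl', z, hne⟩ := nt_wlog_step T 5 (by norm_num) 4 (by norm_num) 4 (by decide) cl hc
    apply goal_relabel T τ
    refine ex_203 (ntRelabel T τ) (hG.relabel τ) ?_ ?_ ?_ ?_ ?_ ?_ ?_ ?_ ?_ ?_ ?_ ?_ ?_ ?_ ?_ ?_ ?_ ?_ ?_ ?_ ?_ cl' z hne
    · intro j
      show T.m (τ j) ≤ T.m (τ 0)
      rw [hfix 0 (by decide)]
      exact hmax _
    · show T.picMatrix (τ 0) (τ 1) = 1
      rw [hfix 0 (by decide), hfix 1 (by decide)]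
      exact e_0_1
    · show T.picMatrix (τ 0) (τ 2) = 1
      rw [hfix 0 (by decide), hfix 2 (by decide)]
      exact e_0_2
    · show T.picMatrix (τ 0) (τ 3) = 1
      rw [hfix 0 (by decide), hfix 3 (by decide)]
      exact e_0_3
    · show T.picMatrix (τ 0) (τ 4) = 1
      rw [hfix 0 (by decide), hfix 4 (by decide)]
      exact e_0_4
    · show T.picMatrix (τ 1) (τ 0) = 1
      rw [hfix 1 (by decide), hfix 0 (by decide)]
      exact e_1_0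
    · show T.picMatrix (τ 1) (τ 2) = 0
      rw [hfix 1 (by decide), hfix 2 (by decide)]
      exact e_1_2
    · show T.picMatrix (τ 1) (τ 3) = 0
      rw [hfix 1 (by decide), hfix 3 (by decide)]
      exact e_1_3
    · show T.picMatrix (τ 1) (τ 4) = 0
      rw [hfix 1 (by decide), hfix 4 (by decide)]
      exact e_1_4
    · show T.picMatrix (τ 2) (τ 0) = 1
      rw [hfix 2 (by decide), hfix 0 (by decide)]
      exact e_2_0
    · show T.picMatrix (τ 2) (τ 1) = 0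
      rw [hfix 2 (by decide), hfix 1 (by decide)]
      exact e_2_1
    · show T.picMatrix (τ 2) (τ 3) = 0
      rw [hfix 2 (by decide), hfix 3 (by decide)]
      exact e_2_3
    · show T.picMatrix (τ 2) (τ 4) = 0
      rw [hfix 2 (by decide), hfix 4 (by decide)]
      exact e_2_4
    · show T.picMatrix (τ 3) (τ 0) = 1
      rw [hfix 3 (by decide), hfix 0 (by decide)]
      exact e_3_0
    · show T.picMatrix (τ 3) (τ 1) = 0
      rw [hfix 3 (by decide), hfix 1 (by decide)]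
      exact e_3_1
    · show T.picMatrix (τ 3) (τ 2) = 0
      rw [hfix 3 (by decide), hfix 2 (by decide)]
      exact e_3_2
    · show T.picMatrix (τ 3) (τ 4) = 0
      rw [hfix 3 (by decide), hfix 4 (by decide)]
      exact e_3_4
    · show T.picMatrix (τ 4) (τ 0) = 1
      rw [hfix 4 (by decide), hfix 0 (by decide)]
      exact e_4_0
    · show T.picMatrix (τ 4) (τ 1) = 0
      rw [hfix 4 (by decide), hfix 1 (by decide)]
      exact e_4_1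
    · show T.picMatrix (τ 4) (τ 2) = 0
      rw [hfix 4 (by decide), hfix 2 (by decide)]
      exact e_4_2
    · show T.picMatrix (τ 4) (τ 3) = 0
      rw [hfix 4 (by decide), hfix 3 (by decide)]
      exact e_4_3

theorem ex_204 (T : Models.NumericalType 6)
    (hG : NTGood T)
    (hmax : ∀ j, T.m j ≤ T.m 0)
    (e_0_1 : T.picMatrix 0 1 = 1)
    (e_0_2 : T.picMatrix 0 2 = 1)
    (e_0_3 : T.picMatrix 0 3 = 1)
    (e_0_4 : T.picMatrix 0 4 = 1)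
    (e_1_0 : T.picMatrix 1 0 = 1)
    (e_1_2 : T.picMatrix 1 2 = 0)
    (e_1_3 : T.picMatrix 1 3 = 0)
    (e_1_4 : T.picMatrix 1 4 = 0)
    (e_2_0 : T.picMatrix 2 0 = 1)
    (e_2_1 : T.picMatrix 2 1 = 0)
    (e_2_3 : T.picMatrix 2 3 = 0)
    (e_2_4 : T.picMatrix 2 4 = 0)
    (e_3_0 : T.picMatrix 3 0 = 1)
    (e_3_1 : T.picMatrix 3 1 = 0)
    (e_3_2 : T.picMatrix 3 2 = 0)
    (e_3_4 : T.picMatrix 3 4 = 0)
    (e_4_0 : T.picMatrix 4 0 = 1)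
    (e_4_1 : T.picMatrix 4 1 = 0)
    (e_4_2 : T.picMatrix 4 2 = 0)
    (e_4_3 : T.picMatrix 4 3 = 0)
    (cl : ∀ a b : Fin 6, a.val < 3 → 6 ≤ b.val → T.picMatrix a b = 0)
    (z : ∀ a : Fin 6, a.val < 3 → T.picMatrix a 5 = 0)
    (hne : T.picMatrix 3 5 ≠ 0) :
    Goal T := by
  have e_0_5 : T.picMatrix 0 5 = 0 := z 0 (by decide)
  have e_5_0 : T.picMatrix 5 0 = 0 := nt_pic_zero_symm T 0 5 e_0_5
  have e_1_5 : T.picMatrix 1 5 = 0 := z 1 (by decide)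
  have e_5_1 : T.picMatrix 5 1 = 0 := nt_pic_zero_symm T 1 5 e_1_5
  have e_2_5 : T.picMatrix 2 5 = 0 := z 2 (by decide)
  have e_5_2 : T.picMatrix 5 2 = 0 := nt_pic_zero_symm T 2 5 e_2_5
  obtain ⟨hg0, hdA, hdP, hnn, hrow, hsym, hpair⟩ := ntgood_data T (by norm_num) hG
  have hm_0 := T.m_pos 0
  have hw_0 := T.w_pos 0
  have hm_1 := T.m_pos 1
  have hw_1 := T.w_pos 1
  have hm_2 := T.m_pos 2
  have hw_2 := T.w_pos 2
  have hm_3 := T.m_pos 3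
  have hw_3 := T.w_pos 3
  have hm_4 := T.m_pos 4
  have hw_4 := T.w_pos 4
  have hm_5 := T.m_pos 5
  have hw_5 := T.w_pos 5
  have hx_1 := hmax 1
  have hx_2 := hmax 2
  have hx_3 := hmax 3
  have hx_4 := hmax 4
  have hx_5 := hmax 5
  have N_3_5 := mul_nonneg (hnn 3 5 (by decide)) (T.m_pos 5).le
  have N_5_3 := mul_nonneg (hnn 5 3 (by decide)) (T.m_pos 3).le
  have N_4_5 := mul_nonneg (hnn 4 5 (by decide)) (T.m_pos 5).le
  have N_5_4 := mul_nonneg (hnn 5 4 (by decide)) (T.m_pos 4).le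
  have R_0 := hrow 0
  rw [Fin.sum_univ_six, hdP 0, e_0_1, e_0_2, e_0_3, e_0_4, e_0_5] at R_0
  have R_1 := hrow 1
  rw [Fin.sum_univ_six, hdP 1, e_1_0, e_1_2, e_1_3, e_1_4, e_1_5] at R_1
  have R_2 := hrow 2
  rw [Fin.sum_univ_six, hdP 2, e_2_0, e_2_1, e_2_3, e_2_4, e_2_5] at R_2
  have R_3 := hrow 3
  rw [Fin.sum_univ_six, hdP 3, e_3_0, e_3_1, e_3_2, e_3_4] at R_3
  have R_4 := hrow 4
  rw [Fin.sum_univ_six, hdP 4, e_4_0, e_4_1, e_4_2, e_4_3] at R_4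
  have R_5 := hrow 5
  rw [Fin.sum_univ_six, hdP 5, e_5_0, e_5_1, e_5_2] at R_5
  have S_0_1 := hsym 0 1
  rw [e_0_1, e_1_0] at S_0_1
  have S_0_2 := hsym 0 2
  rw [e_0_2, e_2_0] at S_0_2
  have S_0_3 := hsym 0 3
  rw [e_0_3, e_3_0] at S_0_3
  have S_0_4 := hsym 0 4
  rw [e_0_4, e_4_0] at S_0_4
  have S_0_5 := hsym 0 5
  rw [e_0_5, e_5_0] at S_0_5
  have S_1_2 := hsym 1 2
  rw [e_1_2, e_2_1] at S_1_2
  have S_1_3 := hsym 1 3
  rw [e_1_3, e_3_1] at S_1_3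
  have S_1_4 := hsym 1 4
  rw [e_1_4, e_4_1] at S_1_4
  have S_1_5 := hsym 1 5
  rw [e_1_5, e_5_1] at S_1_5
  have S_2_3 := hsym 2 3
  rw [e_2_3, e_3_2] at S_2_3
  have S_2_4 := hsym 2 4
  rw [e_2_4, e_4_2] at S_2_4
  have S_2_5 := hsym 2 5
  rw [e_2_5, e_5_2] at S_2_5
  have S_3_4 := hsym 3 4
  rw [e_3_4, e_4_3] at S_3_4
  have S_3_5 := hsym 3 5
  have S_4_5 := hsym 4 5
  have Q_3 := hpair 3 5 (by decide)
  have Q_4 := hpair 4 5 (by decide)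
  generalize e_3_5 : T.picMatrix 3 5 = x_3 at *
  generalize e_5_3 : T.picMatrix 5 3 = y_3 at *
  generalize e_4_5 : T.picMatrix 4 5 = x_4 at *
  generalize e_5_4 : T.picMatrix 5 4 = y_4 at *
  rcases Q_3 with ⟨rfl, rfl⟩ | ⟨rfl, rfl⟩ | ⟨rfl, rfl⟩ | ⟨rfl, rfl⟩ | ⟨rfl, rfl⟩ | ⟨rfl, rfl⟩ | ⟨rfl, rfl⟩ | ⟨rfl, rfl⟩ | ⟨rfl, rfl⟩
  · exact absurd rfl hne
  · omega
  · omega
  · omega
  · omega
  · omega
  · omega
  · omega
  · omega

theorem nd_200 (T : Models.NumericalType 6)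
    (hG : NTGood T)
    (hmax : ∀ j, T.m j ≤ T.m 0)
    (e_0_1 : T.picMatrix 0 1 = 1)
    (e_0_2 : T.picMatrix 0 2 = 1)
    (e_0_3 : T.picMatrix 0 3 = 1)
    (e_0_4 : T.picMatrix 0 4 = 1)
    (e_1_0 : T.picMatrix 1 0 = 1)
    (e_1_2 : T.picMatrix 1 2 = 0)
    (e_1_3 : T.picMatrix 1 3 = 0)
    (e_1_4 : T.picMatrix 1 4 = 0)
    (e_2_0 : T.picMatrix 2 0 = 1)
    (e_2_1 : T.picMatrix 2 1 = 0)
    (e_2_3 : T.picMatrix 2 3 = 0)
    (e_2_4 : T.picMatrix 2 4 = 0)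
    (e_3_0 : T.picMatrix 3 0 = 1)
    (e_3_1 : T.picMatrix 3 1 = 0)
    (e_3_2 : T.picMatrix 3 2 = 0)
    (e_3_4 : T.picMatrix 3 4 = 0)
    (e_4_0 : T.picMatrix 4 0 = 1)
    (e_4_1 : T.picMatrix 4 1 = 0)
    (e_4_2 : T.picMatrix 4 2 = 0)
    (e_4_3 : T.picMatrix 4 3 = 0)
    (cl : ∀ a b : Fin 6, a.val < 3 → 5 ≤ b.val → T.picMatrix a b = 0) :
    Goal T := by
  by_cases hc : ∀ b : Fin 6, 5 ≤ b.val → T.picMatrix 3 b = 0
  · exact nd_201 T hG hmax e_0_1 e_0_2 e_0_3 e_0_4 e_1_0 e_1_2 e_1_3 e_1_4 e_2_0 e_2_1 e_2_3 e_2_4 e_3_0 e_3_1 e_3_2 e_3_4 e_4_0 e_4_1 e_4_2 e_4_3 (nt_cl_succ T 5 3 3 rfl cl hc)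
  · obtain ⟨τ, hfix, cl', z, hne⟩ := nt_wlog_step T 5 (by norm_num) 3 (by norm_num) 3 (by decide) cl hc
    apply goal_relabel T τ
    refine ex_204 (ntRelabel T τ) (hG.relabel τ) ?_ ?_ ?_ ?_ ?_ ?_ ?_ ?_ ?_ ?_ ?_ ?_ ?_ ?_ ?_ ?_ ?_ ?_ ?_ ?_ ?_ cl' z hne
    · intro j
      show T.m (τ j) ≤ T.m (τ 0)
      rw [hfix 0 (by decide)]
      exact hmax _
    · show T.picMatrix (τ 0) (τ 1) = 1
      rw [hfix 0 (by decide), hfix 1 (by decide)]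
      exact e_0_1
    · show T.picMatrix (τ 0) (τ 2) = 1
      rw [hfix 0 (by decide), hfix 2 (by decide)]
      exact e_0_2
    · show T.picMatrix (τ 0) (τ 3) = 1
      rw [hfix 0 (by decide), hfix 3 (by decide)]
      exact e_0_3
    · show T.picMatrix (τ 0) (τ 4) = 1
      rw [hfix 0 (by decide), hfix 4 (by decide)]
      exact e_0_4
    · show T.picMatrix (τ 1) (τ 0) = 1
      rw [hfix 1 (by decide), hfix 0 (by decide)]
      exact e_1_0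
    · show T.picMatrix (τ 1) (τ 2) = 0
      rw [hfix 1 (by decide), hfix 2 (by decide)]
      exact e_1_2
    · show T.picMatrix (τ 1) (τ 3) = 0
      rw [hfix 1 (by decide), hfix 3 (by decide)]
      exact e_1_3
    · show T.picMatrix (τ 1) (τ 4) = 0
      rw [hfix 1 (by decide), hfix 4 (by decide)]
      exact e_1_4
    · show T.picMatrix (τ 2) (τ 0) = 1
      rw [hfix 2 (by decide), hfix 0 (by decide)]
      exact e_2_0
    · show T.picMatrix (τ 2) (τ 1) = 0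
      rw [hfix 2 (by decide), hfix 1 (by decide)]
      exact e_2_1
    · show T.picMatrix (τ 2) (τ 3) = 0
      rw [hfix 2 (by decide), hfix 3 (by decide)]
      exact e_2_3
    · show T.picMatrix (τ 2) (τ 4) = 0
      rw [hfix 2 (by decide), hfix 4 (by decide)]
      exact e_2_4
    · show T.picMatrix (τ 3) (τ 0) = 1
      rw [hfix 3 (by decide), hfix 0 (by decide)]
      exact e_3_0
    · show T.picMatrix (τ 3) (τ 1) = 0
      rw [hfix 3 (by decide), hfix 1 (by decide)]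
      exact e_3_1
    · show T.picMatrix (τ 3) (τ 2) = 0
      rw [hfix 3 (by decide), hfix 2 (by decide)]
      exact e_3_2
    · show T.picMatrix (τ 3) (τ 4) = 0
      rw [hfix 3 (by decide), hfix 4 (by decide)]
      exact e_3_4
    · show T.picMatrix (τ 4) (τ 0) = 1
      rw [hfix 4 (by decide), hfix 0 (by decide)]
      exact e_4_0
    · show T.picMatrix (τ 4) (τ 1) = 0
      rw [hfix 4 (by decide), hfix 1 (by decide)]
      exact e_4_1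
    · show T.picMatrix (τ 4) (τ 2) = 0
      rw [hfix 4 (by decide), hfix 2 (by decide)]
      exact e_4_2
    · show T.picMatrix (τ 4) (τ 3) = 0
      rw [hfix 4 (by decide), hfix 3 (by decide)]
      exact e_4_3

theorem ex_205 (T : Models.NumericalType 6)
    (hG : NTGood T)
    (hmax : ∀ j, T.m j ≤ T.m 0)
    (e_0_1 : T.picMatrix 0 1 = 1)
    (e_0_2 : T.picMatrix 0 2 = 1)
    (e_0_3 : T.picMatrix 0 3 = 1)
    (e_0_4 : T.picMatrix 0 4 = 1)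
    (e_1_0 : T.picMatrix 1 0 = 1)
    (e_1_2 : T.picMatrix 1 2 = 0)
    (e_1_3 : T.picMatrix 1 3 = 0)
    (e_1_4 : T.picMatrix 1 4 = 0)
    (e_2_0 : T.picMatrix 2 0 = 1)
    (e_2_1 : T.picMatrix 2 1 = 0)
    (e_2_3 : T.picMatrix 2 3 = 0)
    (e_2_4 : T.picMatrix 2 4 = 0)
    (e_3_0 : T.picMatrix 3 0 = 1)
    (e_3_1 : T.picMatrix 3 1 = 0)
    (e_3_2 : T.picMatrix 3 2 = 0)
    (e_3_4 : T.picMatrix 3 4 = 0)
    (e_4_0 : T.picMatrix 4 0 = 1)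
    (e_4_1 : T.picMatrix 4 1 = 0)
    (e_4_2 : T.picMatrix 4 2 = 0)
    (e_4_3 : T.picMatrix 4 3 = 0)
    (cl : ∀ a b : Fin 6, a.val < 2 → 6 ≤ b.val → T.picMatrix a b = 0)
    (z : ∀ a : Fin 6, a.val < 2 → T.picMatrix a 5 = 0)
    (hne : T.picMatrix 2 5 ≠ 0) :
    Goal T := by
  have e_0_5 : T.picMatrix 0 5 = 0 := z 0 (by decide)
  have e_5_0 : T.picMatrix 5 0 = 0 := nt_pic_zero_symm T 0 5 e_0_5
  have e_1_5 : T.picMatrix 1 5 = 0 := z 1 (by decide)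
  have e_5_1 : T.picMatrix 5 1 = 0 := nt_pic_zero_symm T 1 5 e_1_5
  obtain ⟨hg0, hdA, hdP, hnn, hrow, hsym, hpair⟩ := ntgood_data T (by norm_num) hG
  have hm_0 := T.m_pos 0
  have hw_0 := T.w_pos 0
  have hm_1 := T.m_pos 1
  have hw_1 := T.w_pos 1
  have hm_2 := T.m_pos 2
  have hw_2 := T.w_pos 2
  have hm_3 := T.m_pos 3
  have hw_3 := T.w_pos 3
  have hm_4 := T.m_pos 4
  have hw_4 := T.w_pos 4
  have hm_5 := T.m_pos 5
  have hw_5 := T.w_pos 5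
  have hx_1 := hmax 1
  have hx_2 := hmax 2
  have hx_3 := hmax 3
  have hx_4 := hmax 4
  have hx_5 := hmax 5
  have N_2_5 := mul_nonneg (hnn 2 5 (by decide)) (T.m_pos 5).le
  have N_5_2 := mul_nonneg (hnn 5 2 (by decide)) (T.m_pos 2).le
  have N_3_5 := mul_nonneg (hnn 3 5 (by decide)) (T.m_pos 5).le
  have N_5_3 := mul_nonneg (hnn 5 3 (by decide)) (T.m_pos 3).le
  have N_4_5 := mul_nonneg (hnn 4 5 (by decide)) (T.m_pos 5).le
  have N_5_4 := mul_nonneg (hnn 5 4 (by decide)) (T.m_pos 4).le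
  have R_0 := hrow 0
  rw [Fin.sum_univ_six, hdP 0, e_0_1, e_0_2, e_0_3, e_0_4, e_0_5] at R_0
  have R_1 := hrow 1
  rw [Fin.sum_univ_six, hdP 1, e_1_0, e_1_2, e_1_3, e_1_4, e_1_5] at R_1
  have R_2 := hrow 2
  rw [Fin.sum_univ_six, hdP 2, e_2_0, e_2_1, e_2_3, e_2_4] at R_2
  have R_3 := hrow 3
  rw [Fin.sum_univ_six, hdP 3, e_3_0, e_3_1, e_3_2, e_3_4] at R_3
  have R_4 := hrow 4
  rw [Fin.sum_univ_six, hdP 4, e_4_0, e_4_1, e_4_2, e_4_3] at R_4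
  have R_5 := hrow 5
  rw [Fin.sum_univ_six, hdP 5, e_5_0, e_5_1] at R_5
  have S_0_1 := hsym 0 1
  rw [e_0_1, e_1_0] at S_0_1
  have S_0_2 := hsym 0 2
  rw [e_0_2, e_2_0] at S_0_2
  have S_0_3 := hsym 0 3
  rw [e_0_3, e_3_0] at S_0_3
  have S_0_4 := hsym 0 4
  rw [e_0_4, e_4_0] at S_0_4
  have S_0_5 := hsym 0 5
  rw [e_0_5, e_5_0] at S_0_5
  have S_1_2 := hsym 1 2
  rw [e_1_2, e_2_1] at S_1_2
  have S_1_3 := hsym 1 3
  rw [e_1_3, e_3_1] at S_1_3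
  have S_1_4 := hsym 1 4
  rw [e_1_4, e_4_1] at S_1_4
  have S_1_5 := hsym 1 5
  rw [e_1_5, e_5_1] at S_1_5
  have S_2_3 := hsym 2 3
  rw [e_2_3, e_3_2] at S_2_3
  have S_2_4 := hsym 2 4
  rw [e_2_4, e_4_2] at S_2_4
  have S_2_5 := hsym 2 5
  have S_3_4 := hsym 3 4
  rw [e_3_4, e_4_3] at S_3_4
  have S_3_5 := hsym 3 5
  have S_4_5 := hsym 4 5
  have Q_2 := hpair 2 5 (by decide)
  have Q_3 := hpair 3 5 (by decide)
  have Q_4 := hpair 4 5 (by decide)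
  generalize e_2_5 : T.picMatrix 2 5 = x_2 at *
  generalize e_5_2 : T.picMatrix 5 2 = y_2 at *
  generalize e_3_5 : T.picMatrix 3 5 = x_3 at *
  generalize e_5_3 : T.picMatrix 5 3 = y_3 at *
  generalize e_4_5 : T.picMatrix 4 5 = x_4 at *
  generalize e_5_4 : T.picMatrix 5 4 = y_4 at *
  rcases Q_2 with ⟨rfl, rfl⟩ | ⟨rfl, rfl⟩ | ⟨rfl, rfl⟩ | ⟨rfl, rfl⟩ | ⟨rfl, rfl⟩ | ⟨rfl, rfl⟩ | ⟨rfl, rfl⟩ | ⟨rfl, rfl⟩ | ⟨rfl, rfl⟩
  · exact absurd rfl hne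
  · omega
  · omega
  · omega
  · omega
  · omega
  · omega
  · omega
  · omega

theorem nd_199 (T : Models.NumericalType 6)
    (hG : NTGood T)
    (hmax : ∀ j, T.m j ≤ T.m 0)
    (e_0_1 : T.picMatrix 0 1 = 1)
    (e_0_2 : T.picMatrix 0 2 = 1)
    (e_0_3 : T.picMatrix 0 3 = 1)
    (e_0_4 : T.picMatrix 0 4 = 1)
    (e_1_0 : T.picMatrix 1 0 = 1)
    (e_1_2 : T.picMatrix 1 2 = 0)
    (e_1_3 : T.picMatrix 1 3 = 0)
    (e_1_4 : T.picMatrix 1 4 = 0)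
    (e_2_0 : T.picMatrix 2 0 = 1)
    (e_2_1 : T.picMatrix 2 1 = 0)
    (e_2_3 : T.picMatrix 2 3 = 0)
    (e_2_4 : T.picMatrix 2 4 = 0)
    (e_3_0 : T.picMatrix 3 0 = 1)
    (e_3_1 : T.picMatrix 3 1 = 0)
    (e_3_2 : T.picMatrix 3 2 = 0)
    (e_3_4 : T.picMatrix 3 4 = 0)
    (e_4_0 : T.picMatrix 4 0 = 1)
    (e_4_1 : T.picMatrix 4 1 = 0)
    (e_4_2 : T.picMatrix 4 2 = 0)
    (e_4_3 : T.picMatrix 4 3 = 0)
    (cl : ∀ a b : Fin 6, a.val < 2 → 5 ≤ b.val → T.picMatrix a b = 0) :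
    Goal T := by
  by_cases hc : ∀ b : Fin 6, 5 ≤ b.val → T.picMatrix 2 b = 0
  · exact nd_200 T hG hmax e_0_1 e_0_2 e_0_3 e_0_4 e_1_0 e_1_2 e_1_3 e_1_4 e_2_0 e_2_1 e_2_3 e_2_4 e_3_0 e_3_1 e_3_2 e_3_4 e_4_0 e_4_1 e_4_2 e_4_3 (nt_cl_succ T 5 2 2 rfl cl hc)
  · obtain ⟨τ, hfix, cl', z, hne⟩ := nt_wlog_step T 5 (by norm_num) 2 (by norm_num) 2 (by decide) cl hc
    apply goal_relabel T τ
    refine ex_205 (ntRelabel T τ) (hG.relabel τ) ?_ ?_ ?_ ?_ ?_ ?_ ?_ ?_ ?_ ?_ ?_ ?_ ?_ ?_ ?_ ?_ ?_ ?_ ?_ ?_ ?_ cl' z hne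
    · intro j
      show T.m (τ j) ≤ T.m (τ 0)
      rw [hfix 0 (by decide)]
      exact hmax _
    · show T.picMatrix (τ 0) (τ 1) = 1
      rw [hfix 0 (by decide), hfix 1 (by decide)]
      exact e_0_1
    · show T.picMatrix (τ 0) (τ 2) = 1
      rw [hfix 0 (by decide), hfix 2 (by decide)]
      exact e_0_2
    · show T.picMatrix (τ 0) (τ 3) = 1
      rw [hfix 0 (by decide), hfix 3 (by decide)]
      exact e_0_3
    · show T.picMatrix (τ 0) (τ 4) = 1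
      rw [hfix 0 (by decide), hfix 4 (by decide)]
      exact e_0_4
    · show T.picMatrix (τ 1) (τ 0) = 1
      rw [hfix 1 (by decide), hfix 0 (by decide)]
      exact e_1_0
    · show T.picMatrix (τ 1) (τ 2) = 0
      rw [hfix 1 (by decide), hfix 2 (by decide)]
      exact e_1_2
    · show T.picMatrix (τ 1) (τ 3) = 0
      rw [hfix 1 (by decide), hfix 3 (by decide)]
      exact e_1_3
    · show T.picMatrix (τ 1) (τ 4) = 0
      rw [hfix 1 (by decide), hfix 4 (by decide)]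
      exact e_1_4
    · show T.picMatrix (τ 2) (τ 0) = 1
      rw [hfix 2 (by decide), hfix 0 (by decide)]
      exact e_2_0
    · show T.picMatrix (τ 2) (τ 1) = 0
      rw [hfix 2 (by decide), hfix 1 (by decide)]
      exact e_2_1
    · show T.picMatrix (τ 2) (τ 3) = 0
      rw [hfix 2 (by decide), hfix 3 (by decide)]
      exact e_2_3
    · show T.picMatrix (τ 2) (τ 4) = 0
      rw [hfix 2 (by decide), hfix 4 (by decide)]
      exact e_2_4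
    · show T.picMatrix (τ 3) (τ 0) = 1
      rw [hfix 3 (by decide), hfix 0 (by decide)]
      exact e_3_0
    · show T.picMatrix (τ 3) (τ 1) = 0
      rw [hfix 3 (by decide), hfix 1 (by decide)]
      exact e_3_1
    · show T.picMatrix (τ 3) (τ 2) = 0
      rw [hfix 3 (by decide), hfix 2 (by decide)]
      exact e_3_2
    · show T.picMatrix (τ 3) (τ 4) = 0
      rw [hfix 3 (by decide), hfix 4 (by decide)]
      exact e_3_4
    · show T.picMatrix (τ 4) (τ 0) = 1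
      rw [hfix 4 (by decide), hfix 0 (by decide)]
      exact e_4_0
    · show T.picMatrix (τ 4) (τ 1) = 0
      rw [hfix 4 (by decide), hfix 1 (by decide)]
      exact e_4_1
    · show T.picMatrix (τ 4) (τ 2) = 0
      rw [hfix 4 (by decide), hfix 2 (by decide)]
      exact e_4_2
    · show T.picMatrix (τ 4) (τ 3) = 0
      rw [hfix 4 (by decide), hfix 3 (by decide)]
      exact e_4_3

theorem ex_206 (T : Models.NumericalType 6)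
    (hG : NTGood T)
    (hmax : ∀ j, T.m j ≤ T.m 0)
    (e_0_1 : T.picMatrix 0 1 = 1)
    (e_0_2 : T.picMatrix 0 2 = 1)
    (e_0_3 : T.picMatrix 0 3 = 1)
    (e_0_4 : T.picMatrix 0 4 = 1)
    (e_1_0 : T.picMatrix 1 0 = 1)
    (e_1_2 : T.picMatrix 1 2 = 0)
    (e_1_3 : T.picMatrix 1 3 = 0)
    (e_1_4 : T.picMatrix 1 4 = 0)
    (e_2_0 : T.picMatrix 2 0 = 1)
    (e_2_1 : T.picMatrix 2 1 = 0)
    (e_2_3 : T.picMatrix 2 3 = 0)
    (e_2_4 : T.picMatrix 2 4 = 0)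
    (e_3_0 : T.picMatrix 3 0 = 1)
    (e_3_1 : T.picMatrix 3 1 = 0)
    (e_3_2 : T.picMatrix 3 2 = 0)
    (e_3_4 : T.picMatrix 3 4 = 0)
    (e_4_0 : T.picMatrix 4 0 = 1)
    (e_4_1 : T.picMatrix 4 1 = 0)
    (e_4_2 : T.picMatrix 4 2 = 0)
    (e_4_3 : T.picMatrix 4 3 = 0)
    (cl : ∀ a b : Fin 6, a.val < 1 → 6 ≤ b.val → T.picMatrix a b = 0)
    (z : ∀ a : Fin 6, a.val < 1 → T.picMatrix a 5 = 0)
    (hne : T.picMatrix 1 5 ≠ 0) :
    Goal T := by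
  have e_0_5 : T.picMatrix 0 5 = 0 := z 0 (by decide)
  have e_5_0 : T.picMatrix 5 0 = 0 := nt_pic_zero_symm T 0 5 e_0_5
  obtain ⟨hg0, hdA, hdP, hnn, hrow, hsym, hpair⟩ := ntgood_data T (by norm_num) hG
  have hm_0 := T.m_pos 0
  have hw_0 := T.w_pos 0
  have hm_1 := T.m_pos 1
  have hw_1 := T.w_pos 1
  have hm_2 := T.m_pos 2
  have hw_2 := T.w_pos 2
  have hm_3 := T.m_pos 3
  have hw_3 := T.w_pos 3
  have hm_4 := T.m_pos 4
  have hw_4 := T.w_pos 4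
  have hm_5 := T.m_pos 5
  have hw_5 := T.w_pos 5
  have hx_1 := hmax 1
  have hx_2 := hmax 2
  have hx_3 := hmax 3
  have hx_4 := hmax 4
  have hx_5 := hmax 5
  have N_1_5 := mul_nonneg (hnn 1 5 (by decide)) (T.m_pos 5).le
  have N_5_1 := mul_nonneg (hnn 5 1 (by decide)) (T.m_pos 1).le
  have N_2_5 := mul_nonneg (hnn 2 5 (by decide)) (T.m_pos 5).le
  have N_5_2 := mul_nonneg (hnn 5 2 (by decide)) (T.m_pos 2).le
  have N_3_5 := mul_nonneg (hnn 3 5 (by decide)) (T.m_pos 5).le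
  have N_5_3 := mul_nonneg (hnn 5 3 (by decide)) (T.m_pos 3).le
  have N_4_5 := mul_nonneg (hnn 4 5 (by decide)) (T.m_pos 5).le
  have N_5_4 := mul_nonneg (hnn 5 4 (by decide)) (T.m_pos 4).le
  have R_0 := hrow 0
  rw [Fin.sum_univ_six, hdP 0, e_0_1, e_0_2, e_0_3, e_0_4, e_0_5] at R_0
  have R_1 := hrow 1
  rw [Fin.sum_univ_six, hdP 1, e_1_0, e_1_2, e_1_3, e_1_4] at R_1
  have R_2 := hrow 2
  rw [Fin.sum_univ_six, hdP 2, e_2_0, e_2_1, e_2_3, e_2_4] at R_2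
  have R_3 := hrow 3
  rw [Fin.sum_univ_six, hdP 3, e_3_0, e_3_1, e_3_2, e_3_4] at R_3
  have R_4 := hrow 4
  rw [Fin.sum_univ_six, hdP 4, e_4_0, e_4_1, e_4_2, e_4_3] at R_4
  have R_5 := hrow 5
  rw [Fin.sum_univ_six, hdP 5, e_5_0] at R_5
  have S_0_1 := hsym 0 1
  rw [e_0_1, e_1_0] at S_0_1
  have S_0_2 := hsym 0 2
  rw [e_0_2, e_2_0] at S_0_2
  have S_0_3 := hsym 0 3
  rw [e_0_3, e_3_0] at S_0_3
  have S_0_4 := hsym 0 4
  rw [e_0_4, e_4_0] at S_0_4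
  have S_0_5 := hsym 0 5
  rw [e_0_5, e_5_0] at S_0_5
  have S_1_2 := hsym 1 2
  rw [e_1_2, e_2_1] at S_1_2
  have S_1_3 := hsym 1 3
  rw [e_1_3, e_3_1] at S_1_3
  have S_1_4 := hsym 1 4
  rw [e_1_4, e_4_1] at S_1_4
  have S_1_5 := hsym 1 5
  have S_2_3 := hsym 2 3
  rw [e_2_3, e_3_2] at S_2_3
  have S_2_4 := hsym 2 4
  rw [e_2_4, e_4_2] at S_2_4
  have S_2_5 := hsym 2 5
  have S_3_4 := hsym 3 4
  rw [e_3_4, e_4_3] at S_3_4
  have S_3_5 := hsym 3 5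
  have S_4_5 := hsym 4 5
  have Q_1 := hpair 1 5 (by decide)
  have Q_2 := hpair 2 5 (by decide)
  have Q_3 := hpair 3 5 (by decide)
  have Q_4 := hpair 4 5 (by decide)
  generalize e_1_5 : T.picMatrix 1 5 = x_1 at *
  generalize e_5_1 : T.picMatrix 5 1 = y_1 at *
  generalize e_2_5 : T.picMatrix 2 5 = x_2 at *
  generalize e_5_2 : T.picMatrix 5 2 = y_2 at *
  generalize e_3_5 : T.picMatrix 3 5 = x_3 at *
  generalize e_5_3 : T.picMatrix 5 3 = y_3 at *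
  generalize e_4_5 : T.picMatrix 4 5 = x_4 at *
  generalize e_5_4 : T.picMatrix 5 4 = y_4 at *
  rcases Q_1 with ⟨rfl, rfl⟩ | ⟨rfl, rfl⟩ | ⟨rfl, rfl⟩ | ⟨rfl, rfl⟩ | ⟨rfl, rfl⟩ | ⟨rfl, rfl⟩ | ⟨rfl, rfl⟩ | ⟨rfl, rfl⟩ | ⟨rfl, rfl⟩
  · exact absurd rfl hne
  · omega
  · omega
  · omega
  · omega
  · omega
  · omega
  · omega
  · omega

theorem nd_198 (T : Models.NumericalType 6)
    (hG : NTGood T)
    (hmax : ∀ j, T.m j ≤ T.m 0)
    (e_0_1 : T.picMatrix 0 1 = 1)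
    (e_0_2 : T.picMatrix 0 2 = 1)
    (e_0_3 : T.picMatrix 0 3 = 1)
    (e_0_4 : T.picMatrix 0 4 = 1)
    (e_1_0 : T.picMatrix 1 0 = 1)
    (e_1_2 : T.picMatrix 1 2 = 0)
    (e_1_3 : T.picMatrix 1 3 = 0)
    (e_1_4 : T.picMatrix 1 4 = 0)
    (e_2_0 : T.picMatrix 2 0 = 1)
    (e_2_1 : T.picMatrix 2 1 = 0)
    (e_2_3 : T.picMatrix 2 3 = 0)
    (e_2_4 : T.picMatrix 2 4 = 0)
    (e_3_0 : T.picMatrix 3 0 = 1)
    (e_3_1 : T.picMatrix 3 1 = 0)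
    (e_3_2 : T.picMatrix 3 2 = 0)
    (e_3_4 : T.picMatrix 3 4 = 0)
    (e_4_0 : T.picMatrix 4 0 = 1)
    (e_4_1 : T.picMatrix 4 1 = 0)
    (e_4_2 : T.picMatrix 4 2 = 0)
    (e_4_3 : T.picMatrix 4 3 = 0)
    (cl : ∀ a b : Fin 6, a.val < 1 → 5 ≤ b.val → T.picMatrix a b = 0) :
    Goal T := by
  by_cases hc : ∀ b : Fin 6, 5 ≤ b.val → T.picMatrix 1 b = 0
  · exact nd_199 T hG hmax e_0_1 e_0_2 e_0_3 e_0_4 e_1_0 e_1_2 e_1_3 e_1_4 e_2_0 e_2_1 e_2_3 e_2_4 e_3_0 e_3_1 e_3_2 e_3_4 e_4_0 e_4_1 e_4_2 e_4_3 (nt_cl_succ T 5 1 1 rfl cl hc)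
  · obtain ⟨τ, hfix, cl', z, hne⟩ := nt_wlog_step T 5 (by norm_num) 1 (by norm_num) 1 (by decide) cl hc
    apply goal_relabel T τ
    refine ex_206 (ntRelabel T τ) (hG.relabel τ) ?_ ?_ ?_ ?_ ?_ ?_ ?_ ?_ ?_ ?_ ?_ ?_ ?_ ?_ ?_ ?_ ?_ ?_ ?_ ?_ ?_ cl' z hne
    · intro j
      show T.m (τ j) ≤ T.m (τ 0)
      rw [hfix 0 (by decide)]
      exact hmax _
    · show T.picMatrix (τ 0) (τ 1) = 1
      rw [hfix 0 (by decide), hfix 1 (by decide)]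
      exact e_0_1
    · show T.picMatrix (τ 0) (τ 2) = 1
      rw [hfix 0 (by decide), hfix 2 (by decide)]
      exact e_0_2
    · show T.picMatrix (τ 0) (τ 3) = 1
      rw [hfix 0 (by decide), hfix 3 (by decide)]
      exact e_0_3
    · show T.picMatrix (τ 0) (τ 4) = 1
      rw [hfix 0 (by decide), hfix 4 (by decide)]
      exact e_0_4
    · show T.picMatrix (τ 1) (τ 0) = 1
      rw [hfix 1 (by decide), hfix 0 (by decide)]
      exact e_1_0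
    · show T.picMatrix (τ 1) (τ 2) = 0
      rw [hfix 1 (by decide), hfix 2 (by decide)]
      exact e_1_2
    · show T.picMatrix (τ 1) (τ 3) = 0
      rw [hfix 1 (by decide), hfix 3 (by decide)]
      exact e_1_3
    · show T.picMatrix (τ 1) (τ 4) = 0
      rw [hfix 1 (by decide), hfix 4 (by decide)]
      exact e_1_4
    · show T.picMatrix (τ 2) (τ 0) = 1
      rw [hfix 2 (by decide), hfix 0 (by decide)]
      exact e_2_0
    · show T.picMatrix (τ 2) (τ 1) = 0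
      rw [hfix 2 (by decide), hfix 1 (by decide)]
      exact e_2_1
    · show T.picMatrix (τ 2) (τ 3) = 0
      rw [hfix 2 (by decide), hfix 3 (by decide)]
      exact e_2_3
    · show T.picMatrix (τ 2) (τ 4) = 0
      rw [hfix 2 (by decide), hfix 4 (by decide)]
      exact e_2_4
    · show T.picMatrix (τ 3) (τ 0) = 1
      rw [hfix 3 (by decide), hfix 0 (by decide)]
      exact e_3_0
    · show T.picMatrix (τ 3) (τ 1) = 0
      rw [hfix 3 (by decide), hfix 1 (by decide)]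
      exact e_3_1
    · show T.picMatrix (τ 3) (τ 2) = 0
      rw [hfix 3 (by decide), hfix 2 (by decide)]
      exact e_3_2
    · show T.picMatrix (τ 3) (τ 4) = 0
      rw [hfix 3 (by decide), hfix 4 (by decide)]
      exact e_3_4
    · show T.picMatrix (τ 4) (τ 0) = 1
      rw [hfix 4 (by decide), hfix 0 (by decide)]
      exact e_4_0
    · show T.picMatrix (τ 4) (τ 1) = 0
      rw [hfix 4 (by decide), hfix 1 (by decide)]
      exact e_4_1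
    · show T.picMatrix (τ 4) (τ 2) = 0
      rw [hfix 4 (by decide), hfix 2 (by decide)]
      exact e_4_2
    · show T.picMatrix (τ 4) (τ 3) = 0
      rw [hfix 4 (by decide), hfix 3 (by decide)]
      exact e_4_3

theorem ex_207 (T : Models.NumericalType 6)
    (hG : NTGood T)
    (hmax : ∀ j, T.m j ≤ T.m 0)
    (e_0_1 : T.picMatrix 0 1 = 1)
    (e_0_2 : T.picMatrix 0 2 = 1)
    (e_0_3 : T.picMatrix 0 3 = 1)
    (e_0_4 : T.picMatrix 0 4 = 1)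
    (e_1_0 : T.picMatrix 1 0 = 1)
    (e_1_2 : T.picMatrix 1 2 = 0)
    (e_1_3 : T.picMatrix 1 3 = 0)
    (e_1_4 : T.picMatrix 1 4 = 0)
    (e_2_0 : T.picMatrix 2 0 = 1)
    (e_2_1 : T.picMatrix 2 1 = 0)
    (e_2_3 : T.picMatrix 2 3 = 0)
    (e_2_4 : T.picMatrix 2 4 = 0)
    (e_3_0 : T.picMatrix 3 0 = 1)
    (e_3_1 : T.picMatrix 3 1 = 0)
    (e_3_2 : T.picMatrix 3 2 = 0)
    (e_3_4 : T.picMatrix 3 4 = 0)
    (e_4_0 : T.picMatrix 4 0 = 1)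
    (e_4_1 : T.picMatrix 4 1 = 0)
    (e_4_2 : T.picMatrix 4 2 = 0)
    (e_4_3 : T.picMatrix 4 3 = 0)
    (cl : ∀ a b : Fin 6, a.val < 0 → 6 ≤ b.val → T.picMatrix a b = 0)
    (z : ∀ a : Fin 6, a.val < 0 → T.picMatrix a 5 = 0)
    (hne : T.picMatrix 0 5 ≠ 0) :
    Goal T := by
  obtain ⟨hg0, hdA, hdP, hnn, hrow, hsym, hpair⟩ := ntgood_data T (by norm_num) hG
  have hm_0 := T.m_pos 0
  have hw_0 := T.w_pos 0
  have hm_1 := T.m_pos 1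
  have hw_1 := T.w_pos 1
  have hm_2 := T.m_pos 2
  have hw_2 := T.w_pos 2
  have hm_3 := T.m_pos 3
  have hw_3 := T.w_pos 3
  have hm_4 := T.m_pos 4
  have hw_4 := T.w_pos 4
  have hm_5 := T.m_pos 5
  have hw_5 := T.w_pos 5
  have hx_1 := hmax 1
  have hx_2 := hmax 2
  have hx_3 := hmax 3
  have hx_4 := hmax 4
  have hx_5 := hmax 5
  have N_0_5 := mul_nonneg (hnn 0 5 (by decide)) (T.m_pos 5).le
  have N_5_0 := mul_nonneg (hnn 5 0 (by decide)) (T.m_pos 0).le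
  have N_1_5 := mul_nonneg (hnn 1 5 (by decide)) (T.m_pos 5).le
  have N_5_1 := mul_nonneg (hnn 5 1 (by decide)) (T.m_pos 1).le
  have N_2_5 := mul_nonneg (hnn 2 5 (by decide)) (T.m_pos 5).le
  have N_5_2 := mul_nonneg (hnn 5 2 (by decide)) (T.m_pos 2).le
  have N_3_5 := mul_nonneg (hnn 3 5 (by decide)) (T.m_pos 5).le
  have N_5_3 := mul_nonneg (hnn 5 3 (by decide)) (T.m_pos 3).le
  have N_4_5 := mul_nonneg (hnn 4 5 (by decide)) (T.m_pos 5).le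
  have N_5_4 := mul_nonneg (hnn 5 4 (by decide)) (T.m_pos 4).le
  have R_0 := hrow 0
  rw [Fin.sum_univ_six, hdP 0, e_0_1, e_0_2, e_0_3, e_0_4] at R_0
  have R_1 := hrow 1
  rw [Fin.sum_univ_six, hdP 1, e_1_0, e_1_2, e_1_3, e_1_4] at R_1
  have R_2 := hrow 2
  rw [Fin.sum_univ_six, hdP 2, e_2_0, e_2_1, e_2_3, e_2_4] at R_2
  have R_3 := hrow 3
  rw [Fin.sum_univ_six, hdP 3, e_3_0, e_3_1, e_3_2, e_3_4] at R_3
  have R_4 := hrow 4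
  rw [Fin.sum_univ_six, hdP 4, e_4_0, e_4_1, e_4_2, e_4_3] at R_4
  have R_5 := hrow 5
  rw [Fin.sum_univ_six, hdP 5] at R_5
  have S_0_1 := hsym 0 1
  rw [e_0_1, e_1_0] at S_0_1
  have S_0_2 := hsym 0 2
  rw [e_0_2, e_2_0] at S_0_2
  have S_0_3 := hsym 0 3
  rw [e_0_3, e_3_0] at S_0_3
  have S_0_4 := hsym 0 4
  rw [e_0_4, e_4_0] at S_0_4
  have S_0_5 := hsym 0 5
  have S_1_2 := hsym 1 2
  rw [e_1_2, e_2_1] at S_1_2
  have S_1_3 := hsym 1 3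
  rw [e_1_3, e_3_1] at S_1_3
  have S_1_4 := hsym 1 4
  rw [e_1_4, e_4_1] at S_1_4
  have S_1_5 := hsym 1 5
  have S_2_3 := hsym 2 3
  rw [e_2_3, e_3_2] at S_2_3
  have S_2_4 := hsym 2 4
  rw [e_2_4, e_4_2] at S_2_4
  have S_2_5 := hsym 2 5
  have S_3_4 := hsym 3 4
  rw [e_3_4, e_4_3] at S_3_4
  have S_3_5 := hsym 3 5
  have S_4_5 := hsym 4 5
  have Q_0 := hpair 0 5 (by decide)
  have Q_1 := hpair 1 5 (by decide)
  have Q_2 := hpair 2 5 (by decide)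
  have Q_3 := hpair 3 5 (by decide)
  have Q_4 := hpair 4 5 (by decide)
  generalize e_0_5 : T.picMatrix 0 5 = x_0 at *
  generalize e_5_0 : T.picMatrix 5 0 = y_0 at *
  generalize e_1_5 : T.picMatrix 1 5 = x_1 at *
  generalize e_5_1 : T.picMatrix 5 1 = y_1 at *
  generalize e_2_5 : T.picMatrix 2 5 = x_2 at *
  generalize e_5_2 : T.picMatrix 5 2 = y_2 at *
  generalize e_3_5 : T.picMatrix 3 5 = x_3 at *
  generalize e_5_3 : T.picMatrix 5 3 = y_3 at *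
  generalize e_4_5 : T.picMatrix 4 5 = x_4 at *
  generalize e_5_4 : T.picMatrix 5 4 = y_4 at *
  rcases Q_0 with ⟨rfl, rfl⟩ | ⟨rfl, rfl⟩ | ⟨rfl, rfl⟩ | ⟨rfl, rfl⟩ | ⟨rfl, rfl⟩ | ⟨rfl, rfl⟩ | ⟨rfl, rfl⟩ | ⟨rfl, rfl⟩ | ⟨rfl, rfl⟩
  · exact absurd rfl hne
  · omega
  · omega
  · omega
  · omega
  · omega
  · omega
  · omega
  · omega

theorem nd_197 (T : Models.NumericalType 6)
    (hG : NTGood T)
    (hmax : ∀ j, T.m j ≤ T.m 0)
    (e_0_1 : T.picMatrix 0 1 = 1)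
    (e_0_2 : T.picMatrix 0 2 = 1)
    (e_0_3 : T.picMatrix 0 3 = 1)
    (e_0_4 : T.picMatrix 0 4 = 1)
    (e_1_0 : T.picMatrix 1 0 = 1)
    (e_1_2 : T.picMatrix 1 2 = 0)
    (e_1_3 : T.picMatrix 1 3 = 0)
    (e_1_4 : T.picMatrix 1 4 = 0)
    (e_2_0 : T.picMatrix 2 0 = 1)
    (e_2_1 : T.picMatrix 2 1 = 0)
    (e_2_3 : T.picMatrix 2 3 = 0)
    (e_2_4 : T.picMatrix 2 4 = 0)
    (e_3_0 : T.picMatrix 3 0 = 1)
    (e_3_1 : T.picMatrix 3 1 = 0)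
    (e_3_2 : T.picMatrix 3 2 = 0)
    (e_3_4 : T.picMatrix 3 4 = 0)
    (e_4_0 : T.picMatrix 4 0 = 1)
    (e_4_1 : T.picMatrix 4 1 = 0)
    (e_4_2 : T.picMatrix 4 2 = 0)
    (e_4_3 : T.picMatrix 4 3 = 0)
    (cl : ∀ a b : Fin 6, a.val < 0 → 5 ≤ b.val → T.picMatrix a b = 0) :
    Goal T := by
  by_cases hc : ∀ b : Fin 6, 5 ≤ b.val → T.picMatrix 0 b = 0
  · exact nd_198 T hG hmax e_0_1 e_0_2 e_0_3 e_0_4 e_1_0 e_1_2 e_1_3 e_1_4 e_2_0 e_2_1 e_2_3 e_2_4 e_3_0 e_3_1 e_3_2 e_3_4 e_4_0 e_4_1 e_4_2 e_4_3 (nt_cl_succ T 5 0 0 rfl cl hc)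
  · obtain ⟨τ, hfix, cl', z, hne⟩ := nt_wlog_step T 5 (by norm_num) 0 (by norm_num) 0 (by decide) cl hc
    apply goal_relabel T τ
    refine ex_207 (ntRelabel T τ) (hG.relabel τ) ?_ ?_ ?_ ?_ ?_ ?_ ?_ ?_ ?_ ?_ ?_ ?_ ?_ ?_ ?_ ?_ ?_ ?_ ?_ ?_ ?_ cl' z hne
    · intro j
      show T.m (τ j) ≤ T.m (τ 0)
      rw [hfix 0 (by decide)]
      exact hmax _
    · show T.picMatrix (τ 0) (τ 1) = 1
      rw [hfix 0 (by decide), hfix 1 (by decide)]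
      exact e_0_1
    · show T.picMatrix (τ 0) (τ 2) = 1
      rw [hfix 0 (by decide), hfix 2 (by decide)]
      exact e_0_2
    · show T.picMatrix (τ 0) (τ 3) = 1
      rw [hfix 0 (by decide), hfix 3 (by decide)]
      exact e_0_3
    · show T.picMatrix (τ 0) (τ 4) = 1
      rw [hfix 0 (by decide), hfix 4 (by decide)]
      exact e_0_4
    · show T.picMatrix (τ 1) (τ 0) = 1
      rw [hfix 1 (by decide), hfix 0 (by decide)]
      exact e_1_0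
    · show T.picMatrix (τ 1) (τ 2) = 0
      rw [hfix 1 (by decide), hfix 2 (by decide)]
      exact e_1_2
    · show T.picMatrix (τ 1) (τ 3) = 0
      rw [hfix 1 (by decide), hfix 3 (by decide)]
      exact e_1_3
    · show T.picMatrix (τ 1) (τ 4) = 0
      rw [hfix 1 (by decide), hfix 4 (by decide)]
      exact e_1_4
    · show T.picMatrix (τ 2) (τ 0) = 1
      rw [hfix 2 (by decide), hfix 0 (by decide)]
      exact e_2_0
    · show T.picMatrix (τ 2) (τ 1) = 0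
      rw [hfix 2 (by decide), hfix 1 (by decide)]
      exact e_2_1
    · show T.picMatrix (τ 2) (τ 3) = 0
      rw [hfix 2 (by decide), hfix 3 (by decide)]
      exact e_2_3
    · show T.picMatrix (τ 2) (τ 4) = 0
      rw [hfix 2 (by decide), hfix 4 (by decide)]
      exact e_2_4
    · show T.picMatrix (τ 3) (τ 0) = 1
      rw [hfix 3 (by decide), hfix 0 (by decide)]
      exact e_3_0
    · show T.picMatrix (τ 3) (τ 1) = 0
      rw [hfix 3 (by decide), hfix 1 (by decide)]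
      exact e_3_1
    · show T.picMatrix (τ 3) (τ 2) = 0
      rw [hfix 3 (by decide), hfix 2 (by decide)]
      exact e_3_2
    · show T.picMatrix (τ 3) (τ 4) = 0
      rw [hfix 3 (by decide), hfix 4 (by decide)]
      exact e_3_4
    · show T.picMatrix (τ 4) (τ 0) = 1
      rw [hfix 4 (by decide), hfix 0 (by decide)]
      exact e_4_0
    · show T.picMatrix (τ 4) (τ 1) = 0
      rw [hfix 4 (by decide), hfix 1 (by decide)]
      exact e_4_1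
    · show T.picMatrix (τ 4) (τ 2) = 0
      rw [hfix 4 (by decide), hfix 2 (by decide)]
      exact e_4_2
    · show T.picMatrix (τ 4) (τ 3) = 0
      rw [hfix 4 (by decide), hfix 3 (by decide)]
      exact e_4_3

theorem ex_196 (T : Models.NumericalType 6)
    (hG : NTGood T)
    (hmax : ∀ j, T.m j ≤ T.m 0)
    (e_0_1 : T.picMatrix 0 1 = 1)
    (e_0_2 : T.picMatrix 0 2 = 1)
    (e_0_3 : T.picMatrix 0 3 = 1)
    (e_1_0 : T.picMatrix 1 0 = 1)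
    (e_1_2 : T.picMatrix 1 2 = 0)
    (e_1_3 : T.picMatrix 1 3 = 0)
    (e_2_0 : T.picMatrix 2 0 = 1)
    (e_2_1 : T.picMatrix 2 1 = 0)
    (e_2_3 : T.picMatrix 2 3 = 0)
    (e_3_0 : T.picMatrix 3 0 = 1)
    (e_3_1 : T.picMatrix 3 1 = 0)
    (e_3_2 : T.picMatrix 3 2 = 0)
    (cl : ∀ a b : Fin 6, a.val < 0 → 5 ≤ b.val → T.picMatrix a b = 0)
    (z : ∀ a : Fin 6, a.val < 0 → T.picMatrix a 4 = 0)
    (hne : T.picMatrix 0 4 ≠ 0) :
    Goal T := by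
  obtain ⟨hg0, hdA, hdP, hnn, hrow, hsym, hpair⟩ := ntgood_data T (by norm_num) hG
  have hm_0 := T.m_pos 0
  have hw_0 := T.w_pos 0
  have hm_1 := T.m_pos 1
  have hw_1 := T.w_pos 1
  have hm_2 := T.m_pos 2
  have hw_2 := T.w_pos 2
  have hm_3 := T.m_pos 3
  have hw_3 := T.w_pos 3
  have hm_4 := T.m_pos 4
  have hw_4 := T.w_pos 4
  have hx_1 := hmax 1
  have hx_2 := hmax 2
  have hx_3 := hmax 3
  have hx_4 := hmax 4
  have N_0_5 := mul_nonneg (hnn 0 5 (by decide)) (T.m_pos 5).le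
  have N_1_5 := mul_nonneg (hnn 1 5 (by decide)) (T.m_pos 5).le
  have N_2_5 := mul_nonneg (hnn 2 5 (by decide)) (T.m_pos 5).le
  have N_3_5 := mul_nonneg (hnn 3 5 (by decide)) (T.m_pos 5).le
  have N_4_5 := mul_nonneg (hnn 4 5 (by decide)) (T.m_pos 5).le
  have N_0_4 := mul_nonneg (hnn 0 4 (by decide)) (T.m_pos 4).le
  have N_4_0 := mul_nonneg (hnn 4 0 (by decide)) (T.m_pos 0).le
  have N_1_4 := mul_nonneg (hnn 1 4 (by decide)) (T.m_pos 4).le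
  have N_4_1 := mul_nonneg (hnn 4 1 (by decide)) (T.m_pos 1).le
  have N_2_4 := mul_nonneg (hnn 2 4 (by decide)) (T.m_pos 4).le
  have N_4_2 := mul_nonneg (hnn 4 2 (by decide)) (T.m_pos 2).le
  have N_3_4 := mul_nonneg (hnn 3 4 (by decide)) (T.m_pos 4).le
  have N_4_3 := mul_nonneg (hnn 4 3 (by decide)) (T.m_pos 3).le
  have R_0 := hrow 0
  rw [Fin.sum_univ_six, hdP 0, e_0_1, e_0_2, e_0_3] at R_0
  have R_1 := hrow 1
  rw [Fin.sum_univ_six, hdP 1, e_1_0, e_1_2, e_1_3] at R_1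
  have R_2 := hrow 2
  rw [Fin.sum_univ_six, hdP 2, e_2_0, e_2_1, e_2_3] at R_2
  have R_3 := hrow 3
  rw [Fin.sum_univ_six, hdP 3, e_3_0, e_3_1, e_3_2] at R_3
  have R_4 := hrow 4
  rw [Fin.sum_univ_six, hdP 4] at R_4
  have S_0_1 := hsym 0 1
  rw [e_0_1, e_1_0] at S_0_1
  have S_0_2 := hsym 0 2
  rw [e_0_2, e_2_0] at S_0_2
  have S_0_3 := hsym 0 3
  rw [e_0_3, e_3_0] at S_0_3
  have S_0_4 := hsym 0 4
  have S_1_2 := hsym 1 2
  rw [e_1_2, e_2_1] at S_1_2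
  have S_1_3 := hsym 1 3
  rw [e_1_3, e_3_1] at S_1_3
  have S_1_4 := hsym 1 4
  have S_2_3 := hsym 2 3
  rw [e_2_3, e_3_2] at S_2_3
  have S_2_4 := hsym 2 4
  have S_3_4 := hsym 3 4
  have Q_0 := hpair 0 4 (by decide)
  have Q_1 := hpair 1 4 (by decide)
  have Q_2 := hpair 2 4 (by decide)
  have Q_3 := hpair 3 4 (by decide)
  generalize e_0_4 : T.picMatrix 0 4 = x_0 at *
  generalize e_4_0 : T.picMatrix 4 0 = y_0 at *
  generalize e_1_4 : T.picMatrix 1 4 = x_1 at *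
  generalize e_4_1 : T.picMatrix 4 1 = y_1 at *
  generalize e_2_4 : T.picMatrix 2 4 = x_2 at *
  generalize e_4_2 : T.picMatrix 4 2 = y_2 at *
  generalize e_3_4 : T.picMatrix 3 4 = x_3 at *
  generalize e_4_3 : T.picMatrix 4 3 = y_3 at *
  rcases Q_0 with ⟨rfl, rfl⟩ | ⟨rfl, rfl⟩ | ⟨rfl, rfl⟩ | ⟨rfl, rfl⟩ | ⟨rfl, rfl⟩ | ⟨rfl, rfl⟩ | ⟨rfl, rfl⟩ | ⟨rfl, rfl⟩ | ⟨rfl, rfl⟩
  · exact absurd rfl hne
  · -- (0,4) = (1,1)
    rcases Q_1 with ⟨rfl, rfl⟩ | ⟨rfl, rfl⟩ | ⟨rfl, rfl⟩ | ⟨rfl, rfl⟩ | ⟨rfl, rfl⟩ | ⟨rfl, rfl⟩ | ⟨rfl, rfl⟩ | ⟨rfl, rfl⟩ | ⟨rfl, rfl⟩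
    · -- (1,4) = (0,0)
      rcases Q_2 with ⟨rfl, rfl⟩ | ⟨rfl, rfl⟩ | ⟨rfl, rfl⟩ | ⟨rfl, rfl⟩ | ⟨rfl, rfl⟩ | ⟨rfl, rfl⟩ | ⟨rfl, rfl⟩ | ⟨rfl, rfl⟩ | ⟨rfl, rfl⟩
      · -- (2,4) = (0,0)
        rcases Q_3 with ⟨rfl, rfl⟩ | ⟨rfl, rfl⟩ | ⟨rfl, rfl⟩ | ⟨rfl, rfl⟩ | ⟨rfl, rfl⟩ | ⟨rfl, rfl⟩ | ⟨rfl, rfl⟩ | ⟨rfl, rfl⟩ | ⟨rfl, rfl⟩
        · -- (3,4) = (0,0)
          exact nd_197 T hG hmax e_0_1 e_0_2 e_0_3 e_0_4 e_1_0 e_1_2 e_1_3 e_1_4 e_2_0 e_2_1 e_2_3 e_2_4 e_3_0 e_3_1 e_3_2 e_3_4 e_4_0 e_4_1 e_4_2 e_4_3 cl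
        · -- (3,4) = (1,1)
          omega
        · -- (3,4) = (1,2)
          omega
        · -- (3,4) = (2,1)
          omega
        · -- (3,4) = (1,3)
          omega
        · -- (3,4) = (3,1)
          omega
        · -- (3,4) = (1,4)
          omega
        · -- (3,4) = (4,1)
          omega
        · -- (3,4) = (2,2)
          omega
      · omega
      · omega
      · omega
      · omega
      · omega
      · omega
      · omega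
      · omega
    · omega
    · omega
    · omega
    · omega
    · omega
    · omega
    · omega
    · omega
  · omega
  · omega
  · omega
  · omega
  · omega
  · omega
  · omega

theorem nd_116 (T : Models.NumericalType 6)
    (hG : NTGood T)
    (hmax : ∀ j, T.m j ≤ T.m 0)
    (e_0_1 : T.picMatrix 0 1 = 1)
    (e_0_2 : T.picMatrix 0 2 = 1)
    (e_0_3 : T.picMatrix 0 3 = 1)
    (e_1_0 : T.picMatrix 1 0 = 1)
    (e_1_2 : T.picMatrix 1 2 = 0)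
    (e_1_3 : T.picMatrix 1 3 = 0)
    (e_2_0 : T.picMatrix 2 0 = 1)
    (e_2_1 : T.picMatrix 2 1 = 0)
    (e_2_3 : T.picMatrix 2 3 = 0)
    (e_3_0 : T.picMatrix 3 0 = 1)
    (e_3_1 : T.picMatrix 3 1 = 0)
    (e_3_2 : T.picMatrix 3 2 = 0)
    (cl : ∀ a b : Fin 6, a.val < 0 → 4 ≤ b.val → T.picMatrix a b = 0) :
    Goal T := by
  by_cases hc : ∀ b : Fin 6, 4 ≤ b.val → T.picMatrix 0 b = 0
  · exact nd_117 T hG hmax e_0_1 e_0_2 e_0_3 e_1_0 e_1_2 e_1_3 e_2_0 e_2_1 e_2_3 e_3_0 e_3_1 e_3_2 (nt_cl_succ T 4 0 0 rfl cl hc)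
  · obtain ⟨τ, hfix, cl', z, hne⟩ := nt_wlog_step T 4 (by norm_num) 0 (by norm_num) 0 (by decide) cl hc
    apply goal_relabel T τ
    refine ex_196 (ntRelabel T τ) (hG.relabel τ) ?_ ?_ ?_ ?_ ?_ ?_ ?_ ?_ ?_ ?_ ?_ ?_ ?_ cl' z hne
    · intro j
      show T.m (τ j) ≤ T.m (τ 0)
      rw [hfix 0 (by decide)]
      exact hmax _
    · show T.picMatrix (τ 0) (τ 1) = 1
      rw [hfix 0 (by decide), hfix 1 (by decide)]
      exact e_0_1
    · show T.picMatrix (τ 0) (τ 2) = 1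
      rw [hfix 0 (by decide), hfix 2 (by decide)]
      exact e_0_2
    · show T.picMatrix (τ 0) (τ 3) = 1
      rw [hfix 0 (by decide), hfix 3 (by decide)]
      exact e_0_3
    · show T.picMatrix (τ 1) (τ 0) = 1
      rw [hfix 1 (by decide), hfix 0 (by decide)]
      exact e_1_0
    · show T.picMatrix (τ 1) (τ 2) = 0
      rw [hfix 1 (by decide), hfix 2 (by decide)]
      exact e_1_2
    · show T.picMatrix (τ 1) (τ 3) = 0
      rw [hfix 1 (by decide), hfix 3 (by decide)]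
      exact e_1_3
    · show T.picMatrix (τ 2) (τ 0) = 1
      rw [hfix 2 (by decide), hfix 0 (by decide)]
      exact e_2_0
    · show T.picMatrix (τ 2) (τ 1) = 0
      rw [hfix 2 (by decide), hfix 1 (by decide)]
      exact e_2_1
    · show T.picMatrix (τ 2) (τ 3) = 0
      rw [hfix 2 (by decide), hfix 3 (by decide)]
      exact e_2_3
    · show T.picMatrix (τ 3) (τ 0) = 1
      rw [hfix 3 (by decide), hfix 0 (by decide)]
      exact e_3_0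
    · show T.picMatrix (τ 3) (τ 1) = 0
      rw [hfix 3 (by decide), hfix 1 (by decide)]
      exact e_3_1
    · show T.picMatrix (τ 3) (τ 2) = 0
      rw [hfix 3 (by decide), hfix 2 (by decide)]
      exact e_3_2

end Groth.Agent.Lib.helper4.G6
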